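import Cfsg.Agent.SemiCyclic.Model.Column

/-!
# The model from its subgroups
-/

set_option autoImplicit false
set_option linter.unusedSectionVars false

namespace Cfsg.Lib.SemiCyclic.Geo

open Cfsg Cfsg.Lib.Chars
open scoped Classical ComplexConjugate

universe u

variable {H : Type u} [Group H] [Fintype H] {z : H} {p : ℕ} (Γ : Geo H z p)

local notation "Qc" => ((sgnPrime p : ℤ) : ℂ)

include Γ

theorem isConj_u {a : H} (ha : orderOf a = 2) (haz : a ≠ z) : IsConj Γ.u a := by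
  have hsq : a * a = 1 := by rw [← pow_two]; exact orderOf_dvd_iff_pow_eq_one.1 (dvd_of_eq ha)
  have ho : ∀ r, IsConj r a → orderOf r = 2 := fun r hr => by
    obtain ⟨g, rfl⟩ := isConj_iff.1 hr
    rwa [← (SemiconjBy.conj_mk g r).orderOf_eq g] at ha
  have h3 := Γ.three_le
  rcases Γ.class_cases a with e | e | h | h | ⟨t, ht, h⟩ | ⟨s, hs, h⟩
  · rw [e, orderOf_one] at ha; exact absurd ha (by norm_num)
  · exact absurd e haz
  · have := (ho _ h).symm.trans Γ.x_ord; omega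
  · have := (ho _ h).symm.trans Γ.orderOf_zx; omega
  · obtain ⟨hT, h1, h2⟩ := mem_punct.1 ht
    have htt : t * t = 1 := by rw [← pow_two]; exact orderOf_dvd_iff_pow_eq_one.1 (dvd_of_eq (ho _ h))
    have hm : t ^ Γ.m = t := by
      obtain ⟨i, hi⟩ := Γ.m_odd
      rw [hi, pow_succ, pow_mul, pow_two, htt, one_pow, one_mul]
    exact ((Γ.involution_zpowers_a (hm ▸ Γ.pow_m_mem hT) htt).elim h1 h2).elim
  · obtain ⟨hS, h1, h2⟩ := mem_punct.1 hs
    have hm : s ^ sOdd p = s := by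
      obtain ⟨i, hi⟩ := Γ.sOdd_odd.1
      have hss : s * s = 1 := by rw [← pow_two]; exact orderOf_dvd_iff_pow_eq_one.1 (dvd_of_eq (ho _ h))
      rw [hi, pow_succ, pow_mul, pow_two, hss, one_pow, one_mul]
    rcases Γ.mem_four.1 (Γ.pow_sOdd_mem hS) with e | e | e | e <;> rw [hm] at e
    · exact absurd e h1
    · rwa [e] at h
    · exact absurd e h2
    · rw [e] at h
      exact (isConj_iff.2 ⟨Γ.τ, Γ.τ_conj⟩).trans h

theorem outer_not_N {a : H} (ha : orderOf a = 2) (haz : a ≠ z) : a ∉ Γ.N := fun h => by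
  obtain ⟨g, rfl⟩ := isConj_iff.1 (Γ.isConj_u ha haz)
  exact Γ.u_N ((Γ.index_conj g _).1 h)

omit Γ in
theorem mem_outerInv {a : H} : a ∈ outerInv z ↔ orderOf a = 2 ∧ a ≠ z := by
  simp [outerInv]

theorem pair_zero : pairSum z Γ.t0 = 0 :=
  Finset.sum_eq_zero fun a ha => Finset.sum_eq_zero fun b hb => Γ.t0_N (by
    rw [Subgroup.mul_mem_iff_of_index_two Γ.N_index]
    obtain ⟨a1, a2⟩ := mem_outerInv.1 ha
    obtain ⟨b1, b2⟩ := mem_outerInv.1 hb
    exact iff_of_false (Γ.outer_not_N a1 a2) (Γ.outer_not_N b1 b2))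

/-- The number of ways of writing an element as a product of two outer involutions. -/
noncomputable def ways (z y : H) : ℂ := ((outerInv z).filter fun a => a * y ∈ outerInv z).card

theorem pairSum_eq (f : H → ℂ) : pairSum z f = ∑ y, f y * ways z y := by
  have inv : ∀ a ∈ outerInv z, a * a = 1 := fun a ha => by
    rw [← pow_two]; exact orderOf_dvd_iff_pow_eq_one.1 (dvd_of_eq (mem_outerInv.1 ha).1)
  have e : pairSum z f = ∑ a ∈ outerInv z, ∑ y : H, if a * y ∈ outerInv z then f y else 0 := by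
    refine Finset.sum_congr rfl fun a ha => ?_
    rw [← Finset.sum_filter]
    refine Finset.sum_bij' (fun b _ => a * b) (fun y _ => a * y) (fun b hb => ?_) (fun y hy => ?_)
      (fun b _ => ?_) (fun y _ => ?_) fun b _ => rfl
    · rw [Finset.mem_filter, ← mul_assoc, inv a ha, one_mul]; exact ⟨Finset.mem_univ _, hb⟩
    · exact (Finset.mem_filter.1 hy).2
    · rw [← mul_assoc, inv a ha, one_mul]
    · rw [← mul_assoc, inv a ha, one_mul]
  rw [e, Finset.sum_comm]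
  refine Finset.sum_congr rfl fun y _ => ?_
  rw [← Finset.sum_filter, Finset.sum_const, nsmul_eq_mul, mul_comm]
  rfl

theorem ways_cls : IsClassFunction H (ways z) := by
  intro y g
  have hmem : ∀ a : H, g * a * g⁻¹ ∈ outerInv z ↔ a ∈ outerInv z := fun a => by
    rw [mem_outerInv, mem_outerInv, ← (SemiconjBy.conj_mk g a).orderOf_eq g]
    refine and_congr_right fun _ => not_congr ⟨fun h => ?_, fun h => by rw [h, Γ.conj_z]⟩
    calc a = g⁻¹ * (g * a * g⁻¹) * g⁻¹⁻¹ := by group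
      _ = z := by rw [h, Γ.conj_z]
  unfold ways
  congr 1
  refine (Finset.card_bij (fun a _ => g * a * g⁻¹) (fun a ha => ?_) (fun a _ b _ h => ?_) fun b hb => ?_).symm
  · obtain ⟨h1, h2⟩ := Finset.mem_filter.1 ha
    refine Finset.mem_filter.2 ⟨(hmem a).2 h1, ?_⟩
    rw [show g * a * g⁻¹ * (g * y * g⁻¹) = g * (a * y) * g⁻¹ by group]
    exact (hmem _).2 h2
  · simpa using h
  · obtain ⟨h1, h2⟩ := Finset.mem_filter.1 hb
    refine ⟨g⁻¹ * b * g, Finset.mem_filter.2 ⟨(hmem _).1 (by rwa [show g * (g⁻¹ * b * g) * g⁻¹ = b by group]),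
      (hmem _).1 ?_⟩, by group⟩
    rwa [show g * (g⁻¹ * b * g * y) * g⁻¹ = b * (g * y * g⁻¹) by group]

theorem card_T_inter : ∑ t : Γ.T, (if (t : H) ∈ Γ.N then (1 : ℂ) else 0) = (Nat.card Γ.T : ℂ) / 2 := by
  have h := Γ.sum_om (2 ^ Γ.k) 0
  rw [if_neg (by rw [Nat.zero_mod]; exact Γ.half_ne.2.1)] at h
  simp only [pow_zero, map_one, mul_one] at h
  rw [Finset.sum_congr rfl fun (t : Γ.T) _ => show (if (t : H) ∈ Γ.N then (1 : ℂ) else 0) =
      (1 + Γ.om (t : H) ^ 2 ^ Γ.k) / 2 by rw [Γ.om_sgn t.2]; split_ifs <;> norm_num,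
    ← Finset.sum_div, Finset.sum_add_distrib, h]
  simp

theorem ways_T {t : H} (ht : t ∈ punct Γ.T z) :
    ways z t = if t ∈ Γ.N then (Nat.card Γ.T : ℂ) / 2 else 0 := by
  obtain ⟨hT, h1, h2⟩ := mem_punct.1 ht
  by_cases hN : t ∈ Γ.N
  · rw [if_pos hN, ← Γ.card_T_inter, Finset.sum_boole, ways]
    congr 1
    refine (Finset.card_bij (fun (t' : Γ.T) _ => Γ.w * (t' : H)) (fun t' ht' => ?_)
      (fun (a : Γ.T) _ (b : Γ.T) _ (h : Γ.w * (a : H) = Γ.w * (b : H)) => Subtype.ext (mul_left_cancel h)) fun a ha => ?_).symm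
    · have key : ∀ v ∈ Γ.T, v ∈ Γ.N → Γ.w * v ∈ outerInv z := fun v hv hvN => by
        have hsq : Γ.w * v * (Γ.w * v) = 1 := by
          rw [show Γ.w * v * (Γ.w * v) = Γ.w * v * Γ.w * v by group]
          nth_rw 2 [← Γ.w_inv]
          rw [Γ.w_conj v hv hvN, inv_mul_cancel]
        have hnN : Γ.w * v ∉ Γ.N := fun h => Γ.w_N ((Subgroup.mul_mem_cancel_right _ hvN).1 h)
        refine mem_outerInv.2 ⟨?_, fun h => hnN (by rw [h]; exact Γ.z_N)⟩
        exact orderOf_eq_prime (by rw [pow_two]; exact hsq) fun h => hnN (by rw [h]; exact one_mem _)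
      have hv := (Finset.mem_filter.1 ht').2
      exact Finset.mem_filter.2 ⟨key _ t'.2 hv,
        by rw [mul_assoc]; exact key _ (mul_mem t'.2 hT) (mul_mem hv hN)⟩
    · obtain ⟨ha1, ha2⟩ := Finset.mem_filter.1 ha
      obtain ⟨a1, a2⟩ := mem_outerInv.1 ha1
      have hinv : a⁻¹ = a := inv_eq_of_mul_eq_one_right (by
        rw [← pow_two]; exact orderOf_dvd_iff_pow_eq_one.1 (dvd_of_eq a1))
      have hat : (a * t)⁻¹ = a * t := inv_eq_of_mul_eq_one_right (by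
        rw [← pow_two]; exact orderOf_dvd_iff_pow_eq_one.1 (dvd_of_eq (mem_outerInv.1 ha2).1))
      have haa : a * a = 1 := mul_eq_one_iff_eq_inv.2 hinv.symm
      have hconj : a * t * a⁻¹ = t⁻¹ := by rw [← hat, _root_.mul_inv_rev, hinv, mul_assoc, haa, mul_one]
      have haT : a ∉ Γ.T := fun h => by
        have hm : a ^ Γ.m = a := by
          obtain ⟨i, hi⟩ := Γ.m_odd
          rw [hi, pow_succ, pow_mul, orderOf_dvd_iff_pow_eq_one.1 (dvd_of_eq a1), one_pow, one_mul]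
        rcases Γ.involution_zpowers_a (hm ▸ Γ.pow_m_mem h)
            (by rw [← pow_two]; exact orderOf_dvd_iff_pow_eq_one.1 (dvd_of_eq a1)) with e | e
        · rw [e, orderOf_one] at a1; exact absurd a1 (by norm_num)
        · exact a2 e
      have hwa : Γ.w * a ∈ Γ.T :=
        (Γ.T_norm t hT h1 h2 a (by rw [hconj]; exact inv_mem hT)).resolve_left haT
      have hwaN : Γ.w * a ∈ Γ.N := by
        rw [Subgroup.mul_mem_iff_of_index_two Γ.N_index]
        exact iff_of_false Γ.w_N (Γ.outer_not_N a1 a2)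
      refine ⟨⟨Γ.w * a, hwa⟩, Finset.mem_filter.2 ⟨Finset.mem_univ _, hwaN⟩, ?_⟩
      show Γ.w * (Γ.w * a) = a
      nth_rw 1 [← Γ.w_inv]
      rw [inv_mul_cancel_left]
  · rw [if_neg hN, ways, Finset.filter_eq_empty_iff.2 fun a ha hat => hN ?_, Finset.card_empty, Nat.cast_zero]
    have h := Γ.outer_not_N (mem_outerInv.1 ha).1 (mem_outerInv.1 ha).2
    have h' := Γ.outer_not_N (mem_outerInv.1 hat).1 (mem_outerInv.1 hat).2
    rw [Subgroup.mul_mem_iff_of_index_two Γ.N_index] at h'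
    tauto

/-- The index of the character of order four. -/
def i0 : Idx Γ.k := Sum.inl ⟨2 ^ (Γ.k - 2) - 1, by
  have := Nat.one_le_two_pow (n := Γ.k - 2); omega⟩

theorem idx_i0 : idx Γ.k Γ.i0 = 2 * 2 ^ (Γ.k - 2) := by
  have := Nat.one_le_two_pow (n := Γ.k - 2)
  simp only [i0, idx]
  omega

theorem pair_one : pairSum z (Γ.tphi (idx Γ.k Γ.i0)) =
    ((sgnPrime p * (sgnPrime p + 1) * (sgnPrime p ^ 2 - 1) : ℤ) : ℂ) := by
  set j := idx Γ.k Γ.i0 with hj
  have he : (-1 : ℂ) ^ j = 1 := by rw [hj, Γ.idx_i0, pow_mul, neg_one_sq, one_pow]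
  obtain ⟨a1, a2, a3, a4, -, a6⟩ := Γ.tphi_values j
  rw [he, sub_self, zero_mul] at a2
  rw [he, sub_self] at a4
  obtain ⟨hh, hh0, hhp⟩ := Γ.half_ne
  obtain ⟨m1, m2, m3⟩ := Γ.idx_mod Γ.i0
  rw [← hj] at m1 m2 m3
  obtain ⟨c1, cz⟩ := Γ.ph_central j
  rw [he, sub_self, mul_zero] at cz
  rw [Γ.pairSum_eq, Γ.sum_eq (f := fun y => Γ.tphi j y * ways z y)
    (fun a b => by simp only [Γ.tphi_cls j a b, Γ.ways_cls a b])]
  simp only [a1, a2, a3, a4, zero_mul, zero_add, mul_zero]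
  rw [Finset.sum_eq_zero (s := punct Γ.S z) fun s hs => by rw [a6 s hs, zero_mul], mul_zero, add_zero]
  have eT : ∑ t ∈ punct Γ.T z, Γ.tphi j t * ways z t = (Nat.card Γ.T : ℂ) / 2 *
      ∑ t ∈ punct Γ.T z, (Γ.ph j t - Γ.ph j t * conj (Γ.ph (2 ^ Γ.k) t) / 4) := by
    rw [Finset.mul_sum]
    refine Finset.sum_congr rfl fun t ht => ?_
    rw [Γ.tphi_T j ht, Γ.ways_T ht, ← (Γ.t0_T ht).1, Γ.t0_values.2.2.2.2.1 t ht, Γ.sg_apply]
    split_ifs <;> simp [map_ofNat] <;> ring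
  have hne : j % 2 ^ (Γ.k + 1) ≠ partner Γ.k (2 ^ Γ.k) % 2 ^ (Γ.k + 1) := by rw [hhp]; exact m3
  rw [eT, Γ.sum_T_punct (fun t => Γ.ph j t - Γ.ph j t * conj (Γ.ph (2 ^ Γ.k) t) / 4), c1, cz,
    Finset.sum_sub_distrib, ← Finset.sum_div, Γ.sum_ph_one j m2, Γ.sum_ph_ph j _ m2 hh0,
    if_neg (by rw [hh]; exact m3), if_neg hne]
  have hT2 : (Nat.card Γ.T : ℂ) * Nat.card Γ.T = 4 * (Qc + 1) ^ 2 := by
    have h : (Nat.card Γ.T : ℤ) * Nat.card Γ.T = 4 * (sgnPrime p + 1) ^ 2 := by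
      rw [Γ.T_card]; push_cast; rw [show (2 * |sgnPrime p + 1|) * (2 * |sgnPrime p + 1|) =
        4 * |sgnPrime p + 1| ^ 2 by ring, sq_abs]
    exact_mod_cast h
  push_cast
  linear_combination (Qc * (Qc - 1) / 4) * hT2

/-- The model. -/
noncomputable def toModel (hsd : ∀ S : Sylow 2 H, Cfsg.IsQuasiDihedral ↥(S : Subgroup H)) :
    Model H z (sgnPrime p) where
  inv_class a b ha ha' hb hb' := (Γ.isConj_u ha ha').symm.trans (Γ.isConj_u hb hb')
  ι := Idx Γ.k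
  fin := inferInstance
  three_le := by
    rw [Nat.card_eq_fintype_card]
    have h := card_idx Γ.two_le_k
    have h4 := two_pow_quarter Γ.two_le_k
    have := Nat.one_le_two_pow (n := Γ.k - 2)
    omega
  sg i := (-1) ^ idx Γ.k i
  sg_sq i := by rw [← mul_pow]; norm_num
  sg_sum := by
    have h := sum_sign Γ.two_le_k
    exact_mod_cast h
  th0 := Γ.t0
  th2 := Γ.t2
  phi i := Γ.tphi (idx Γ.k i)
  test0 := Γ.tests.1
  test2 := Γ.tests.2.1
  test_phi i := Γ.tests.2.2 _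
  one0 := Γ.gram_t0.1
  one2 := Γ.gram_t2.1
  one_phi i := (Γ.gram_phi i).1
  inner00 := Γ.gram_t0.2.1
  inner22 := Γ.gram_t2.2
  inner02 := Γ.gram_t0.2.2
  inner0phi i := (Γ.gram_phi i).2.1
  inner2phi i := (Γ.gram_phi i).2.2
  inner_phi i := by rw [Γ.gram_phi_phi, if_pos rfl]
  inner_phi_ne i j h := by rw [Γ.gram_phi_phi, if_neg h]
  column _ hM y := by rw [Γ.column hsd hM y]; rfl
  i0 := Γ.i0
  sg_i0 := by rw [Γ.idx_i0, pow_mul, neg_one_sq, one_pow]
  pair0 := Γ.pair_zero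
  pair1 := Γ.pair_one

end Cfsg.Lib.SemiCyclic.Geo
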