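import Cfsg.Agent.SemiCyclic.Model.Top
import Cfsg.Agent.SemiCyclic.Model.Build

/-!
# The model exists
-/

set_option autoImplicit false
set_option linter.unusedSectionVars false

namespace Cfsg.Lib.SemiCyclic

open Cfsg.Lib.Known.AutPSL2
open scoped Pointwise
attribute [local instance 10] _root_.Classical.propDecidable

universe u

namespace Rep

variable {H : Type u} [Group H] [Fintype H] {z : H} {p : ℕ} [Fact p.Prime] (R : Rep H z p)

local notation "F" => ZMod p
local notation "M2" => Matrix (Fin 2) (Fin 2) (ZMod p)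

include R

theorem centralizer_le {A : Subgroup H} (hA : ∀ a ∈ A, ∀ b ∈ A, a * b = b * a) {s : H} (hs : s ∈ A) :
    A ≤ Subgroup.centralizer ({s} : Set H) :=
  fun b hb => Subgroup.mem_centralizer_singleton_iff.2 (hA b hb s hs)

/-- The element of order `2 ^ m` and the involution. -/
theorem exists_gens : ∃ (k : ℕ) (a w : H), 2 ≤ k ∧ orderOf a = 2 ^ (k + 1) ∧ a ∉ R.N ∧ orderOf w = 2 ∧ w ∉ R.N ∧
    w * a * w⁻¹ = a⁻¹ * z ∧ a ^ (2 ^ k) = z ∧ ∃ r : ℕ, Odd r ∧ Nat.card H = 2 ^ (k + 2) * r := by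
  haveI : Fact (Nat.Prime 2) := ⟨Nat.prime_two⟩
  obtain ⟨S⟩ : Nonempty (Sylow 2 H) := inferInstance
  obtain ⟨m, A, B, hm, hg⟩ := Cfsg.Lib.QD.exists_gen (R.sd S)
  obtain ⟨k, rfl⟩ : ∃ k, m = k + 1 := ⟨m - 1, by omega⟩
  simp only [Nat.add_sub_cancel] at hg
  set a := (A : H) with ha
  set w := (B : H) with hw
  have aord : orderOf a = 2 ^ (k + 1) := by rw [ha, Subgroup.orderOf_coe, hg.ord]
  have wsq : w * w = 1 := by
    have h := congrArg Subtype.val hg.sq
    simpa using h
  have hcard : ∃ r : ℕ, Odd r ∧ Nat.card H = 2 ^ (k + 2) * r := by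
    refine ⟨(S : Subgroup H).index, ?_, ?_⟩
    · rw [Nat.odd_iff]
      have := S.not_dvd_index
      omega
    · rw [← (S : Subgroup H).card_mul_index, hg.card]
  have sq_N : a * a ∈ R.N := Subgroup.mul_self_mem_of_index_two R.index a
  have hz : a ^ (2 ^ k) = z := by
    have hN : a ^ (2 ^ k) ∈ R.N := by
      rw [show 2 ^ k = 2 * 2 ^ (k - 1) by rw [← pow_succ']; congr 1; omega, pow_mul, pow_two]
      exact pow_mem sq_N _
    refine (R.invol_N hN ?_).resolve_left fun h => ?_
    · rw [← pow_add, ← two_mul, ← pow_succ', ← aord]; exact pow_orderOf_eq_one a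
    · have h1 := Nat.le_of_dvd (Nat.two_pow_pos k) (orderOf_dvd_of_pow_eq_one h)
      rw [aord] at h1
      have := Nat.pow_lt_pow_right (show 1 < 2 by norm_num) (Nat.lt_succ_self k)
      omega
  have wconj : w * a * w⁻¹ = a⁻¹ * z := by
    have h := congrArg Subtype.val hg.conj
    simp only [Subgroup.coe_mul, Subgroup.coe_inv, Subgroup.coe_zpow] at h
    refine h.trans ?_
    rw [← hz, ← ha, zpow_sub_one, ← zpow_natCast a (2 ^ k)]
    push_cast
    exact ((Commute.self_zpow a _).inv_left.eq).symm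
  have wne : w ≠ 1 := fun h => hg.notMem (by rw [show B = 1 from Subtype.ext h]; exact one_mem _)
  have wN : w ∉ R.N := fun hN => (R.invol_N hN wsq).elim wne fun h => hg.notMem (by
    rw [show B = A ^ (2 ^ k) from Subtype.ext (by rw [Subgroup.coe_pow, ← ha, hz]; exact h)]
    exact pow_mem (Subgroup.mem_zpowers A) _)
  have aN : a ∉ R.N := by
    intro hN
    have h8 : 8 ≤ 2 ^ (k + 1) := by
      calc 8 = 2 ^ 3 := rfl
        _ ≤ _ := Nat.pow_le_pow_right two_pos hm
    have hns : ¬ IsScal (R.ex ⟨a, hN⟩) := fun h => by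
      rcases R.central_N h with e | e
      · change a = 1 at e; rw [e, orderOf_one] at aord; omega
      · change a = z at e; rw [e, R.z_ord] at aord; omega
    have hC := R.card_centralizer_N ⟨a, hN⟩ hns
    set C := Subgroup.centralizer ({a} : Set H) with hCdef
    have haC : a ∈ C := Subgroup.mem_centralizer_singleton_iff.2 rfl
    have hdC : 2 ^ (k + 1) ∣ Nat.card C := aord ▸ Subgroup.orderOf_dvd_natCard C haC
    obtain ⟨r, hr, hH⟩ := hcard
    obtain ⟨mm, hmm⟩ := hdC
    have hcomm : ∀ u ∈ C, ∀ v ∈ C, u * v = v * u := R.comm_centralizer_N ⟨a, hN⟩ hns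
    have hD : disc (R.ex ⟨a, hN⟩) ≠ 0 := fun h0 => by
      change (Nat.card C : ℤ) = _ at hC
      rw [h0, quadraticChar_zero, sub_zero] at hC
      have h4 : 8 ∣ 2 * p := by
        have : Nat.card C = 2 * p := by omega
        rw [← this, hmm, show 2 ^ (k + 1) = 8 * 2 ^ (k - 2) by
          rw [show (8 : ℕ) = 2 ^ 3 from rfl, ← pow_add]; congr 1; omega]
        exact ⟨2 ^ (k - 2) * mm, by ring⟩
      have := R.p_odd
      omega
    obtain ⟨h, hhN, hh⟩ := R.exists_outside ⟨a, hN⟩ hns hD wN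
    have hmodd : Odd mm := by
      rw [← Nat.not_even_iff_odd]
      rintro ⟨c, hc⟩
      have hsub : 2 ^ (k + 2) ∣ Nat.card C := ⟨c, by rw [hmm, hc, pow_succ 2 (k + 1)]; ring⟩
      obtain ⟨P, hP⟩ := Sylow.exists_subgroup_card_pow_prime 2 hsub
      have hSc : Nat.card ↥(S : Subgroup H) = 2 ^ (k + 2) := hg.card
      let P' : Sylow 2 H := Sylow.ofCard (P.map C.subtype) (by
        rw [Subgroup.card_map_of_injective C.subtype_injective, hP, ← hSc, S.card_eq_multiplicity])
      obtain ⟨g, hg'⟩ := MulAction.exists_smul_eq H P' S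
      have inP : ∀ v : H, v ∈ (S : Subgroup H) → g⁻¹ * v * g ∈ C := fun v hv => by
        rw [← hg'] at hv
        change v ∈ (MulAut.conj g • (P' : Subgroup H)) at hv
        rw [Subgroup.mem_smul_pointwise_iff_exists] at hv
        obtain ⟨q, hq, rfl⟩ := hv
        obtain ⟨q', -, rfl⟩ := hq
        simp only [MulAut.smul_def, MulAut.conj_apply, Subgroup.coe_subtype]
        rw [show g⁻¹ * (g * (q' : H) * g⁻¹) * g = (q' : H) by group]
        exact q'.2
      have e := hcomm _ (inP a A.2) _ (inP w B.2)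
      have e2 : a * w = w * a := by
        calc a * w = g * ((g⁻¹ * a * g) * (g⁻¹ * w * g)) * g⁻¹ := by group
          _ = g * ((g⁻¹ * w * g) * (g⁻¹ * a * g)) * g⁻¹ := by rw [e]
          _ = w * a := by group
      rw [← e2, mul_inv_cancel_right] at wconj
      have h4 : a ^ 4 = 1 := by
        have e3 : a * a = z := by
          calc a * a = a * (a⁻¹ * z) := congrArg (a * ·) wconj
            _ = z := mul_inv_cancel_left a z
        rw [show (4 : ℕ) = 2 * 2 from rfl, pow_mul, sq a, e3, sq, R.z_sq]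
      have := Nat.le_of_dvd (by norm_num) (aord ▸ orderOf_dvd_of_pow_eq_one h4)
      omega
    have hle : Subgroup.zpowers a ≤ C := Subgroup.zpowers_le.2 haC
    have hmem : h ^ mm ∈ Subgroup.zpowers a :=
      mem_of_coprime_card hcomm hle (pow_mem (Subgroup.mem_centralizer_singleton_iff.2 hh) _)
        (n := 2 ^ (k + 1)) (r := mm)
        (by
          rw [← pow_mul, mul_comm, ← hmm]
          exact congrArg Subtype.val (pow_card_eq_one' (G := C) (x := ⟨h, Subgroup.mem_centralizer_singleton_iff.2 hh⟩)))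
        (by rw [Nat.card_zpowers, aord, hmm])
        (Nat.Coprime.pow_left _ (Nat.coprime_two_left.2 hmodd))
    have hN' : h ^ mm ∈ R.N := Subgroup.zpowers_le.2 hN hmem
    obtain ⟨j, rfl⟩ := hmodd
    rw [pow_succ, pow_mul, Subgroup.mul_mem_cancel_left _
      (pow_mem (by rw [pow_two]; exact Subgroup.mul_self_mem_of_index_two R.index h) j)] at hN'
    exact hhN hN'
  exact ⟨k, a, w, by omega, aord, aN, orderOf_eq_prime (by rw [pow_two]; exact wsq) wne, wN, wconj, hz, hcard⟩

/-- The model subgroups. -/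
theorem nonempty_geo {u : H} (hu : orderOf u = 2) (huN : u ∉ R.N) (h3 : 3 ≤ p) : Nonempty (Geo H z p) := by
  haveI : Fact (Nat.Prime 2) := ⟨Nat.prime_two⟩
  obtain ⟨k, a, w, hk, aord, aN, word, wN, wconj, hz, r, hr, hH⟩ := R.exists_gens
  have hp := R.p_odd
  have h2k : 4 ≤ 2 ^ k := by
    calc 4 = 2 ^ 2 := rfl
      _ ≤ _ := Nat.pow_le_pow_right two_pos hk
  have hk1 : 2 ^ (k + 1) = 2 * 2 ^ k := pow_succ' 2 k
  -- the torus `T`
  have aaN : a * a ∈ R.N := Subgroup.mul_self_mem_of_index_two R.index a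
  have aaord : orderOf (a * a) = 2 ^ k := by
    rw [← pow_two, orderOf_pow_of_dvd two_ne_zero (by rw [aord, hk1]; exact dvd_mul_right _ _), aord, hk1,
      Nat.mul_div_cancel_left _ two_pos]
  have aa1 : a * a ≠ 1 := fun h => by rw [h, orderOf_one] at aaord; omega
  have aaz : a * a ≠ z := fun h => by rw [h, R.z_ord] at aaord; omega
  have hns := R.not_scal aaN aa1 aaz
  set X := R.ex ⟨a * a, aaN⟩ with hX
  set T := Subgroup.centralizer ({a * a} : Set H) with hT
  have Tcomm : ∀ s ∈ T, ∀ t ∈ T, s * t = t * s := R.comm_centralizer_N ⟨a * a, aaN⟩ hns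
  have aT : a ∈ T := Subgroup.mem_centralizer_singleton_iff.2 (mul_assoc _ _ _).symm
  have hTc : (Nat.card T : ℤ) = 2 * ((p : ℤ) - quadraticChar (ZMod p) (disc X)) :=
    R.card_centralizer_N ⟨a * a, aaN⟩ hns
  have hdT : 2 ^ (k + 1) ∣ Nat.card T := aord ▸ Subgroup.orderOf_dvd_natCard T aT
  have h8 : (8 : ℤ) ∣ (Nat.card T : ℤ) := by
    have : 8 ∣ Nat.card T := (show 8 ∣ 2 ^ (k + 1) from
      ⟨2 ^ (k - 2), by rw [show (8 : ℕ) = 2 ^ 3 from rfl, ← pow_add]; congr 1; omega⟩).trans hdT
    exact_mod_cast this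
  have hD : disc X ≠ 0 := fun h0 => by
    rw [h0, quadraticChar_zero, sub_zero] at hTc
    omega
  have Tcard : Nat.card T = 2 * (sgnPrime p + 1).natAbs := by
    rcases quadraticChar_dichotomy hD with e | e <;> rw [e] at hTc <;> unfold sgnPrime <;> split_ifs <;> omega
  obtain ⟨mm, hmm⟩ := hdT
  have hQ : (sgnPrime p - 1).natAbs % 4 = 2 := by unfold sgnPrime; split_ifs <;> omega
  have hmodd : Odd mm := by
    obtain ⟨o, ho⟩ : ∃ o, (sgnPrime p - 1).natAbs = 2 * o := ⟨(sgnPrime p - 1).natAbs / 2, by omega⟩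
    have hcardH : Nat.card H = p * (sgnPrime p - 1).natAbs * Nat.card T := by
      have e := R.card_H
      have : (Nat.card H : ℤ) = ((p * (sgnPrime p - 1).natAbs * Nat.card T : ℕ) : ℤ) := by
        rw [e, Tcard]; push_cast
        unfold sgnPrime; split_ifs
        · rw [abs_of_nonneg (by omega), abs_of_nonneg (by omega)]; ring
        · rw [abs_of_nonpos (by omega), abs_of_nonpos (by omega)]; ring
      exact_mod_cast this
    rw [ho, hmm, hH] at hcardH
    have e : r = p * o * mm := by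
      refine Nat.eq_of_mul_eq_mul_left (Nat.two_pow_pos (k + 2)) (hcardH.trans ?_)
      rw [pow_succ 2 (k + 1)]; ring
    rw [e] at hr
    exact (Nat.odd_mul.1 hr).2
  have zT : z ∈ T := Subgroup.mem_centralizer_singleton_iff.2 (Subgroup.mem_center_iff.1 R.z_center _).symm
  have Tin : ∀ t ∈ T, t ^ mm ∈ Subgroup.zpowers a := fun t ht => by
    refine mem_of_coprime_card Tcomm (Subgroup.zpowers_le.2 aT) (pow_mem ht _) (n := 2 ^ (k + 1)) (r := mm) ?_
      (by rw [Nat.card_zpowers, aord, hmm]) (Nat.Coprime.pow_left _ (Nat.coprime_two_left.2 hmodd))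
    rw [← pow_mul, mul_comm, ← hmm]
    exact congrArg Subtype.val (pow_card_eq_one' (G := T) (x := ⟨t, ht⟩))
  have Tcent : ∀ t ∈ T, t ≠ 1 → t ≠ z → Subgroup.centralizer ({t} : Set H) = T := by
    intro t ht h1 h2
    refine le_antisymm ?_ (R.centralizer_le Tcomm ht)
    have key : ∀ s : H, s ∈ T → s ∈ R.N → s ≠ 1 → s ≠ z → Subgroup.centralizer ({s} : Set H) ≤ T := by
      intro s hs hsN s1 s2
      refine fun b hb => Subgroup.mem_centralizer_singleton_iff.2 ?_
      exact R.comm_centralizer_N ⟨s, hsN⟩ (R.not_scal hsN s1 s2) b hb (a * a)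
        (Subgroup.mem_centralizer_singleton_iff.2 (Tcomm _ (mul_mem aT aT) _ hs))
    by_cases htN : t ∈ R.N
    · exact key t ht htN h1 h2
    have hsqN := Subgroup.mul_self_mem_of_index_two R.index t
    have hnot : ¬ (t * t = 1 ∨ t * t = z) := fun hh => by
      have h4 : t ^ 4 = 1 := by
        rw [show (4 : ℕ) = 2 * 2 from rfl, pow_mul, sq t]
        rcases hh with e | e <;> rw [e, sq]
        · rw [one_mul]
        · rw [R.z_sq]
      obtain ⟨i, hi⟩ := Subgroup.mem_zpowers_iff.1 (Tin t ht)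
      have h4' : (a ^ i) ^ (4 : ℤ) = 1 := by
        rw [hi, show (4 : ℤ) = ((4 : ℕ) : ℤ) from rfl, zpow_natCast, ← pow_mul, mul_comm, pow_mul, h4, one_pow]
      rw [← zpow_mul, ← orderOf_dvd_iff_zpow_eq_one, aord] at h4'
      have hev : Even i := by
        have h8 : ((8 : ℤ)) ∣ i * 4 := dvd_trans
          ⟨2 ^ (k - 2), by push_cast; rw [show k + 1 = 3 + (k - 2) by omega, pow_add]; norm_num⟩ h4'
        rw [Int.even_iff]; omega
      obtain ⟨j, rfl⟩ := hev
      have hN' : t ^ mm ∈ R.N := by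
        rw [← hi, zpow_add, ← (Commute.refl a).mul_zpow]; exact Subgroup.zpow_mem _ aaN _
      obtain ⟨i', hi'⟩ := hmodd
      rw [hi', pow_succ, pow_mul, Subgroup.mul_mem_cancel_left _ (pow_mem (by rw [pow_two]; exact hsqN) _)] at hN'
      exact htN hN'
    exact le_trans (fun b hb => Subgroup.mem_centralizer_singleton_iff.2
      ((Commute.mul_right (show Commute b t from Subgroup.mem_centralizer_singleton_iff.1 hb)
        (show Commute b t from Subgroup.mem_centralizer_singleton_iff.1 hb)).eq))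
      (key _ (mul_mem ht ht) hsqN (fun e => hnot (Or.inl e)) (fun e => hnot (Or.inr e)))
  -- the element `w`
  have winv : w⁻¹ = w := inv_eq_of_mul_eq_one_right (by
    rw [← pow_two]; exact orderOf_dvd_iff_pow_eq_one.1 (dvd_of_eq word))
  have waa : w * (a * a) * w⁻¹ = (a * a)⁻¹ := by
    rw [show w * (a * a) * w⁻¹ = (w * a * w⁻¹) * (w * a * w⁻¹) by group, wconj]
    have hc : ∀ g : H, g * z = z * g := fun g => Subgroup.mem_center_iff.1 R.z_center g
    rw [show a⁻¹ * z * (a⁻¹ * z) = a⁻¹ * (z * a⁻¹) * z by group, ← hc,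
      show a⁻¹ * (a⁻¹ * z) * z = a⁻¹ * a⁻¹ * (z * z) by group, R.z_sq]
    group
  have hadj : ∀ n : R.N, R.ex n⁻¹ = (R.ex n).adjugate := fun n => by
    rw [ex, map_inv]; exact Matrix.SpecialLinearGroup.coe_inv _
  have wT : ∀ t ∈ T, t ∈ R.N → w * t * w⁻¹ = t⁻¹ := by
    intro t ht htN
    obtain ⟨α, β, hαβ⟩ := not_isScal_comm hns (X := X) (A := R.ex ⟨t, htN⟩) (by
      rw [hX, ← R.ex_mul, ← R.ex_mul, show (⟨t, htN⟩ : R.N) * ⟨a * a, aaN⟩ = ⟨a * a, aaN⟩ * ⟨t, htN⟩ from
        Subtype.ext (Tcomm t ht _ (mul_mem aT aT))])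
    have e1 : X.adjugate * R.mat w = R.mat w * X := by
      rw [hX, ← hadj, ← R.mat_spec]
      congr 2
      exact Subtype.ext waa.symm
    have e2 : R.ex (R.cj w ⟨t, htN⟩) = R.ex (⟨t, htN⟩ : R.N)⁻¹ := by
      refine cancel_det (R.mat_det w) ?_
      rw [R.mat_spec, hadj, hαβ]
      have eadj : (α • (1 : M2) + β • X).adjugate = α • (1 : M2) + β • X.adjugate := by
        rw [Matrix.adjugate_fin_two, Matrix.adjugate_fin_two]
        ext i j; fin_cases i <;> fin_cases j <;> simp
      rw [eadj, mul_add, add_mul, Matrix.mul_smul, Matrix.mul_smul, Matrix.smul_mul, Matrix.smul_mul, mul_one,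
        one_mul, e1]
    exact congrArg Subtype.val (R.ex_inj e2)
  have Tnorm : ∀ t ∈ T, t ≠ 1 → t ≠ z → ∀ g : H, g * t * g⁻¹ ∈ T → g ∈ T ∨ w * g ∈ T := by
    intro t ht h1 h2 g hg
    have hc : ∀ v : H, v * z = z * v := fun v => Subgroup.mem_center_iff.1 R.z_center v
    have hs := Tcent _ hg (fun e => h1 (conj_eq_one_iff.1 e)) (fun e => h2 (by
      calc t = g⁻¹ * (g * t * g⁻¹) * g := by group
        _ = z := by rw [e, mul_assoc, ← hc g, inv_mul_cancel_left]))
    have hcomm : Commute (a * a) t := Tcomm _ (mul_mem aT aT) _ ht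
    have hmem : g * (a * a) * g⁻¹ ∈ T := by
      rw [← hs, Subgroup.mem_centralizer_singleton_iff]
      calc g * (a * a) * g⁻¹ * (g * t * g⁻¹) = g * ((a * a) * t) * g⁻¹ := by group
        _ = g * (t * (a * a)) * g⁻¹ := by rw [hcomm.eq]
        _ = _ := by group
    set n : R.N := ⟨a * a, aaN⟩ with hn
    have hYX : R.ex (R.cj g n) * X = X * R.ex (R.cj g n) := by
      rw [hX, ← R.ex_mul, ← R.ex_mul]
      congr 1
      exact Subtype.ext (Tcomm _ hmem _ (mul_mem aT aT))
    have hunit : IsUnit (R.mat g).det := Ne.isUnit (R.mat_det g)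
    have hY : R.ex (R.cj g n) = R.mat g * X * (R.mat g)⁻¹ := by
      rw [hX, ← R.mat_spec, mul_assoc, Matrix.mul_nonsing_inv _ hunit, mul_one]
    have ht' : (R.ex (R.cj g n)).trace = X.trace := by
      rw [hY, Matrix.trace_mul_comm, ← mul_assoc, Matrix.nonsing_inv_mul _ hunit, one_mul]
    rcases conj_in_comm R.ne2 hns hD hYX ht' (by rw [R.ex_det, hX, R.ex_det]) with e | e
    · left
      have e' := congrArg Subtype.val (R.ex_inj (e.trans hX))
      exact Subgroup.mem_centralizer_singleton_iff.2 (mul_inv_eq_iff_eq_mul.1 e')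
    · right
      have e' : g * (a * a) * g⁻¹ = (a * a)⁻¹ :=
        congrArg Subtype.val (R.ex_inj (show R.ex (R.cj g n) = R.ex n⁻¹ by rw [hadj, e]))
      refine Subgroup.mem_centralizer_singleton_iff.2 (mul_inv_eq_iff_eq_mul.1 ?_)
      rw [show w * g * (a * a) * (w * g)⁻¹ = w * (g * (a * a) * g⁻¹) * w⁻¹ by group, e',
        show w * (a * a)⁻¹ * w⁻¹ = (w * (a * a) * w⁻¹)⁻¹ by group, waa, inv_inv]
  -- the torus `S`
  have usq : u * u = 1 := by rw [← pow_two]; exact orderOf_dvd_iff_pow_eq_one.1 (dvd_of_eq hu)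
  set S := Subgroup.centralizer ({u} : Set H) with hS
  have Scomm : ∀ s ∈ S, ∀ t ∈ S, s * t = t * s := R.comm_centralizer_invol huN
  have Scard : Nat.card S = 2 * (sgnPrime p - 1).natAbs := R.card_centralizer_invol huN usq
  have uS : u ∈ S := Subgroup.mem_centralizer_singleton_iff.2 rfl
  have invS : ∀ v ∈ S, v * v = 1 → v ∉ R.N → v = u ∨ v = u * z := by
    intro v hv hv2 hvN
    have hm : v * u ∈ R.N := (Subgroup.mul_mem_iff_of_index_two R.index).2 (iff_of_false hvN huN)
    have hsq : v * u * (v * u) = 1 := by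
      calc v * u * (v * u) = v * (u * v) * u := by group
        _ = v * (v * u) * u := by rw [Scomm u uS v hv]
        _ = (v * v) * (u * u) := by group
        _ = 1 := by rw [hv2, usq, one_mul]
    rcases R.invol_N hm hsq with e | e
    · exact Or.inl ((eq_inv_of_mul_eq_one_left e).trans (inv_eq_of_mul_eq_one_right usq))
    · right
      calc v = v * u * u := by rw [mul_assoc, usq, mul_one]
        _ = u * z := by rw [e, Subgroup.mem_center_iff.1 R.z_center u]
  have Scent : ∀ s ∈ S, s ≠ 1 → s ≠ z → Subgroup.centralizer ({s} : Set H) = S := by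
    intro s hs h1 h2
    refine le_antisymm ?_ (R.centralizer_le Scomm hs)
    have key : ∀ t : H, t ∈ S → t ∈ R.N → t ≠ 1 → t ≠ z → Subgroup.centralizer ({t} : Set H) ≤ S := by
      intro t ht htN t1 t2 b hb
      exact Subgroup.mem_centralizer_singleton_iff.2 (R.comm_centralizer_N ⟨t, htN⟩ (R.not_scal htN t1 t2) b hb u
        (Subgroup.mem_centralizer_singleton_iff.2 (Scomm _ uS _ ht)))
    by_cases hsN : s ∈ R.N
    · exact key s hs hsN h1 h2
    have hc : ∀ g : H, g * z = z * g := fun g => Subgroup.mem_center_iff.1 R.z_center g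
    have dbl : Subgroup.centralizer ({s} : Set H) ≤ Subgroup.centralizer ({s * s} : Set H) := fun b hb =>
      Subgroup.mem_centralizer_singleton_iff.2
        ((Commute.mul_right (show Commute b s from Subgroup.mem_centralizer_singleton_iff.1 hb)
          (show Commute b s from Subgroup.mem_centralizer_singleton_iff.1 hb)).eq)
    by_cases hss : s * s = 1
    · rcases invS s hs hss hsN with rfl | rfl
      · exact le_rfl
      · intro b hb
        refine Subgroup.mem_centralizer_singleton_iff.2 ?_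
        have e : b * (u * z) = u * z * b := Subgroup.mem_centralizer_singleton_iff.1 hb
        refine mul_right_cancel (b := z) ?_
        calc b * u * z = b * (u * z) := mul_assoc _ _ _
          _ = u * z * b := e
          _ = u * b * z := by rw [mul_assoc, ← hc b, mul_assoc]
    · refine le_trans dbl (key _ (mul_mem hs hs) (Subgroup.mul_self_mem_of_index_two R.index s) hss fun hz' => ?_)
      set n := s * u with hn
      have hnS : n ∈ S := mul_mem hs uS
      have hn2 : n * n = z := by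
        calc n * n = s * (u * s) * u := by rw [hn]; group
          _ = s * (s * u) * u := by rw [Scomm u uS s hs]
          _ = (s * s) * (u * u) := by group
          _ = z := by rw [hz', usq, mul_one]
      have hno : orderOf n = 4 := by
        refine orderOf_eq_prime_pow (p := 2) (n := 1) ?_ ?_
        · rw [pow_one, sq, hn2]; exact R.z_ne
        · rw [show 2 ^ (1 + 1) = 2 * 2 by norm_num, pow_mul, sq n, hn2, sq, R.z_sq]
      have hu' : u ∈ Subgroup.zpowers n := by
        refine mem_of_coprime_card Scomm (Subgroup.zpowers_le.2 hnS) uS (n := 2)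
          (r := (sgnPrime p - 1).natAbs / 2) (by rw [pow_two]; exact usq)
          (by rw [Nat.card_zpowers, hno, Scard]; omega) (Nat.coprime_two_left.2 (by rw [Nat.odd_iff]; omega))
      have hnN : n ∈ R.N := (Subgroup.mul_mem_iff_of_index_two R.index).2 (iff_of_false hsN huN)
      exact huN (Subgroup.zpowers_le.2 hnN hu')
  -- the element `τ`
  have htr := R.trace_involution huN usq
  have hMdet := R.mat_det u
  set A := R.mat u with hA
  obtain ⟨B, hB, hBA⟩ : ∃ B : M2, B.det ≠ 0 ∧ B * A = -(A * B) := by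
    rw [Matrix.trace_fin_two] at htr
    rw [Matrix.det_fin_two] at hMdet
    have hd : A 1 1 = -A 0 0 := by linear_combination htr
    by_cases hb : A 0 1 = 0
    · by_cases hc : A 1 0 = 0
      · refine ⟨!![0, 1; 1, 0], by simp [Matrix.det_fin_two], ?_⟩
        ext i j; fin_cases i <;> fin_cases j <;> simp [Matrix.mul_apply, Fin.sum_univ_two, hb, hc, hd]
      · refine ⟨!![1, -2 * A 0 0 / A 1 0; 0, -1], by simp [Matrix.det_fin_two], ?_⟩
        ext i j; fin_cases i <;> fin_cases j <;> simp [Matrix.mul_apply, Fin.sum_univ_two, hb, hd] <;>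
          field_simp <;> ring
    · by_cases hc : A 1 0 = 0
      · refine ⟨!![1, 0; -2 * A 0 0 / A 0 1, -1], by simp [Matrix.det_fin_two], ?_⟩
        ext i j; fin_cases i <;> fin_cases j <;> simp [Matrix.mul_apply, Fin.sum_univ_two, hc, hd] <;>
          field_simp <;> ring
      · refine ⟨!![0, A 0 1; -A 1 0, 0], by simp [Matrix.det_fin_two, hb, hc], ?_⟩
        ext i j; fin_cases i <;> fin_cases j <;> simp [Matrix.mul_apply, Fin.sum_univ_two, hd] <;> ring
  obtain ⟨τ, cτ, hcτ, hτ⟩ := R.count_fibres B hB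
  rw [hτ, Matrix.smul_mul, Matrix.mul_smul, ← smul_neg] at hBA
  have hanti : R.mat τ * A = -(A * R.mat τ) := smul_right_injective _ hcτ hBA
  have hτu : τ * u * τ⁻¹ = u * z := by
    obtain ⟨c, hc, e1⟩ := R.mat_mul τ u
    obtain ⟨d, hd, e2⟩ := R.mat_mul u τ
    rw [← hA, hanti] at e1
    rw [← hA] at e2
    have e3 : R.mat (τ * u) = (-(c⁻¹ * d)) • R.mat (u * τ) := by
      rw [e2] at e1
      rw [neg_smul, ← smul_smul, ← smul_neg, e1, smul_smul, inv_mul_cancel₀ hc, one_smul]
    rcases R.eq_of_mat e3 with e | e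
    · exfalso
      have h := (R.cent_invol_iff huN τ).1 e
      rw [← hA, hanti, neg_eq_iff_add_eq_zero, ← two_smul F, smul_eq_zero] at h
      rcases h with h | h
      · exact two_ne R.ne2 h
      · have h' := congrArg Matrix.det h
        rw [Matrix.det_mul, Matrix.det_zero] at h'
        exact mul_ne_zero (R.mat_det u) (R.mat_det τ) h'
    · rw [e, mul_assoc u τ z, Subgroup.mem_center_iff.1 R.z_center τ]; group
  have τS : ∀ s ∈ S, τ * s * τ⁻¹ ∈ S := by
    intro s hs
    have hsu : s * u = u * s := Subgroup.mem_centralizer_singleton_iff.1 hs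
    refine Subgroup.mem_centralizer_singleton_iff.2 (mul_right_cancel (b := z) ?_)
    calc τ * s * τ⁻¹ * u * z = τ * s * τ⁻¹ * (τ * u * τ⁻¹) := by rw [hτu, mul_assoc]
      _ = τ * (s * u) * τ⁻¹ := by group
      _ = τ * (u * s) * τ⁻¹ := by rw [hsu]
      _ = (τ * u * τ⁻¹) * (τ * s * τ⁻¹) := by group
      _ = u * (τ * s * τ⁻¹) * z := by rw [hτu, mul_assoc u z, ← Subgroup.mem_center_iff.1 R.z_center, mul_assoc u]
  have Snorm : ∀ s ∈ S, s ≠ 1 → s ≠ z → ∀ g : H, g * s * g⁻¹ ∈ S → g ∈ S ∨ τ⁻¹ * g ∈ S := by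
    intro s hs h1 h2 g hg
    have hs' := Scent _ hg (fun e => h1 (conj_eq_one_iff.1 e)) (fun e => h2 (by
      calc s = g⁻¹ * (g * s * g⁻¹) * g := by group
        _ = z := by rw [e, mul_assoc, ← Subgroup.mem_center_iff.1 R.z_center g, inv_mul_cancel_left]))
    have hmem : g * u * g⁻¹ ∈ S := by
      rw [← hs', Subgroup.mem_centralizer_singleton_iff]
      calc g * u * g⁻¹ * (g * s * g⁻¹) = g * (u * s) * g⁻¹ := by group
        _ = g * (s * u) * g⁻¹ := by rw [Scomm u uS s hs]
        _ = _ := by group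
    have hnN : g * u * g⁻¹ ∉ R.N := fun h => huN (by
      simpa [mul_assoc] using R.normal.conj_mem _ h g⁻¹)
    rcases invS _ hmem (by rw [show g * u * g⁻¹ * (g * u * g⁻¹) = g * (u * u) * g⁻¹ by group, usq]; group) hnN
      with e | e
    · exact Or.inl (Subgroup.mem_centralizer_singleton_iff.2 (mul_inv_eq_iff_eq_mul.1 e))
    · refine Or.inr (Subgroup.mem_centralizer_singleton_iff.2 (mul_inv_eq_iff_eq_mul.1 ?_))
      rw [show τ⁻¹ * g * u * (τ⁻¹ * g)⁻¹ = τ⁻¹ * (g * u * g⁻¹) * τ by group, e, ← hτu]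
      group
  exact ⟨
    { prime := Fact.out
      three_le := h3
      z_ord := R.z_ord
      z_center := R.z_center
      card := R.card_H
      N := R.N
      N_index := R.index
      z_N := R.z_N
      T := T
      T_comm := Tcomm
      T_card := Tcard
      T_cent := Tcent
      a := a
      k := k
      m := mm
      a_T := aT
      a_N := aN
      two_le_k := hk
      m_odd := hmodd
      T_two := hmm
      a_ord := aord
      w := w
      w_ord := word
      w_N := wN
      w_conj := wT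
      w_conj_a := wconj
      T_norm := Tnorm
      S := S
      S_comm := Scomm
      S_card := Scard
      S_cent := Scent
      u := u
      u_ord := hu
      u_S := uS
      u_N := huN
      τ := τ
      τ_conj := hτu
      τ_S := τS
      S_norm := Snorm
      x := (R.xN : H)
      x_ord := R.xN_ord
      x_cent := R.xN_cent
      x_conj := fun _ hy => R.xN_conj hy }⟩

end Rep

/-- The test functions exist on `SL(2, p)` extended by an involution. -/
theorem modelSpec : ModelSpec.{u} := by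
  intro H _ _ z p hT
  obtain ⟨hp, h3, hz, hc, ⟨N, -, hi, ⟨e⟩, u, huN, hu⟩, hsd⟩ := hT
  haveI := Fact.mk hp
  let R : Rep H z p := ⟨N, hi, e, by omega, hz, hc, hsd⟩
  obtain ⟨Γ⟩ := R.nonempty_geo hu huN h3
  exact ⟨Γ.toModel hsd⟩

end Cfsg.Lib.SemiCyclic
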