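import Mathlib
import Cfsg.Agent.Known.AutPSL2

/-!
# Two by two matrices over a field with `p` elements

Automorphisms of `SL(2, p)` are conjugations by matrices; the commutant of a nonscalar matrix is its span with the
identity, and the number of invertible elements in it depends only on the discriminant.
-/

set_option autoImplicit false

namespace Cfsg.Lib.SemiCyclic

open Matrix Cfsg.Lib.Known.AutPSL2
open scoped Classical

variable {p : ℕ} [Fact p.Prime]

local notation "F" => ZMod p
local notation "M2" => Matrix (Fin 2) (Fin 2) (ZMod p)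
local notation "SL" => Matrix.SpecialLinearGroup (Fin 2) (ZMod p)

theorem sl_pow_uS (x : F) (n : ℕ) : (uS x : SL) ^ n = uS ((n : F) * x) := by
  induction n with
  | zero => refine sl_ext ?_; simp [coe_uS, one_fin_two]
  | succ n ih => rw [pow_succ, ih, ← uS_add]; congr 1; push_cast; ring

theorem sl_pow_vS (x : F) (n : ℕ) : (vS x : SL) ^ n = vS ((n : F) * x) := by
  induction n with
  | zero => refine sl_ext ?_; simp [coe_vS, one_fin_two]
  | succ n ih => rw [pow_succ, ih, ← vS_add]; congr 1; push_cast; ring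

theorem two_ne (hp : p ≠ 2) : (2 : F) ≠ 0 := by
  intro h
  have h' : ((2 : ℕ) : F) = 0 := by exact_mod_cast h
  rw [ZMod.natCast_eq_zero_iff] at h'
  exact hp (((Nat.prime_dvd_prime_iff_eq Fact.out Nat.prime_two).1 h'))

/-- Automorphisms of `SL(2, p)`. -/
theorem aut_SL2 (hp : p ≠ 2) (α : MulAut SL) : ∃ g : GL (Fin 2) F, α = conjSL g := by
  have hF : Fintype.card F = p ^ 1 := by rw [ZMod.card, pow_one]
  obtain ⟨g, a, σ, hα⟩ := exists_decomp p le_rfl hF (liftPSL α)
  obtain ⟨N, rfl⟩ := QuotientGroup.mk_surjective g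
  have hσ : σ = 1 := AlgEquiv.ext fun x => by
    have := σ.commutes x
    simpa using this
  refine ⟨Matrix.SpecialLinearGroup.toGL N * diagGL a, ?_⟩
  set γ := conjSL (Matrix.SpecialLinearGroup.toGL N * diagGL a) with hγ
  have hlift : ∀ M : SL, π (α M) = π (γ M) := by
    intro M
    rw [← liftPSL_apply, hα, hσ, map_one, mul_one, MulAut.mul_apply, hγ, map_mul conjSL, MulAut.mul_apply]
    show MulAut.conj (π N) (liftPSL (conjSL (diagGL a)) (π M)) = _
    rw [liftPSL_apply, MulAut.conj_apply, ← map_inv, ← map_mul, ← map_mul]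
    congr 1
  have hroot : ∀ M : SL, M ^ p = 1 → α M = γ M := by
    intro M hM
    obtain ⟨c, hc, hcM⟩ := π_eq (hlift M)
    rcases mul_self_eq_one_iff.1 hc with rfl | rfl
    · exact sl_ext (by rw [hcM, one_smul])
    · exfalso
      have e1 : ((α M : SL) : M2) ^ p = 1 := by rw [← Matrix.SpecialLinearGroup.coe_pow, ← map_pow, hM, map_one]; rfl
      have e2 : ((γ M : SL) : M2) ^ p = 1 := by rw [← Matrix.SpecialLinearGroup.coe_pow, ← map_pow, hM, map_one]; rfl
      rw [hcM, smul_pow, e1, Odd.neg_one_pow ((Fact.out : p.Prime).odd_of_ne_two hp)] at e2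
      have h := congrFun (congrFun e2 0) 0
      simp at h
      exact two_ne hp (by linear_combination -h)
  have h : α.toMonoidHom.eqLocus γ.toMonoidHom = ⊤ :=
    Cfsg.Lib.Classical.eq_top_of_transvection_mem _ fun i j hij c => by
      have hu : ∀ x : F, α (uS x) = γ (uS x) := fun x => hroot _ (by
        rw [sl_pow_uS, ZMod.natCast_self, zero_mul]; refine sl_ext ?_; simp [coe_uS, one_fin_two])
      have hv : ∀ x : F, α (vS x) = γ (vS x) := fun x => hroot _ (by
        rw [sl_pow_vS, ZMod.natCast_self, zero_mul]; refine sl_ext ?_; simp [coe_vS, one_fin_two])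
      fin_cases i <;> fin_cases j
      · exact absurd rfl hij
      · show α _ = γ _
        convert hu c using 2 <;>
        · refine sl_ext ?_
          rw [Matrix.SpecialLinearGroup.transvection_coe, coe_uS]
          ext r s; fin_cases r <;> fin_cases s <;> simp [Matrix.single, Matrix.transvection]
      · show α _ = γ _
        convert hv c using 2 <;>
        · refine sl_ext ?_
          rw [Matrix.SpecialLinearGroup.transvection_coe, coe_vS]
          ext r s; fin_cases r <;> fin_cases s <;> simp [Matrix.single, Matrix.transvection]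
      · exact absurd rfl hij
  exact MulEquiv.ext fun M => (h ▸ Subgroup.mem_top M : M ∈ α.toMonoidHom.eqLocus γ.toMonoidHom)

/-- A matrix is scalar. -/
def IsScal (X : M2) : Prop := X 0 1 = 0 ∧ X 1 0 = 0 ∧ X 0 0 = X 1 1

theorem eq_smul_of_isScal {X : M2} (h : IsScal X) : X = X 0 0 • (1 : M2) := by
  obtain ⟨h1, h2, h3⟩ := h
  ext i j; fin_cases i <;> fin_cases j <;> simp [h1, h2, h3]

theorem isScal_smul_one (a : F) : IsScal (a • (1 : M2)) := by simp [IsScal]

theorem isScal_iff {X : M2} : IsScal X ↔ ∃ a : F, X = a • (1 : M2) :=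
  ⟨fun h => ⟨_, eq_smul_of_isScal h⟩, fun ⟨a, e⟩ => e ▸ isScal_smul_one a⟩

theorem not_isScal_comm {A X : M2} (hX : ¬ IsScal X) (h : A * X = X * A) :
    ∃ a b : F, A = a • (1 : M2) + b • X := by
  have e00 := congrFun (congrFun h 0) 0
  have e01 := congrFun (congrFun h 0) 1
  have e10 := congrFun (congrFun h 1) 0
  simp only [Matrix.mul_apply, Fin.sum_univ_two] at e00 e01 e10
  by_cases h1 : X 0 1 = 0
  · by_cases h2 : X 1 0 = 0
    · have h3 : X 0 0 - X 1 1 ≠ 0 := fun h => hX ⟨h1, h2, sub_eq_zero.1 h⟩
      have a01 : A 0 1 = 0 := (mul_eq_zero.1 (show (X 0 0 - X 1 1) * A 0 1 = 0 by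
        rw [h1] at e01; linear_combination -e01)).resolve_left h3
      have a10 : A 1 0 = 0 := (mul_eq_zero.1 (show (X 0 0 - X 1 1) * A 1 0 = 0 by
        rw [h2] at e10; linear_combination e10)).resolve_left h3
      refine ⟨A 0 0 - (A 0 0 - A 1 1) / (X 0 0 - X 1 1) * X 0 0, (A 0 0 - A 1 1) / (X 0 0 - X 1 1), ?_⟩
      ext i j; fin_cases i <;> fin_cases j <;> simp [h1, h2, a01, a10]
      field_simp
      ring
    · refine ⟨A 0 0 - A 1 0 / X 1 0 * X 0 0, A 1 0 / X 1 0, ?_⟩
      ext i j; fin_cases i <;> fin_cases j <;> simp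
      · rw [div_mul_eq_mul_div, eq_div_iff h2]; linear_combination e00
      · field_simp
      · field_simp
        linear_combination e10
  · refine ⟨A 0 0 - A 0 1 / X 0 1 * X 0 0, A 0 1 / X 0 1, ?_⟩
    ext i j; fin_cases i <;> fin_cases j <;> simp
    · field_simp
    · rw [div_mul_eq_mul_div, eq_div_iff h1]; linear_combination -e00
    · field_simp
      linear_combination -e01

theorem comm_of_comm {A B X : M2} (hX : ¬ IsScal X) (hA : A * X = X * A) (hB : B * X = X * B) :
    A * B = B * A := by
  obtain ⟨a, b, rfl⟩ := not_isScal_comm hX hA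
  simp only [add_mul, mul_add, Matrix.smul_mul, Matrix.mul_smul, one_mul, mul_one, hB]

/-- The discriminant. -/
def disc (X : M2) : F := X.trace ^ 2 - 4 * X.det

theorem det_span (X : M2) (a b : F) :
    (a • (1 : M2) + b • X).det = a ^ 2 + a * b * X.trace + b ^ 2 * X.det := by
  simp [Matrix.det_fin_two, Matrix.trace_fin_two]
  ring

/-- The number of invertible matrices in the commutant. -/
theorem card_comm (hp : p ≠ 2) {X : M2} (hX : ¬ IsScal X) :
    (Nat.card {A : GL (Fin 2) F // (A : M2) * X = X * (A : M2)} : ℤ) =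
      ((p : ℤ) - 1) * ((p : ℤ) - quadraticChar F (disc X)) := by
  let Φ : {q : F × F // (q.1 • (1 : M2) + q.2 • X).det ≠ 0} → {A : GL (Fin 2) F // (A : M2) * X = X * (A : M2)} :=
    fun q => ⟨Matrix.GeneralLinearGroup.mkOfDetNeZero _ q.2, by
      show (q.1.1 • (1 : M2) + q.1.2 • X) * X = X * (q.1.1 • (1 : M2) + q.1.2 • X)
      simp only [add_mul, mul_add, Matrix.smul_mul, Matrix.mul_smul, one_mul, mul_one]⟩
  have hΦ : Function.Bijective Φ := by
    constructor
    · rintro ⟨⟨a, b⟩, hq⟩ ⟨⟨a', b'⟩, hq'⟩ h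
      have e : a • (1 : M2) + b • X = a' • (1 : M2) + b' • X :=
        congrArg (fun A : {A : GL (Fin 2) F // (A : M2) * X = X * (A : M2)} => ((A.1 : GL (Fin 2) F) : M2)) h
      have e01 := congrFun (congrFun e 0) 1
      have e10 := congrFun (congrFun e 1) 0
      have e00 := congrFun (congrFun e 0) 0
      have e11 := congrFun (congrFun e 1) 1
      simp at e01 e10 e00 e11
      have hb : b = b' := by
        by_contra hb
        refine hX ⟨?_, ?_, ?_⟩
        · rcases e01 with e01 | e01
          exacts [absurd e01 hb, e01]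
        · rcases e10 with e10 | e10
          exacts [absurd e10 hb, e10]
        · exact sub_eq_zero.1 ((mul_eq_zero.1 (show (b - b') * (X 0 0 - X 1 1) = 0 by
            linear_combination e00 - e11)).resolve_left (sub_ne_zero.2 hb))
      subst hb
      have ha : a = a' := by linear_combination e00
      subst ha
      rfl
    · rintro ⟨A, hA⟩
      obtain ⟨a, b, hab⟩ := not_isScal_comm hX hA
      refine ⟨⟨(a, b), ?_⟩, Subtype.ext (Units.ext hab.symm)⟩
      rw [← hab]
      exact ((Matrix.isUnit_iff_isUnit_det _).1 A.isUnit).ne_zero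
  rw [← Nat.card_congr (Equiv.ofBijective Φ hΦ), Nat.card_eq_fintype_card, Fintype.card_subtype]
  set Z := Finset.univ.filter (fun q : F × F => (q.1 • (1 : M2) + q.2 • X).det = 0) with hZ
  have htot : (Finset.univ.filter fun q : F × F => (q.1 • (1 : M2) + q.2 • X).det ≠ 0).card + Z.card = p * p := by
    rw [hZ, add_comm, Finset.card_filter_add_card_filter_not, Finset.card_univ, Fintype.card_prod, ZMod.card]
  set R := Finset.univ.filter (fun r : F => r ^ 2 + r * X.trace + X.det = 0) with hR
  have hRcard : (R.card : ℤ) = quadraticChar F (disc X) + 1 := by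
    rw [← quadraticChar_card_sqrts (by rw [ZMod.ringChar_zmod_n]; exact hp)]
    congr 1
    refine Finset.card_bij' (fun r _ => 2 * r + X.trace) (fun x _ => (x - X.trace) / 2)
      (fun r hr => ?_) (fun x hx => ?_) (fun r _ => ?_) (fun x _ => ?_)
    · simp only [hR, Finset.mem_filter, Finset.mem_univ, true_and] at hr
      refine Set.mem_toFinset.2 (show (2 * r + X.trace) ^ 2 = disc X from ?_)
      rw [disc]
      linear_combination 4 * hr
    · have hx' := Set.mem_toFinset.1 hx
      change x ^ 2 = X.trace ^ 2 - 4 * X.det at hx'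
      simp only [hR, Finset.mem_filter, Finset.mem_univ, true_and]
      have := two_ne hp
      field_simp
      linear_combination hx'
    · have := two_ne hp; field_simp; ring
    · have := two_ne hp; field_simp; ring
  have hZcard : Z.card = 1 + (p - 1) * R.card := by
    have h0 : Z = {(0, 0)} ∪ ((Finset.univ.erase (0 : F)) ×ˢ R).image (fun q : F × F => (q.2 * q.1, q.1)) := by
      ext ⟨a, b⟩
      simp only [hZ, hR, Finset.mem_filter, Finset.mem_univ, true_and, det_span, Finset.mem_union,
        Finset.mem_singleton, Finset.mem_image, Finset.mem_product, Finset.mem_erase, and_true, Prod.mk.injEq,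
        Prod.exists]
      constructor
      · intro h
        by_cases hb : b = 0
        · left
          rw [hb] at h
          exact ⟨by simpa using h, hb⟩
        · exact Or.inr ⟨b, a / b, ⟨hb, by field_simp; linear_combination h⟩, by field_simp, rfl⟩
      · rintro (⟨rfl, rfl⟩ | ⟨c, r, ⟨hc, hr⟩, rfl, rfl⟩)
        · ring
        · linear_combination c ^ 2 * hr
    rw [h0, Finset.card_union_of_disjoint, Finset.card_singleton, Finset.card_image_of_injOn,
      Finset.card_product, Finset.card_erase_of_mem (Finset.mem_univ _), Finset.card_univ, ZMod.card]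
    · rintro ⟨b, r⟩ hq ⟨b', r'⟩ - h
      simp only [Prod.mk.injEq] at h
      obtain ⟨h1, rfl⟩ := h
      simp only [Finset.coe_product, Set.mem_prod, Finset.mem_coe, Finset.mem_erase] at hq
      rw [mul_right_cancel₀ hq.1.1 h1]
    · rw [Finset.disjoint_left]
      intro q hq hq'
      obtain ⟨⟨b, r⟩, hbr, rfl⟩ := Finset.mem_image.1 hq'
      simp at hq hbr
      exact hbr.1 hq.2
  have h1 : 1 ≤ p := (Fact.out : p.Prime).one_le
  have hc : ((Finset.univ.filter fun q : F × F => (q.1 • (1 : M2) + q.2 • X).det ≠ 0).card : ℤ) =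
      (p : ℤ) * p - (1 + ((p : ℤ) - 1) * (R.card : ℤ)) := by
    have e := congrArg (fun n : ℕ => (n : ℤ)) htot
    rw [hZcard] at e
    push_cast [Nat.cast_sub h1] at e
    linarith
  rw [hc, hRcard]
  ring

theorem card_GL2 : (Nat.card (GL (Fin 2) F) : ℤ) = ((p : ℤ) ^ 2 - 1) * ((p : ℤ) ^ 2 - p) := by
  rw [Matrix.card_GL_field, Fin.prod_univ_two, ZMod.card]
  have h1 : 1 ≤ p ^ 2 := Nat.one_le_pow _ _ (Fact.out : p.Prime).pos
  have h2 : p ≤ p ^ 2 := Nat.le_self_pow two_ne_zero p
  simp only [Fin.val_zero, pow_zero, Fin.val_one, pow_one]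
  push_cast [Nat.cast_sub h1, Nat.cast_sub h2]
  ring

/-- Conjugates commuting with the matrix. -/
theorem conj_in_comm (hp : p ≠ 2) {X Y : M2} (hX : ¬ IsScal X) (hD : disc X ≠ 0) (hc : Y * X = X * Y)
    (ht : Y.trace = X.trace) (hd : Y.det = X.det) : Y = X ∨ Y = X.adjugate := by
  obtain ⟨a, b, rfl⟩ := not_isScal_comm hX hc
  rw [det_span] at hd
  simp [Matrix.trace_fin_two] at ht
  have h2 := two_ne hp
  have hb : (b - 1) * (b + 1) = 0 := by
    refine (mul_eq_zero.1 (show (b - 1) * (b + 1) * disc X = 0 from ?_)).resolve_right hD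
    simp only [disc, Matrix.trace_fin_two] at hd ⊢
    linear_combination -4 * hd + ((a + a + b * X 0 0 + b * X 1 1) + (X 0 0 + X 1 1)) * ht
  rcases mul_eq_zero.1 hb with hb | hb
  · left
    have hb' : b = 1 := sub_eq_zero.1 hb
    subst hb'
    have ha : a = 0 := mul_left_cancel₀ h2 (by linear_combination ht)
    rw [ha, zero_smul, zero_add, one_smul]
  · right
    have hb' : b = -1 := eq_neg_of_add_eq_zero_left hb
    subst hb'
    have ha : a = X 0 0 + X 1 1 := mul_left_cancel₀ h2 (by linear_combination ht)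
    rw [ha, Matrix.adjugate_fin_two]
    ext i j; fin_cases i <;> fin_cases j <;> simp

end Cfsg.Lib.SemiCyclic
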