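import Cfsg.Agent.SemiCyclic.Model.Geo
import Cfsg.Agent.Chars.Induced

/-!
# The test functions of the model and their values

All are integral combinations of functions induced from linear characters of the two tori and of the centralizer
of a unipotent element, and of the two linear characters.
-/

set_option autoImplicit false
set_option linter.unusedSectionVars false

namespace Cfsg.Lib.SemiCyclic.Geo

open Cfsg Cfsg.Lib.Chars
open scoped Classical ComplexConjugate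

universe u

variable {H : Type u} [Group H] [Fintype H] {z : H} {p : ℕ} (Γ : Geo H z p)

local notation "Qc" => ((sgnPrime p : ℤ) : ℂ)

include Γ

theorem prime_odd : Odd p := Γ.prime.odd_of_ne_two (by have := Γ.three_le; omega)

theorem sgnPrime_mod : sgnPrime p % 4 = 3 := by
  obtain ⟨j, hj⟩ := Γ.prime_odd
  unfold sgnPrime
  split_ifs <;> omega

theorem card_eq_T : (Nat.card H : ℂ) = Qc * (Qc - 1) * Nat.card Γ.T := by
  have h : (Nat.card H : ℤ) = sgnPrime p * (sgnPrime p - 1) * (Nat.card Γ.T : ℤ) := by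
    have h3 := Γ.three_le
    rw [Γ.card, Γ.T_card]
    push_cast
    unfold sgnPrime
    split_ifs
    · rw [abs_of_nonneg (by omega)]; ring
    · rw [abs_of_nonpos (by omega)]; ring
  exact_mod_cast h

theorem card_eq_S : (Nat.card H : ℂ) = Qc * (Qc + 1) * Nat.card Γ.S := by
  have h : (Nat.card H : ℤ) = sgnPrime p * (sgnPrime p + 1) * (Nat.card Γ.S : ℤ) := by
    have h3 := Γ.three_le
    rw [Γ.card, Γ.S_card]
    push_cast
    unfold sgnPrime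
    split_ifs
    · rw [abs_of_nonneg (by omega)]; ring
    · rw [abs_of_nonpos (by omega)]; ring
  exact_mod_cast h

theorem card_eq_P : (Nat.card H : ℂ) = (Qc ^ 2 - 1) * (2 * p : ℕ) := by
  have h : (Nat.card H : ℤ) = (sgnPrime p ^ 2 - 1) * (2 * p : ℕ) := by
    rw [Γ.card, sgnPrime_sq]; push_cast; ring
  exact_mod_cast h

/-! ### The torus `T` -/

theorem z_pow_odd {j : ℕ} (hj : Odd j) : z ^ j = z := by
  obtain ⟨i, rfl⟩ := hj
  rw [pow_succ, pow_mul, pow_two, Γ.z_sq, one_pow, one_mul]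

theorem zpowers_a_le : Subgroup.zpowers Γ.a ≤ Γ.T := Subgroup.zpowers_le.2 Γ.a_T

theorem coprime_two_m (i : ℕ) : Nat.Coprime (2 ^ i) Γ.m :=
  Nat.Coprime.pow_left _ (Nat.coprime_two_left.2 Γ.m_odd)

theorem pow_m_mem {t : H} (ht : t ∈ Γ.T) : t ^ Γ.m ∈ Subgroup.zpowers Γ.a := by
  refine mem_of_coprime_card Γ.T_comm Γ.zpowers_a_le (pow_mem ht _) (n := 2 ^ (Γ.k + 1)) ?_
    (by rw [Nat.card_zpowers, Γ.a_ord, Γ.T_two]) (Γ.coprime_two_m _)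
  rw [← pow_mul, mul_comm, ← Γ.T_two]
  exact congrArg Subtype.val (pow_card_eq_one' (G := Γ.T) (x := ⟨t, ht⟩))

/-- A primitive root of unity of order `2 ^ (k + 1)`. -/
noncomputable def zeta : ℂˣ :=
  ((Complex.isPrimitiveRoot_exp (2 ^ (Γ.k + 1)) (by positivity)).isUnit (by positivity)).unit

theorem zeta_prim : IsPrimitiveRoot Γ.zeta (2 ^ (Γ.k + 1)) :=
  IsPrimitiveRoot.isUnit_unit (by positivity) (Complex.isPrimitiveRoot_exp _ (by positivity))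

/-- The character of the cyclic group on `a`. -/
noncomputable def aHom : Subgroup.zpowers Γ.a →* ℂˣ :=
  monoidHomOfForallMemZpowers (g := ⟨Γ.a, Subgroup.mem_zpowers _⟩)
    (fun x => by
      obtain ⟨i, hi⟩ := Subgroup.mem_zpowers_iff.1 x.2
      exact ⟨i, Subtype.ext (by simpa using hi)⟩)
    (g' := Γ.zeta) (by rw [← Γ.zeta_prim.eq_orderOf, Subgroup.orderOf_mk, Γ.a_ord])

theorem aHom_a : Γ.aHom ⟨Γ.a, Subgroup.mem_zpowers _⟩ = Γ.zeta :=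
  monoidHomOfForallMemZpowers_apply_gen _ _

/-- The faithful character of the 2-part of `T`. -/
noncomputable def tHom : Γ.T →* ℂˣ where
  toFun t := Γ.aHom ⟨(t : H) ^ Γ.m, Γ.pow_m_mem t.2⟩
  map_one' := by
    rw [show (⟨((1 : Γ.T) : H) ^ Γ.m, Γ.pow_m_mem (1 : Γ.T).2⟩ : Subgroup.zpowers Γ.a) = 1 from
      Subtype.ext (by simp), map_one]
  map_mul' s t := by
    rw [← map_mul]
    congr 1
    exact Subtype.ext (by simpa using Commute.mul_pow (Γ.T_comm _ s.2 _ t.2) Γ.m)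

/-- The value of the faithful character of the 2-part of `T`. -/
noncomputable def om (t : H) : ℂ := if h : t ∈ Γ.T then (Γ.tHom ⟨t, h⟩ : ℂ) else 0

theorem om_of_mem {t : H} (ht : t ∈ Γ.T) : Γ.om t = (Γ.tHom ⟨t, ht⟩ : ℂ) := dif_pos ht

theorem om_mul {s t : H} (hs : s ∈ Γ.T) (ht : t ∈ Γ.T) : Γ.om (s * t) = Γ.om s * Γ.om t := by
  rw [Γ.om_of_mem (mul_mem hs ht), Γ.om_of_mem hs, Γ.om_of_mem ht, ← Units.val_mul, ← map_mul]
  rfl

theorem om_one : Γ.om 1 = 1 := by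
  rw [Γ.om_of_mem (one_mem _), show (⟨1, one_mem _⟩ : Γ.T) = 1 from rfl, map_one, Units.val_one]

theorem om_eq {t : H} (ht : t ∈ Γ.T) {i : ℤ} (hi : t ^ Γ.m = Γ.a ^ i) : Γ.om t = (Γ.zeta : ℂ) ^ i := by
  rw [Γ.om_of_mem ht]
  show ((Γ.aHom ⟨_, _⟩ : ℂˣ) : ℂ) = _
  rw [show (⟨t ^ Γ.m, Γ.pow_m_mem ht⟩ : Subgroup.zpowers Γ.a) = ⟨Γ.a, Subgroup.mem_zpowers _⟩ ^ i from
    Subtype.ext (by simpa using hi), map_zpow, Γ.aHom_a, Units.val_zpow_eq_zpow_val]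

theorem zeta_half : (Γ.zeta : ℂ) ^ (2 ^ Γ.k) = -1 :=
  ((IsPrimitiveRoot.coe_units_iff.2 Γ.zeta_prim).pow (by positivity) (pow_succ 2 Γ.k)).eq_neg_one_of_two_right

theorem om_pow_card {t : H} (ht : t ∈ Γ.T) : Γ.om t ^ (2 ^ (Γ.k + 1)) = 1 := by
  obtain ⟨i, hi⟩ := Subgroup.mem_zpowers_iff.1 (Γ.pow_m_mem ht)
  rw [Γ.om_eq ht hi.symm, ← zpow_natCast ((Γ.zeta : ℂ) ^ i), ← zpow_mul, mul_comm, zpow_mul, zpow_natCast,
    (IsPrimitiveRoot.coe_units_iff.2 Γ.zeta_prim).pow_eq_one, one_zpow]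

theorem a_half : Γ.a ^ (2 ^ Γ.k) = z := by
  have hz : z ∈ Subgroup.zpowers Γ.a := by
    have h := Γ.pow_m_mem Γ.z_T
    rwa [Γ.z_pow_odd Γ.m_odd] at h
  obtain ⟨i, hi⟩ := Subgroup.mem_zpowers_iff.1 hz
  have h2 : (2 : ℤ) * 2 ^ Γ.k ∣ 2 * i := by
    have h := zpow_eq_one_iff_modEq (x := Γ.a) (n := 2 * i) |>.1 (by rw [two_mul, zpow_add, hi, Γ.z_sq])
    rw [Γ.a_ord, pow_succ, mul_comm] at h
    push_cast at h
    exact Int.modEq_zero_iff_dvd.1 h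
  obtain ⟨c, hc⟩ := Int.dvd_of_mul_dvd_mul_left two_ne_zero h2
  refine Eq.trans ?_ hi
  rw [hc, ← zpow_natCast]
  push_cast
  rcases Int.even_or_odd c with ⟨e, rfl⟩ | ⟨e, rfl⟩
  · exfalso
    refine Γ.z_ne (hi.symm.trans ?_)
    have h1 : Γ.a ^ ((2 : ℤ) ^ Γ.k * 2) = 1 := by
      have := pow_orderOf_eq_one Γ.a
      rw [Γ.a_ord, pow_succ, ← zpow_natCast] at this
      exact_mod_cast this
    rw [hc, ← two_mul, ← mul_assoc, zpow_mul, h1, one_zpow]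
  · have h1 : Γ.a ^ ((2 : ℤ) ^ Γ.k * 2) = 1 := by
      have := pow_orderOf_eq_one Γ.a
      rw [Γ.a_ord, pow_succ, ← zpow_natCast] at this
      exact_mod_cast this
    rw [mul_add, ← mul_assoc, mul_one, zpow_add, zpow_mul Γ.a ((2 : ℤ) ^ Γ.k * 2), h1, one_zpow,
      one_mul]

theorem om_z : Γ.om z = -1 := by
  rw [Γ.om_eq Γ.z_T (i := ((2 ^ Γ.k : ℕ) : ℤ)) (by rw [Γ.z_pow_odd Γ.m_odd, zpow_natCast, Γ.a_half]),
    zpow_natCast, Γ.zeta_half]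

theorem mem_N_iff_pow {y : H} {j : ℕ} (hj : Odd j) : y ^ j ∈ Γ.N ↔ y ∈ Γ.N := by
  obtain ⟨i, rfl⟩ := hj
  rw [pow_succ, pow_mul, Subgroup.mul_mem_iff_of_index_two Γ.N_index]
  have h : (y ^ 2) ^ i ∈ Γ.N := pow_mem (by rw [pow_two]; exact Subgroup.mul_self_mem_of_index_two Γ.N_index y) i
  tauto

/-- The sign of `N` on `T`. -/
theorem om_sgn {t : H} (ht : t ∈ Γ.T) : Γ.om t ^ (2 ^ Γ.k) = if t ∈ Γ.N then 1 else -1 := by
  obtain ⟨i, hi⟩ := Subgroup.mem_zpowers_iff.1 (Γ.pow_m_mem ht)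
  have haN : ∀ e : ℤ, Γ.a ^ e ∈ Γ.N ↔ Even e := by
    intro e
    have h2 : Γ.a ^ (2 : ℤ) ∈ Γ.N := by
      rw [zpow_two]; exact Subgroup.mul_self_mem_of_index_two Γ.N_index Γ.a
    rcases Int.even_or_odd e with ⟨c, rfl⟩ | ⟨c, rfl⟩
    · exact iff_of_true (by rw [← two_mul, zpow_mul]; exact Subgroup.zpow_mem _ h2 c) ⟨c, rfl⟩
    · refine iff_of_false (fun h => Γ.a_N ?_) (by rw [Int.not_even_iff_odd]; exact ⟨c, rfl⟩)
      rwa [zpow_add, zpow_mul, zpow_one, Subgroup.mul_mem_cancel_left _ (Subgroup.zpow_mem _ h2 c)] at h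
  have hN : t ∈ Γ.N ↔ Even i := by rw [← Γ.mem_N_iff_pow Γ.m_odd, ← hi, haN]
  rw [Γ.om_eq ht hi.symm, ← zpow_natCast ((Γ.zeta : ℂ) ^ i), ← zpow_mul, mul_comm, zpow_mul, zpow_natCast,
    Γ.zeta_half]
  by_cases he : Even i
  · rw [if_pos (hN.2 he), he.neg_one_zpow]
  · rw [if_neg (mt hN.1 he), (Int.not_even_iff_odd.1 he).neg_one_zpow]

theorem om_conj {t : H} (ht : t ∈ Γ.T) : Γ.om (Γ.w * t * Γ.w⁻¹) = Γ.om t ^ (2 ^ Γ.k - 1) := by
  have hk : 2 ^ (Γ.k + 1) = 2 ^ Γ.k + 2 ^ Γ.k := by rw [pow_succ]; ring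
  have h1 : (Γ.om (Γ.w * t * Γ.w⁻¹)) * Γ.om t = Γ.om t ^ (2 ^ Γ.k) := by
    rw [← Γ.om_mul (Γ.w_T ht) ht, Γ.om_sgn ht]
    by_cases hN : t ∈ Γ.N
    · rw [if_pos hN, Γ.w_conj t ht hN, inv_mul_cancel, Γ.om_one]
    · rw [if_neg hN]
      have h : Γ.a⁻¹ * t ∈ Γ.N := by
        rw [Subgroup.mul_mem_iff_of_index_two Γ.N_index]
        exact iff_of_false (fun h => Γ.a_N (inv_mem_iff.1 h)) hN
      have e : Γ.w * t * Γ.w⁻¹ = Γ.a⁻¹ * z * (Γ.a⁻¹ * t)⁻¹ := by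
        rw [show Γ.w * t * Γ.w⁻¹ = (Γ.w * Γ.a * Γ.w⁻¹) * (Γ.w * (Γ.a⁻¹ * t) * Γ.w⁻¹) by group, Γ.w_conj_a,
          Γ.w_conj _ (mul_mem (inv_mem Γ.a_T) ht) h]
      rw [e, show Γ.a⁻¹ * z * (Γ.a⁻¹ * t)⁻¹ * t = Γ.a⁻¹ * z * (t⁻¹ * Γ.a * t) by group,
        show t⁻¹ * Γ.a * t = Γ.a by rw [mul_assoc, Γ.T_comm _ Γ.a_T _ ht, inv_mul_cancel_left],
        mul_assoc, ← Γ.z_comm, inv_mul_cancel_left, Γ.om_z]
  have h0 : Γ.om t ≠ 0 := fun h => by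
    have := Γ.om_pow_card ht
    rw [h, zero_pow (by positivity)] at this
    exact zero_ne_one this
  refine mul_right_cancel₀ h0 (h1.trans ?_)
  rw [← pow_succ, Nat.sub_add_cancel (Nat.one_le_two_pow)]

/-! ### The torus `S` -/

/-- Half the index of the centre in `S`. -/
def sOdd (p : ℕ) : ℕ := (sgnPrime p - 1).natAbs / 2

theorem sOdd_odd : Odd (sOdd p) ∧ Nat.card Γ.S = 4 * sOdd p := by
  have h := Γ.sgnPrime_mod
  rw [Γ.S_card, sOdd, Nat.odd_iff]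
  omega

theorem u_sq : Γ.u * Γ.u = 1 := by have := pow_orderOf_eq_one Γ.u; rwa [Γ.u_ord, pow_two] at this

theorem u_ne : Γ.u ≠ 1 ∧ Γ.u ≠ z :=
  ⟨fun h => Γ.u_N (by rw [h]; exact one_mem _), fun h => Γ.u_N (by rw [h]; exact Γ.z_N)⟩

theorem uz_ne : Γ.u * z ≠ 1 ∧ Γ.u * z ≠ Γ.u ∧ Γ.u * z ≠ z :=
  ⟨fun h => Γ.u_ne.2 ((eq_inv_of_mul_eq_one_left h).trans Γ.z_inv), fun h => Γ.z_ne (mul_eq_left.1 h),
    fun h => Γ.u_ne.1 (mul_eq_right.1 h)⟩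

/-- The Sylow 2-subgroup of `S`. -/
def four : Subgroup H where
  carrier := {1, Γ.u, z, Γ.u * z}
  one_mem' := Or.inl rfl
  mul_mem' := by
    have a1 := Γ.u_sq
    have a2 := Γ.z_sq
    have a3 : z * Γ.u = Γ.u * z := (Γ.z_comm Γ.u).symm
    have a4 : Γ.u * z * Γ.u = z := by rw [mul_assoc, a3, ← mul_assoc, a1, one_mul]
    simp only [Set.mem_insert_iff, Set.mem_singleton_iff]
    intro x y hx hy
    rcases hx with hx | hx | hx | hx <;> rcases hy with hy | hy | hy | hy <;>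
      simp [hx, hy, ← mul_assoc, a1, a2, a3, a4, mul_assoc Γ.u z z]
  inv_mem' := by
    have a1 : Γ.u⁻¹ = Γ.u := inv_eq_of_mul_eq_one_right Γ.u_sq
    have a2 := Γ.z_inv
    simp only [Set.mem_insert_iff, Set.mem_singleton_iff]
    intro x hx
    rcases hx with hx | hx | hx | hx <;> simp [hx, a1, a2, (Γ.z_comm Γ.u).symm]

theorem mem_four {y : H} : y ∈ Γ.four ↔ y = 1 ∨ y = Γ.u ∨ y = z ∨ y = Γ.u * z := by
  show y ∈ ({1, Γ.u, z, Γ.u * z} : Set H) ↔ _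
  simp

theorem pow_sOdd_mem {s : H} (hs : s ∈ Γ.S) : s ^ sOdd p ∈ Γ.four := by
  obtain ⟨hodd, hcard⟩ := Γ.sOdd_odd
  have hle : Γ.four ≤ Γ.S := fun y hy => by
    rcases Γ.mem_four.1 hy with rfl | rfl | rfl | rfl
    exacts [one_mem _, Γ.u_S, Γ.z_S, mul_mem Γ.u_S Γ.z_S]
  have h4 : Nat.card Γ.four = 4 := by
    show Nat.card ({1, Γ.u, z, Γ.u * z} : Set H) = 4
    have h1 := Γ.u_ne
    have h2 := Γ.z_ne
    rw [Nat.card_coe_set_eq, Set.ncard_insert_of_notMem, Set.ncard_insert_of_notMem, Set.ncard_pair]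
    · exact fun h => h1.1 (by simpa using h.symm)
    · simp [h1.2, h2]
    · simp only [Set.mem_insert_iff, Set.mem_singleton_iff, not_or]
      exact ⟨h1.1.symm, h2.symm, Γ.uz_ne.1.symm⟩
  refine mem_of_coprime_card Γ.S_comm hle (pow_mem hs _) (n := 4) ?_ (by rw [h4, hcard])
    ((Nat.coprime_two_left.2 hodd).pow_left 2)
  rw [← pow_mul, mul_comm, ← hcard]
  exact congrArg Subtype.val (pow_card_eq_one' (G := Γ.S) (x := ⟨s, hs⟩))

/-- The character of `S` with kernel of 2-part `{1, u}`. -/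
noncomputable def mu (s : H) : ℂ := if s ^ sOdd p = 1 ∨ s ^ sOdd p = Γ.u then 1 else -1

theorem mu_mul {s t : H} (hs : s ∈ Γ.S) (ht : t ∈ Γ.S) : Γ.mu (s * t) = Γ.mu s * Γ.mu t := by
  have a1 := Γ.u_sq
  have a2 := Γ.z_sq
  have a3 : z * Γ.u = Γ.u * z := (Γ.z_comm Γ.u).symm
  have b1 := Γ.u_ne
  have b2 := Γ.z_ne
  obtain ⟨b3, b4, -⟩ := Γ.uz_ne
  have a4 : Γ.u * z * Γ.u = z := by rw [mul_assoc, a3, ← mul_assoc, a1, one_mul]
  simp only [mu, Commute.mul_pow (Γ.S_comm _ hs _ ht)]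
  rcases Γ.mem_four.1 (Γ.pow_sOdd_mem hs) with e | e | e | e <;>
    rcases Γ.mem_four.1 (Γ.pow_sOdd_mem ht) with e' | e' | e' | e' <;>
      simp [e, e', ← mul_assoc, a1, a2, a3, a4, mul_assoc Γ.u z z, b1.1, b1.1.symm, b1.2, b1.2.symm, b2, b3, b4]

/-- The character of `S`. -/
noncomputable def sHom : Γ.S →* ℂˣ :=
  MonoidHom.toHomUnits
    { toFun := fun s => Γ.mu (s : H)
      map_one' := by simp [mu]
      map_mul' := fun s t => Γ.mu_mul s.2 t.2 }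

theorem mu_conj {s : H} (hs : s ∈ Γ.S) : Γ.mu s + Γ.mu (Γ.τ * s * Γ.τ⁻¹) =
    if s ^ sOdd p = 1 then 2 else if s ^ sOdd p = z then -2 else 0 := by
  have b1 := Γ.u_ne
  have b2 := Γ.z_ne
  obtain ⟨b3, b4, b5⟩ := Γ.uz_ne
  simp only [mu, conj_pow]
  rcases Γ.mem_four.1 (Γ.pow_sOdd_mem hs) with e | e | e | e <;> simp only [e]
  · norm_num
  · rw [Γ.τ_conj]; simp [b1.1, b1.2, b3, b4]
  · rw [Γ.conj_z]; norm_num [b2, b1.2.symm]
  · rw [show Γ.τ * (Γ.u * z) * Γ.τ⁻¹ = Γ.τ * Γ.u * Γ.τ⁻¹ * (Γ.τ * z * Γ.τ⁻¹) by group, Γ.τ_conj, Γ.conj_z,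
      mul_assoc, Γ.z_sq, mul_one]
    simp [b1.1, b3, b4, b5]

theorem S_mem_N_iff {s : H} (hs : s ∈ Γ.S) : s ∈ Γ.N ↔ s ^ sOdd p = 1 ∨ s ^ sOdd p = z := by
  rw [← Γ.mem_N_iff_pow Γ.sOdd_odd.1]
  have b1 := Γ.u_ne
  have b3 : Γ.u * z ∉ Γ.N := fun h => Γ.u_N ((Subgroup.mul_mem_cancel_right _ Γ.z_N).1 h)
  rcases Γ.mem_four.1 (Γ.pow_sOdd_mem hs) with e | e | e | e <;> rw [e]
  · simp [one_mem]
  · simp [Γ.u_N, b1.1, b1.2]
  · simp [Γ.z_N]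
  · refine iff_of_false b3 ?_
    rintro (h | h) <;> exact b3 (by rw [h]; first | exact one_mem _ | exact Γ.z_N)

/-! ### The centralizer of a unipotent element -/

theorem x_pow_p : Γ.x ^ p = 1 := orderOf_dvd_iff_pow_eq_one.1 (dvd_of_eq Γ.x_ord)

theorem zpowers_zx_ord : Nat.card (Subgroup.zpowers (z * Γ.x)) = 2 * p := by
  rw [Nat.card_zpowers, Γ.orderOf_zx]

theorem zx_pow_even : (z * Γ.x) ^ (p + 1) = Γ.x := by
  obtain ⟨j, hj⟩ := Γ.prime_odd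
  rw [Commute.mul_pow (Γ.z_comm Γ.x).symm, pow_succ Γ.x, Γ.x_pow_p, one_mul,
    show p + 1 = 2 * (j + 1) by omega, pow_mul, pow_two, Γ.z_sq, one_pow, one_mul]

theorem zx_pow_p : (z * Γ.x) ^ p = z := by
  rw [Commute.mul_pow (Γ.z_comm Γ.x).symm, Γ.z_pow_odd Γ.prime_odd, Γ.x_pow_p, mul_one]

/-- The two characters of the centralizer of `x` which are nontrivial on `x`. -/
noncomputable def pHom (e : ℤˣ) : Subgroup.zpowers (z * Γ.x) →* ℂˣ :=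
  monoidHomOfForallMemZpowers (g := ⟨z * Γ.x, Subgroup.mem_zpowers _⟩)
    (fun y => by
      obtain ⟨i, hi⟩ := Subgroup.mem_zpowers_iff.1 y.2
      exact ⟨i, Subtype.ext (by simpa using hi)⟩)
    (g' := Units.map (Int.castRingHom ℂ : ℤ →* ℂ) e *
      ((Complex.isPrimitiveRoot_exp p Γ.prime.ne_zero).isUnit Γ.prime.ne_zero).unit)
    (by
      rw [Subgroup.orderOf_mk, Γ.orderOf_zx]
      refine orderOf_dvd_of_pow_eq_one ?_
      rw [mul_pow, ← map_pow, pow_mul e, Int.units_sq, one_pow, map_one, one_mul, mul_comm 2 p, pow_mul,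
        (IsPrimitiveRoot.isUnit_unit Γ.prime.ne_zero (Complex.isPrimitiveRoot_exp p Γ.prime.ne_zero)).pow_eq_one,
        one_pow])

theorem pHom_gen (e : ℤˣ) : Γ.pHom e ⟨z * Γ.x, Subgroup.mem_zpowers _⟩ =
    Units.map (Int.castRingHom ℂ : ℤ →* ℂ) e *
      ((Complex.isPrimitiveRoot_exp p Γ.prime.ne_zero).isUnit Γ.prime.ne_zero).unit :=
  monoidHomOfForallMemZpowers_apply_gen _ _

theorem pHom_z (e : ℤˣ) (h : z ∈ Subgroup.zpowers (z * Γ.x)) : (Γ.pHom e ⟨z, h⟩ : ℂ) = (e : ℤ) := by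
  rw [show (⟨z, h⟩ : Subgroup.zpowers (z * Γ.x)) = ⟨z * Γ.x, Subgroup.mem_zpowers _⟩ ^ p from
    Subtype.ext (by simpa using Γ.zx_pow_p.symm), map_pow, Γ.pHom_gen, mul_pow,
    (IsPrimitiveRoot.isUnit_unit Γ.prime.ne_zero (Complex.isPrimitiveRoot_exp p Γ.prime.ne_zero)).pow_eq_one,
    mul_one]
  obtain ⟨j, hj⟩ := Γ.prime_odd
  rw [← map_pow, hj, pow_succ, pow_mul, Int.units_sq, one_pow, one_mul]
  rfl

theorem pHom_x (e : ℤˣ) (h : Γ.x ∈ Subgroup.zpowers (z * Γ.x)) : Γ.pHom e ⟨Γ.x, h⟩ ≠ 1 := by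
  rw [show (⟨Γ.x, h⟩ : Subgroup.zpowers (z * Γ.x)) = ⟨z * Γ.x, Subgroup.mem_zpowers _⟩ ^ (p + 1) from
    Subtype.ext (by simpa using Γ.zx_pow_even.symm), map_pow, Γ.pHom_gen, mul_pow, ← map_pow]
  obtain ⟨j, hj⟩ := Γ.prime_odd
  rw [show e ^ (p + 1) = 1 by rw [show p + 1 = 2 * (j + 1) by omega, pow_mul, Int.units_sq, one_pow], map_one,
    one_mul, pow_succ, (IsPrimitiveRoot.isUnit_unit Γ.prime.ne_zero
      (Complex.isPrimitiveRoot_exp p Γ.prime.ne_zero)).pow_eq_one, one_mul]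
  exact (IsPrimitiveRoot.isUnit_unit Γ.prime.ne_zero
    (Complex.isPrimitiveRoot_exp p Γ.prime.ne_zero)).ne_one Γ.prime.one_lt

end Cfsg.Lib.SemiCyclic.Geo
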