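import Cfsg.Agent.SemiCyclic.Model.Gram
import Cfsg.Agent.Blocks.DihedralDefect.Centre
import Cfsg.Agent.S4652

/-!
# The column of the central involution in the principal 2-block of the model
-/

set_option autoImplicit false
set_option linter.unusedSectionVars false

namespace Cfsg.Lib.SemiCyclic.Geo

open Cfsg Cfsg.Lib.Chars Cfsg.Lib.Blocks
open scoped Classical ComplexConjugate

universe u

variable {H : Type u} [Group H] [Fintype H] {z : H} {p : ℕ} (Γ : Geo H z p) {M : Ideal AlgInt}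

local notation "Qc" => ((sgnPrime p : ℤ) : ℂ)

include Γ

omit Γ in
theorem not_z_mem_of_odd {y z' : H} (hz : orderOf z' = 2) (hy : ¬ 2 ∣ orderOf y) : z' ∉ Subgroup.zpowers y :=
  fun h => hy (hz ▸ orderOf_dvd_of_mem_zpowers h)

theorem test_regular {f : H → ℂ} (hf : IsTest z f) {y : H} (hy : ¬ 2 ∣ orderOf y) : f y = 0 :=
  hf.2.2 y (not_z_mem_of_odd Γ.z_ord hy)

theorem one_regular : ¬ 2 ∣ orderOf (1 : H) := by rw [orderOf_one]; norm_num

/-- A test function of norm three with a constituent in the principal block has all constituents there. -/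
theorem constituents_mem (hM : IsPModular 2 M) {f : H → ℂ} (hf : IsTest z f) (h3 : classInner f f = 3)
    {χ₀ : IrrCharacter H} (hmem : χ₀ ∈ principalBlock M H) (h0 : classInner f (χ₀ : H → ℂ) ≠ 0)
    (θ : IrrCharacter H) (hθ : classInner f (θ : H → ℂ) ≠ 0) : θ ∈ principalBlock M H := by
  have hgen := hf.2.1
  choose a ha using fun χ : IrrCharacter H => IsGeneralizedCharacter.exists_mult hgen χ.2
  by_contra hn
  set A := (Finset.univ : Finset (IrrCharacter H)).filter (fun χ => a χ ≠ 0) with hA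
  have hnorm : ∑ χ : IrrCharacter H, a χ * a χ = 3 := by
    have e : classInner f f = ∑ χ : IrrCharacter H, (a χ : ℂ) * (a χ : ℂ) := by
      conv_lhs => arg 1; rw [classFunction_expand (isClassFunction_generalized hgen)]
      rw [classInner_sum_left]
      refine Finset.sum_congr rfl fun χ _ => ?_
      rw [classInner_smul_left, ha χ, show classInner (χ : H → ℂ) f = conj (classInner f (χ : H → ℂ)) from
        (classInner_conj_symm _ _).symm, ha χ, map_intCast]
    have h := e.symm.trans h3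
    exact_mod_cast h
  have hcard : (A.card : ℤ) ≤ 3 := by
    rw [← hnorm, Finset.card_eq_sum_ones]
    push_cast
    refine le_trans (Finset.sum_le_sum fun χ hχ => ?_)
      (Finset.sum_le_sum_of_subset_of_nonneg (Finset.subset_univ A) fun χ _ _ => mul_self_nonneg _)
    exact Int.add_one_le_iff.2 (mul_self_pos.2 (Finset.mem_filter.1 hχ).2)
  have two : ∀ (B : Set (IrrCharacter H)), IsPBlock M B → ∀ χ ∈ A, χ ∈ B → 2 ≤ (A.filter (· ∈ B)).card := by
    intro B hB χ hχ hχB
    by_contra hlt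
    have hone : A.filter (· ∈ B) = {χ} :=
      (Finset.eq_of_subset_of_card_le (Finset.singleton_subset_iff.2 (Finset.mem_filter.2 ⟨hχ, hχB⟩))
        (by rw [Finset.card_singleton]; exact Nat.lt_succ_iff.1 (Nat.lt_of_not_le hlt))).symm
    have h := blockPart_congr_regular hM hB (θ := f) (θ' := fun _ => 0)
      (fun w hw => Γ.test_regular hf hw) (g := 1) Γ.one_regular
    rw [blockPart_eq_sum, blockPart_eq_sum,
      Finset.sum_eq_zero (s := Finset.univ.filter (· ∈ B))
        (f := fun ψ : IrrCharacter H => classInner (fun _ : H => (0 : ℂ)) (ψ : H → ℂ) * (ψ : H → ℂ) 1)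
        (fun ψ _ => by simp [classInner]),
      Finset.sum_eq_single_of_mem χ (Finset.mem_filter.2 ⟨Finset.mem_univ _, hχB⟩) (fun ψ hψ hne => by
        have : ψ ∉ A := fun hψA => hne (Finset.mem_singleton.1
          (hone ▸ Finset.mem_filter.2 ⟨hψA, (Finset.mem_filter.1 hψ).2⟩))
        rw [ha ψ, show a ψ = 0 by simpa [hA] using this, Int.cast_zero, zero_mul]), ha χ] at h
    rcases mul_eq_zero.1 h with h | h
    · exact (Finset.mem_filter.1 hχ).2 (by exact_mod_cast h)
    · exact IsIrrCharacter.apply_one_ne_zero χ.2 h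
  have inA : ∀ χ : IrrCharacter H, classInner f (χ : H → ℂ) ≠ 0 → χ ∈ A := fun χ h =>
    Finset.mem_filter.2 ⟨Finset.mem_univ _, fun e => h (by rw [ha χ, e, Int.cast_zero])⟩
  have hB0 : IsPBlock M (principalBlock M H) := isPBlock_blockOf (principal H)
  have h1 := two _ hB0 χ₀ (inA _ h0) hmem
  have h2 := two _ (isPBlock_blockOf θ) θ (inA _ hθ) (mem_blockOf_self hM θ)
  have hd : Disjoint (A.filter (· ∈ principalBlock M H)) (A.filter (· ∈ blockOf M (θ : H → ℂ))) :=
    Finset.disjoint_left.2 fun χ hχ hχ' => hn (by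
      rw [IsPBlock.eq_of_mem_inter hM hB0 (isPBlock_blockOf θ) (Finset.mem_filter.1 hχ).2
        (Finset.mem_filter.1 hχ').2]
      exact mem_blockOf_self hM θ)
  have h4 := Finset.card_le_card (show A.filter (· ∈ principalBlock M H) ∪
    A.filter (· ∈ blockOf M (θ : H → ℂ)) ⊆ A from Finset.union_subset (Finset.filter_subset _ _)
      (Finset.filter_subset _ _))
  rw [Finset.card_union_of_disjoint hd] at h4
  omega

theorem phi_mem (hM : IsPModular 2 M) (i : Idx Γ.k) (θ : IrrCharacter H)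
    (hθ : classInner (Γ.tphi (idx Γ.k i)) (θ : H → ℂ) ≠ 0) : θ ∈ principalBlock M H :=
  Γ.constituents_mem hM (Γ.tests.2.2 _) (by rw [Γ.gram_phi_phi, if_pos rfl])
    (mem_blockOf_self hM (principal H)) (by
      rw [show ((principal H : IrrCharacter H) : H → ℂ) = fun _ => 1 from rfl, (Γ.gram_phi i).1]
      exact one_ne_zero) θ hθ

/-- An index with odd exponent. -/
def i1 : Idx Γ.k := Sum.inr (Sum.inl ⟨0, Nat.two_pow_pos _⟩)

theorem t2_mem (hM : IsPModular 2 M) (θ : IrrCharacter H) (hθ : classInner Γ.t2 (θ : H → ℂ) ≠ 0) :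
    θ ∈ principalBlock M H := by
  have h := (Γ.gram_phi Γ.i1).2.2
  have e : classInner Γ.t2 (Γ.tphi (idx Γ.k Γ.i1)) = ∑ χ : IrrCharacter H,
      classInner Γ.t2 (χ : H → ℂ) * conj (classInner (Γ.tphi (idx Γ.k Γ.i1)) (χ : H → ℂ)) := by
    conv_lhs => arg 1; rw [classFunction_expand Γ.t2_cls]
    rw [classInner_sum_left]
    exact Finset.sum_congr rfl fun χ _ => by rw [classInner_smul_left, classInner_conj_symm]
  rw [e] at h
  obtain ⟨χ, -, hχ⟩ := Finset.exists_ne_zero_of_sum_ne_zero (h.symm ▸ one_ne_zero)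
  refine Γ.constituents_mem hM Γ.tests.2.1 Γ.gram_t2.2 (Γ.phi_mem hM Γ.i1 χ ?_) (left_ne_zero_of_mul hχ) θ hθ
  intro h0
  rw [h0, map_zero, mul_zero] at hχ
  exact hχ rfl

/-! ### The column -/

theorem irr_z (χ : IrrCharacter H) : conj ((χ : H → ℂ) z) = (χ : H → ℂ) z ∧
    ∀ y : H, (χ : H → ℂ) (z * y) * (χ : H → ℂ) 1 = (χ : H → ℂ) z * (χ : H → ℂ) y := by
  have h := center_mul_of_irr χ.2 Γ.z_center
  refine ⟨?_, h⟩
  have h2 := h z
  rw [Γ.z_sq, irr_apply_one_eq_deg] at h2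
  have h3 : ((χ : H → ℂ) z - deg (χ : H → ℂ)) * ((χ : H → ℂ) z + deg (χ : H → ℂ)) = 0 := by
    linear_combination -h2
  rcases mul_eq_zero.1 h3 with h4 | h4
  · rw [sub_eq_zero.1 h4, Complex.conj_natCast]
  · rw [eq_neg_of_add_eq_zero_left h4, map_neg, Complex.conj_natCast]

theorem colKer_z (B : Set (IrrCharacter H)) (y : H) :
    colKer B y z = ∑ χ ∈ Finset.univ.filter (· ∈ B), (χ : H → ℂ) (z * y) * conj ((χ : H → ℂ) 1) := by
  rw [colKer_eq]
  refine Finset.sum_congr rfl fun χ _ => ?_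
  rw [(Γ.irr_z χ).1, irr_apply_one_eq_deg, Complex.conj_natCast, ← irr_apply_one_eq_deg, (Γ.irr_z χ).2 y,
    mul_comm]

theorem colKer_z_eq_zero (hM : IsPModular 2 M) {y : H} (hy : 2 ∣ orderOf (z * y)) :
    colKer (principalBlock M H) y z = 0 := by
  rw [Γ.colKer_z]
  exact block_orthogonality_regular' hM (isPBlock_blockOf (principal H)) hy Γ.one_regular

/-- The predicted column. -/
noncomputable def col (y : H) : ℂ :=
  -(Qc + 1) * Γ.t2 y + Qc * Γ.t0 y +
    (Qc - 1) * ∑ i : Idx Γ.k, (((-1 : ℤ) ^ idx Γ.k i : ℤ) : ℂ) * Γ.tphi (idx Γ.k i) y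

theorem col_cls : IsClassFunction H Γ.col := fun a b => by
  simp only [col, Γ.t2_cls a b, Γ.t0_cls a b, Γ.tphi_cls _ a b]

theorem odd_order_mem_N {y : H} (hy : ¬ 2 ∣ orderOf y) : y ∈ Γ.N := by
  have h := (Γ.mem_N_iff_pow (y := y) (Nat.odd_iff.2 (by omega : orderOf y % 2 = 1))).1
  rw [pow_orderOf_eq_one] at h
  exact h (one_mem _)

theorem t0_N {y : H} (hy : y ∈ Γ.N) : Γ.t0 y = 0 := by
  obtain ⟨a1, a2, a3, a4, a5, a6⟩ := Γ.t0_values
  rcases Γ.class_cases y with rfl | e | h | h | ⟨t, ht, h⟩ | ⟨s, hs, h⟩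
  · exact a1
  · rw [e, a2]
  · rw [Γ.classFun_conj Γ.t0_cls h, a3]
  · rw [Γ.classFun_conj Γ.t0_cls h, a4]
  · rw [Γ.classFun_conj Γ.t0_cls h, a5 t ht, Γ.sg_apply, if_pos]
    · ring
    · obtain ⟨g, rfl⟩ := isConj_iff.1 h
      exact (Γ.index_conj g t).1 hy
  · rw [Γ.classFun_conj Γ.t0_cls h, a6 s hs]

theorem col_eq_zero {y : H} (hy : 2 ∣ orderOf (z * y)) : Γ.col y = 0 := by
  have conjz : ∀ r : H, IsConj r y → 2 ∣ orderOf (z * r) := fun r hr => by
    obtain ⟨g, rfl⟩ := isConj_iff.1 hr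
    have e : z * (g * r * g⁻¹) = g * (z * r) * g⁻¹ := by
      rw [show g * (z * r) * g⁻¹ = g * z * g⁻¹ * (g * r * g⁻¹) by group, Γ.conj_z]
    rwa [e, ← (SemiconjBy.conj_mk g (z * r)).orderOf_eq g] at hy
  have hp2 : ¬ 2 ∣ p := fun h => by
    have := Nat.odd_iff.1 Γ.prime_odd; omega
  rcases Γ.class_cases y with rfl | e | h | h | ⟨t, ht, h⟩ | ⟨s, hs, h⟩
  · simp only [col, Γ.t0_values.1, Γ.t2_values.1, (Γ.tphi_values _).1, mul_zero, Finset.sum_const_zero, add_zero]
  · rw [e, Γ.z_sq] at hy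
    exact absurd hy Γ.one_regular
  · rw [Γ.classFun_conj Γ.col_cls h]
    simp only [col, Γ.t0_values.2.2.1, Γ.t2_values.2.2.1, (Γ.tphi_values _).2.2.1, mul_zero,
      Finset.sum_const_zero, add_zero]
  · have h2 := conjz _ h
    rw [← mul_assoc, Γ.z_sq, one_mul, Γ.x_ord] at h2
    exact absurd h2 hp2
  · have h2 := conjz _ h
    have hne : Γ.om t ≠ -1 := fun e => by
      obtain ⟨i, hi⟩ := Subgroup.mem_zpowers_iff.1 (Γ.pow_m_mem (mem_punct.1 ht).1)
      have hsq : (Γ.a ^ i) * (Γ.a ^ i) = 1 := by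
        rw [← zpow_add, zpow_eq_one_iff_modEq, Γ.a_ord, Int.modEq_zero_iff_dvd]
        refine (IsPrimitiveRoot.zpow_eq_one_iff_dvd (IsPrimitiveRoot.coe_units_iff.2 Γ.zeta_prim) _).1 ?_
        rw [zpow_add₀ (Units.ne_zero _), ← Γ.om_eq (mem_punct.1 ht).1 hi.symm, e]
        norm_num
      rcases Γ.involution_zpowers_a (Subgroup.zpow_mem_zpowers Γ.a i) hsq with h1 | h1
      · rw [Γ.om_eq (mem_punct.1 ht).1 (i := 0) (by rw [← hi, h1, zpow_zero]), zpow_zero] at e
        norm_num at e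
      · have h3 : (z * t) ^ Γ.m = 1 := by
          rw [Commute.mul_pow (Γ.z_comm t).symm, Γ.z_pow_odd Γ.m_odd, ← hi, h1, Γ.z_sq]
        have h4 := h2.trans (orderOf_dvd_of_pow_eq_one h3)
        have := Nat.odd_iff.1 Γ.m_odd
        omega
    rw [Γ.classFun_conj Γ.col_cls h]
    simp only [col, Γ.t0_values.2.2.2.2.1 t ht, Γ.t2_values.2.2.2.2.1 t ht, Γ.tphi_T _ ht, ph]
    have hs1 := sum_sign Γ.two_le_k
    have hs2 := sum_idx Γ.two_le_k (Γ.om_pow_card (mem_punct.1 ht).1)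
    rw [if_neg hne, ← Γ.sg_T (mem_punct.1 ht).1] at hs2
    have e : ∑ i : Idx Γ.k, (((-1 : ℤ) ^ idx Γ.k i : ℤ) : ℂ) *
        (2 - Γ.om t ^ idx Γ.k i - Γ.om t ^ partner Γ.k (idx Γ.k i)) =
        2 * ∑ i : Idx Γ.k, (-1 : ℂ) ^ idx Γ.k i - ∑ i : Idx Γ.k,
          (-1 : ℂ) ^ idx Γ.k i * (Γ.om t ^ idx Γ.k i + Γ.om t ^ partner Γ.k (idx Γ.k i)) := by
      rw [Finset.mul_sum, ← Finset.sum_sub_distrib]
      exact Finset.sum_congr rfl fun i _ => by push_cast; ring
    rw [e, hs1, hs2]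
    ring
  · have h2 := conjz _ h
    have hne : s ^ sOdd p ≠ z := fun h1 => by
      have h3 : (z * s) ^ sOdd p = 1 := by
        rw [Commute.mul_pow (Γ.z_comm s).symm, Γ.z_pow_odd Γ.sOdd_odd.1, h1, Γ.z_sq]
      have h4 := h2.trans (orderOf_dvd_of_pow_eq_one h3)
      have := Nat.odd_iff.1 Γ.sOdd_odd.1
      omega
    rw [Γ.classFun_conj Γ.col_cls h]
    simp only [col, Γ.t0_values.2.2.2.2.2 s hs, Γ.t2_values.2.2.2.2.2 s hs, if_neg hne,
      (Γ.tphi_values _).2.2.2.2.2 s hs, mul_zero, Finset.sum_const_zero, add_zero]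

/-- The column of `z` in the principal block. -/
theorem column (hsd : ∀ S : Sylow 2 H, Cfsg.IsQuasiDihedral ↥(S : Subgroup H)) (hM : IsPModular 2 M) (y : H) :
    colKer (principalBlock M H) y z = Γ.col y := by
  haveI : Fact (Nat.Prime 2) := ⟨Nat.prime_two⟩
  set B := principalBlock M H with hBdef
  have hB : IsPBlock M B := isPBlock_blockOf (principal H)
  obtain ⟨P⟩ : Nonempty (Sylow 2 H) := inferInstance
  have hrank : blockRank 2 B ≤ 2 := DihedralDefect.rank_le_two_of_central hM hB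
    ((Cfsg.Agent.S4652.result 2 M hM _).2 ⟨P, rfl⟩) (hsd P) Γ.z_center Γ.z_ord
  -- restriction to the section of `z`
  let L : (H → ℂ) → H → ℂ := fun f => pRegularPart 2 fun c => f (z * c)
  let S := Submodule.span ℂ ((fun χ : IrrCharacter H => pRegularPart 2 (χ : H → ℂ)) '' B)
  have LS : ∀ f : H → ℂ, IsClassFunction H f →
      (∀ θ : IrrCharacter H, classInner f (θ : H → ℂ) ≠ 0 → θ ∈ B) → L f ∈ S := by
    intro f hc hf
    have e : L f = ∑ θ : IrrCharacter H, (classInner f (θ : H → ℂ) * ((θ : H → ℂ) z / (θ : H → ℂ) 1)) •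
        pRegularPart 2 (θ : H → ℂ) := by
      funext c
      simp only [L, pRegularPart, Finset.sum_apply, Pi.smul_apply, smul_eq_mul]
      split_ifs
      · rw [classFunction_expand_apply hc]
        refine Finset.sum_congr rfl fun θ _ => ?_
        have h1 := IsIrrCharacter.apply_one_ne_zero θ.2
        rw [mul_assoc]
        congr 1
        rw [div_mul_eq_mul_div, eq_div_iff h1]
        exact (Γ.irr_z θ).2 c
      · simp
    rw [e]
    refine Submodule.sum_mem _ fun θ _ => ?_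
    by_cases h : classInner f (θ : H → ℂ) = 0
    · rw [h, zero_mul, zero_smul]; exact zero_mem _
    · exact Submodule.smul_mem _ _ (Submodule.subset_span ⟨θ, hf θ h, rfl⟩)
  set f2 := Γ.t2
  set f3 := Γ.tphi (idx Γ.k Γ.i1)
  have m2 : L f2 ∈ S := LS _ Γ.t2_cls (Γ.t2_mem hM)
  have m3 : L f3 ∈ S := LS _ (Γ.tphi_cls _) (Γ.phi_mem hM _)
  have hodd : (-1 : ℂ) ^ idx Γ.k Γ.i1 = -1 := by simp [i1, idx]
  have regval : ∀ f : H → ℂ, ∀ c : H, ¬ 2 ∣ orderOf c → L f c = f (z * c) := fun f c hc => by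
    simp only [L, pRegularPart]; exact if_pos hc
  have hspan : S = Submodule.span ℂ (Set.range ![L f2, L f3]) := by
    have hind : LinearIndependent ℂ ![L f2, L f3] := by
      rw [LinearIndependent.pair_iff]
      intro a b hab
      have hx : ¬ 2 ∣ orderOf Γ.x := by
        rw [Γ.x_ord]; have := Nat.odd_iff.1 Γ.prime_odd; omega
      have e1 := congrFun hab 1
      have e2 := congrFun hab Γ.x
      simp only [Pi.add_apply, Pi.smul_apply, smul_eq_mul, Pi.zero_apply, regval _ _ Γ.one_regular,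
        regval _ _ hx, mul_one, f2, f3, Γ.t2_values.2.1, Γ.t2_values.2.2.2.1, (Γ.tphi_values _).2.1,
        (Γ.tphi_values _).2.2.2.1, hodd] at e1 e2
      have ha : a = b := by linear_combination (-1 / 2 : ℂ) * e2
      rw [ha] at e1
      have hb : b = 0 := (mul_eq_zero.1 (show (-4 * Qc) * b = 0 by linear_combination e1)).resolve_left
        (mul_ne_zero (by norm_num) Γ.Q_facts.2.1)
      exact ⟨ha.trans hb, hb⟩
    have hle : Submodule.span ℂ (Set.range ![L f2, L f3]) ≤ S := by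
      rw [Submodule.span_le]
      rintro _ ⟨i, rfl⟩
      fin_cases i <;> simpa
    refine (Submodule.eq_of_le_of_finrank_le hle ?_).symm
    rw [finrank_span_eq_card hind, Fintype.card_fin]
    exact hrank
  have inSpan : ∀ v ∈ S, ∃ a b : ℂ, ∀ c : H, ¬ 2 ∣ orderOf c → v c = a * f2 (z * c) + b * f3 (z * c) := by
    intro v hv
    rw [hspan, Matrix.range_cons_cons_empty, Submodule.mem_span_pair] at hv
    obtain ⟨a, b, rfl⟩ := hv
    exact ⟨a, b, fun c hc => by simp [regval _ _ hc]⟩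
  -- the difference
  let W : H → ℂ := fun y => colKer B y z
  have hWmem : L W ∈ S := by
    have e : L W = ∑ χ ∈ Finset.univ.filter (· ∈ B), conj ((χ : H → ℂ) 1) • pRegularPart 2 (χ : H → ℂ) := by
      funext c
      simp only [L, W, pRegularPart, Finset.sum_apply, Pi.smul_apply, smul_eq_mul]
      split_ifs
      · rw [Γ.colKer_z, ← mul_assoc, Γ.z_sq, one_mul]
        exact Finset.sum_congr rfl fun χ _ => mul_comm _ _
      · simp
    rw [e]
    exact Submodule.sum_mem _ fun χ hχ =>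
      Submodule.smul_mem _ _ (Submodule.subset_span ⟨χ, (Finset.mem_filter.1 hχ).2, rfl⟩)
  have hcolmem : L Γ.col ∈ S := by
    have e : L Γ.col = (-(Qc + 1)) • L f2 + (Qc - 1) • ∑ i : Idx Γ.k,
        (((-1 : ℤ) ^ idx Γ.k i : ℤ) : ℂ) • L (Γ.tphi (idx Γ.k i)) := by
      funext c
      simp only [L, pRegularPart, Pi.add_apply, Pi.smul_apply, Finset.sum_apply, smul_eq_mul]
      split_ifs with hc
      · simp only [col, f2]
        rw [Γ.t0_N (mul_mem Γ.z_N (Γ.odd_order_mem_N hc))]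
        ring
      · simp
    rw [e]
    exact Submodule.add_mem _ (Submodule.smul_mem _ _ m2) (Submodule.smul_mem _ _ (Submodule.sum_mem _ fun i _ =>
      Submodule.smul_mem _ _ (LS _ (Γ.tphi_cls _) (Γ.phi_mem hM i))))
  obtain ⟨a, b, hab⟩ := inSpan _ (Submodule.sub_mem _ hWmem hcolmem)
  let D : H → ℂ := fun y => W y - Γ.col y
  have hD : ∀ y, D y * conj (D y) = D y * conj (a * f2 y + b * f3 y) := fun y => by
    by_cases hy : 2 ∣ orderOf (z * y)
    · have h0 : D y = 0 := by simp only [D, W]; rw [Γ.colKer_z_eq_zero hM hy, Γ.col_eq_zero hy, sub_zero]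
      simp only [h0, zero_mul]
    · have h := hab (z * y) hy
      rw [Pi.sub_apply, regval _ _ hy, regval _ _ hy, ← mul_assoc, Γ.z_sq, one_mul] at h
      simp only [D] at *
      rw [h]
  have hWf : ∀ f : H → ℂ, IsGeneralizedCharacter H f →
      (∀ θ : IrrCharacter H, classInner f (θ : H → ℂ) ≠ 0 → θ ∈ B) → classInner W f = f z := by
    intro f hg hf
    have e : W = ∑ χ ∈ Finset.univ.filter (· ∈ B), conj ((χ : H → ℂ) z) • (χ : H → ℂ) := by
      funext v
      simp only [W, colKer_eq, Finset.sum_apply, Pi.smul_apply, smul_eq_mul]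
      exact Finset.sum_congr rfl fun χ _ => mul_comm _ _
    rw [e, classInner_sum_left, classFunction_expand_apply (isClassFunction_generalized hg) z]
    refine (Finset.sum_congr rfl fun χ _ => ?_).trans (Finset.sum_subset (Finset.subset_univ _) fun χ _ hχ => ?_)
    · obtain ⟨n, hn⟩ := IsGeneralizedCharacter.exists_mult hg χ.2
      rw [classInner_smul_left, (Γ.irr_z χ).1, ← classInner_conj_symm, hn, map_intCast, mul_comm]
    · have h0 : classInner f (χ : H → ℂ) = 0 :=
        by_contra fun h => hχ (Finset.mem_filter.2 ⟨Finset.mem_univ _, hf χ h⟩)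
      rw [h0, zero_mul]
  have hcolf : ∀ f : H → ℂ, classInner Γ.col f = -(Qc + 1) * classInner Γ.t2 f + Qc * classInner Γ.t0 f +
      (Qc - 1) * ∑ i : Idx Γ.k, (((-1 : ℤ) ^ idx Γ.k i : ℤ) : ℂ) * classInner (Γ.tphi (idx Γ.k i)) f := by
    intro f
    rw [show Γ.col = (-(Qc + 1)) • Γ.t2 + Qc • Γ.t0 + (Qc - 1) • ∑ i : Idx Γ.k,
        (((-1 : ℤ) ^ idx Γ.k i : ℤ) : ℂ) • Γ.tphi (idx Γ.k i) from
      funext fun v => by simp only [col, Pi.add_apply, Pi.smul_apply, Finset.sum_apply, smul_eq_mul]]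
    simp only [classInner_add_left, classInner_smul_left, classInner_sum_left]
  have hz2 : classInner D f2 = 0 := by
    show classInner (W - Γ.col) Γ.t2 = 0
    rw [classInner_sub_left, hWf _ Γ.t2_gen (Γ.t2_mem hM), hcolf, Γ.gram_t2.2, Γ.gram_t0.2.2,
      Γ.t2_values.2.1]
    simp only [show ∀ i, classInner (Γ.tphi (idx Γ.k i)) Γ.t2 = 1 from fun i => by
      rw [← classInner_conj_symm, (Γ.gram_phi i).2.2, map_one]]
    push_cast
    simp only [mul_one, sum_sign Γ.two_le_k]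
    ring
  have hz3 : classInner D f3 = 0 := by
    show classInner (W - Γ.col) (Γ.tphi (idx Γ.k Γ.i1)) = 0
    rw [classInner_sub_left, hWf _ (Γ.tphi_gen _) (Γ.phi_mem hM _), hcolf, (Γ.gram_phi Γ.i1).2.2,
      (Γ.gram_phi Γ.i1).2.1, (Γ.tphi_values _).2.1, hodd]
    have e : ∑ i : Idx Γ.k, (((-1 : ℤ) ^ idx Γ.k i : ℤ) : ℂ) *
        classInner (Γ.tphi (idx Γ.k i)) (Γ.tphi (idx Γ.k Γ.i1)) =
        2 * ∑ i : Idx Γ.k, (-1 : ℂ) ^ idx Γ.k i + ∑ i : Idx Γ.k, if i = Γ.i1 then (-1 : ℂ) else 0 := by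
      rw [Finset.mul_sum, ← Finset.sum_add_distrib]
      refine Finset.sum_congr rfl fun i _ => ?_
      rw [Γ.gram_phi_phi]
      push_cast
      split_ifs with hi
      · rw [hi, hodd]; ring
      · ring
    rw [e, sum_sign Γ.two_le_k, Finset.sum_ite_eq' Finset.univ Γ.i1, if_pos (Finset.mem_univ _)]
    ring
  have hsum : ∑ v : H, D v * conj (D v) = 0 := by
    rw [Finset.sum_congr rfl fun v _ => hD v]
    simp only [classInner] at hz2 hz3
    have hN : (Nat.card H : ℂ)⁻¹ ≠ 0 := inv_ne_zero (Nat.cast_ne_zero.2 Nat.card_pos.ne')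
    have s2 := (mul_eq_zero.1 hz2).resolve_left hN
    have s3 := (mul_eq_zero.1 hz3).resolve_left hN
    have hexp : ∀ v, D v * conj (a * f2 v + b * f3 v) =
        conj a * (D v * conj (f2 v)) + conj b * (D v * conj (f3 v)) := fun v => by
      simp only [map_add, map_mul]; ring
    rw [Finset.sum_congr rfl fun v _ => hexp v, Finset.sum_add_distrib, ← Finset.mul_sum, ← Finset.mul_sum,
      s2, s3, mul_zero, mul_zero, add_zero]
  have hreal : ∑ v : H, Complex.normSq (D v) = 0 := by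
    have h : ((∑ v : H, Complex.normSq (D v) : ℝ) : ℂ) = 0 := by
      rw [Complex.ofReal_sum, ← hsum]
      exact Finset.sum_congr rfl fun v _ => (Complex.mul_conj _).symm
    exact_mod_cast h
  have h0 := (Finset.sum_eq_zero_iff_of_nonneg (fun v _ => Complex.normSq_nonneg _)).1 hreal y (Finset.mem_univ y)
  exact sub_eq_zero.1 (Complex.normSq_eq_zero.1 h0)

end Cfsg.Lib.SemiCyclic.Geo
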