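import Cfsg.Agent.SemiCyclic.Spec

/-!
# The classes of `SL(2, p)` extended by an outer involution

`Geo` collects what the test functions need: the two tori, the unipotent class, and the fusion in the tori.
-/

set_option autoImplicit false

namespace Cfsg.Lib.SemiCyclic

open scoped Classical

universe u

/-- The subgroups of the model. -/
structure Geo (H : Type u) [Group H] (z : H) (p : ℕ) where
  prime : p.Prime
  three_le : 3 ≤ p
  z_ord : orderOf z = 2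
  z_center : z ∈ Subgroup.center H
  card : (Nat.card H : ℤ) = 2 * (p : ℤ) * ((p : ℤ) ^ 2 - 1)
  N : Subgroup H
  N_index : N.index = 2
  z_N : z ∈ N
  T : Subgroup H
  T_comm : ∀ a ∈ T, ∀ b ∈ T, a * b = b * a
  T_card : Nat.card T = 2 * (sgnPrime p + 1).natAbs
  T_cent : ∀ t ∈ T, t ≠ 1 → t ≠ z → Subgroup.centralizer ({t} : Set H) = T
  a : H
  k : ℕ
  m : ℕ
  a_T : a ∈ T
  a_N : a ∉ N
  two_le_k : 2 ≤ k
  m_odd : Odd m
  T_two : Nat.card T = 2 ^ (k + 1) * m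
  a_ord : orderOf a = 2 ^ (k + 1)
  w : H
  w_ord : orderOf w = 2
  w_N : w ∉ N
  w_conj : ∀ t ∈ T, t ∈ N → w * t * w⁻¹ = t⁻¹
  w_conj_a : w * a * w⁻¹ = a⁻¹ * z
  T_norm : ∀ t ∈ T, t ≠ 1 → t ≠ z → ∀ g : H, g * t * g⁻¹ ∈ T → g ∈ T ∨ w * g ∈ T
  S : Subgroup H
  S_comm : ∀ a ∈ S, ∀ b ∈ S, a * b = b * a
  S_card : Nat.card S = 2 * (sgnPrime p - 1).natAbs
  S_cent : ∀ s ∈ S, s ≠ 1 → s ≠ z → Subgroup.centralizer ({s} : Set H) = S
  u : H
  u_ord : orderOf u = 2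
  u_S : u ∈ S
  u_N : u ∉ N
  τ : H
  τ_conj : τ * u * τ⁻¹ = u * z
  τ_S : ∀ s ∈ S, τ * s * τ⁻¹ ∈ S
  S_norm : ∀ s ∈ S, s ≠ 1 → s ≠ z → ∀ g : H, g * s * g⁻¹ ∈ S → g ∈ S ∨ τ⁻¹ * g ∈ S
  x : H
  x_ord : orderOf x = p
  x_cent : Nat.card (Subgroup.centralizer ({x} : Set H)) = 2 * p
  x_conj : ∀ y : H, orderOf y = p → IsConj x y

theorem sgnPrime_sq (p : ℕ) : sgnPrime p ^ 2 = (p : ℤ) ^ 2 := by
  unfold sgnPrime; split_ifs <;> ring

theorem natAbs_sgnPrime (p : ℕ) : (sgnPrime p).natAbs = p := by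
  unfold sgnPrime; split_ifs <;> simp

/-- An element of order prime to the index of a subgroup of an abelian group lies in it. -/
theorem mem_of_coprime_card {H : Type u} [Group H] [Finite H] {A V : Subgroup H}
    (hA : ∀ a ∈ A, ∀ b ∈ A, a * b = b * a) (hV : V ≤ A) {y : H} (hy : y ∈ A) {n r : ℕ} (hn : y ^ n = 1)
    (hr : Nat.card A = Nat.card V * r) (hc : Nat.Coprime n r) : y ∈ V := by
  haveI : (V.subgroupOf A).Normal := ⟨fun v hv g => by
    rwa [show g * v * g⁻¹ = v from Subtype.ext (show (g : H) * v * (g : H)⁻¹ = v by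
      rw [hA _ g.2 _ v.2, mul_inv_cancel_right])]⟩
  have hi : (V.subgroupOf A).index = r := by
    have h := Subgroup.card_mul_index (V.subgroupOf A)
    rw [Nat.card_congr (Subgroup.subgroupOfEquivOfLe hV).toEquiv, hr] at h
    exact Nat.eq_of_mul_eq_mul_left Nat.card_pos h
  have h1 : (⟨y, hy⟩ : A) ^ r ∈ V.subgroupOf A := hi ▸ Subgroup.pow_index_mem _ _
  have h2 : (⟨y, hy⟩ : A) ^ n ∈ V.subgroupOf A := by
    rw [show (⟨y, hy⟩ : A) ^ n = 1 from Subtype.ext (by simpa using hn)]; exact one_mem _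
  have h3 : (⟨y, hy⟩ : A) ∈ V.subgroupOf A := by
    have h : (⟨y, hy⟩ : A) ^ ((Nat.gcd n r : ℕ) : ℤ) ∈ V.subgroupOf A := by
      rw [Nat.gcd_eq_gcd_ab, zpow_add, zpow_mul, zpow_mul]
      refine mul_mem (Subgroup.zpow_mem _ ?_ _) (Subgroup.zpow_mem _ ?_ _)
      · rwa [zpow_natCast]
      · rwa [zpow_natCast]
    rwa [hc.gcd_eq_one, Nat.cast_one, zpow_one] at h
  exact Subgroup.mem_subgroupOf.1 h3

/-- Summation over the conjugates of a set with fusion number `M`. -/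
theorem mul_sum_conjugates {H : Type u} [Group H] [Fintype H] [DecidableEq H] (D : Finset H) (M : ℕ)
    (hM : ∀ d ∈ D, (Finset.univ.filter fun h : H => h * d * h⁻¹ ∈ D).card = M)
    {R : Type*} [CommSemiring R] (f : H → R) :
    (M : R) * ∑ y ∈ (Finset.univ ×ˢ D).image (fun q : H × H => q.1 * q.2 * q.1⁻¹), f y =
      ∑ g : H, ∑ d ∈ D, f (g * d * g⁻¹) := by
  rw [← Finset.sum_product' (f := fun g d => f (g * d * g⁻¹)), Finset.mul_sum,
    ← Finset.sum_fiberwise_of_maps_to (g := fun q : H × H => q.1 * q.2 * q.1⁻¹)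
      (t := (Finset.univ ×ˢ D).image (fun q : H × H => q.1 * q.2 * q.1⁻¹))
      (fun q hq => Finset.mem_image_of_mem _ hq)]
  refine Finset.sum_congr rfl fun y hy => ?_
  obtain ⟨⟨g, d⟩, hgd, rfl⟩ := Finset.mem_image.1 hy
  have hd : d ∈ D := (Finset.mem_product.1 hgd).2
  rw [Finset.sum_congr rfl fun q hq => show f (q.1 * q.2 * q.1⁻¹) = f (g * d * g⁻¹) by
    rw [(Finset.mem_filter.1 hq).2], Finset.sum_const, nsmul_eq_mul]
  congr 2
  rw [← hM d hd]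
  refine Finset.card_bij (fun h _ => (g * h⁻¹, h * d * h⁻¹)) (fun h hh => ?_) (fun a _ b _ e => ?_) ?_
  · exact Finset.mem_filter.2 ⟨Finset.mem_product.2 ⟨Finset.mem_univ _, (Finset.mem_filter.1 hh).2⟩, by group⟩
  · simpa using congrArg Prod.fst e
  · rintro ⟨g', d'⟩ hq
    obtain ⟨hq1, hq2⟩ := Finset.mem_filter.1 hq
    simp only at hq2
    have e : d' = g'⁻¹ * g * d * (g'⁻¹ * g)⁻¹ := by
      calc d' = g'⁻¹ * (g' * d' * g'⁻¹) * g' := by group
        _ = _ := by rw [hq2]; group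
    refine ⟨g'⁻¹ * g, Finset.mem_filter.2 ⟨Finset.mem_univ _, e ▸ (Finset.mem_product.1 hq1).2⟩, ?_⟩
    rw [← e]; simp

namespace Geo

variable {H : Type u} [Group H] {z : H} {p : ℕ}

theorem z_comm (Γ : Geo H z p) (g : H) : g * z = z * g := Subgroup.mem_center_iff.1 Γ.z_center g

theorem z_sq (Γ : Geo H z p) : z * z = 1 := by
  have := pow_orderOf_eq_one z; rwa [Γ.z_ord, pow_two] at this

theorem z_inv (Γ : Geo H z p) : z⁻¹ = z := inv_eq_of_mul_eq_one_right Γ.z_sq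

theorem z_ne (Γ : Geo H z p) : z ≠ 1 := fun h => by
  have := Γ.z_ord; rw [h, orderOf_one] at this; omega

theorem conj_z (Γ : Geo H z p) (g : H) : g * z * g⁻¹ = z := by rw [Γ.z_comm, mul_inv_cancel_right]

theorem z_T (Γ : Geo H z p) : z ∈ Γ.T := by
  have ha : Γ.a ≠ 1 ∧ Γ.a ≠ z := ⟨fun h => Γ.a_N (by rw [h]; exact one_mem _), fun h => Γ.a_N (by rw [h]; exact Γ.z_N)⟩
  rw [← Γ.T_cent _ Γ.a_T ha.1 ha.2, Subgroup.mem_centralizer_singleton_iff]
  exact (Γ.z_comm _).symm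

theorem z_S (Γ : Geo H z p) : z ∈ Γ.S := by
  have hu : Γ.u ≠ 1 ∧ Γ.u ≠ z := ⟨fun h => Γ.u_N (by rw [h]; exact one_mem _), fun h => Γ.u_N (by rw [h]; exact Γ.z_N)⟩
  rw [← Γ.S_cent _ Γ.u_S hu.1 hu.2, Subgroup.mem_centralizer_singleton_iff]
  exact (Γ.z_comm _).symm

theorem w_inv (Γ : Geo H z p) : Γ.w⁻¹ = Γ.w :=
  inv_eq_of_mul_eq_one_right (by have := pow_orderOf_eq_one Γ.w; rwa [Γ.w_ord, pow_two] at this)

theorem w_T (Γ : Geo H z p) {t : H} (ht : t ∈ Γ.T) : Γ.w * t * Γ.w⁻¹ ∈ Γ.T := by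
  by_cases hN : t ∈ Γ.N
  · rw [Γ.w_conj t ht hN]; exact inv_mem ht
  · have h : Γ.a⁻¹ * t ∈ Γ.N := by
      rw [Subgroup.mul_mem_iff_of_index_two Γ.N_index]
      exact iff_of_false (fun h => Γ.a_N (inv_mem_iff.1 h)) hN
    rw [show Γ.w * t * Γ.w⁻¹ = (Γ.w * Γ.a * Γ.w⁻¹) * (Γ.w * (Γ.a⁻¹ * t) * Γ.w⁻¹) by group, Γ.w_conj_a,
      Γ.w_conj _ (mul_mem (inv_mem Γ.a_T) ht) h]
    exact mul_mem (mul_mem (inv_mem Γ.a_T) Γ.z_T) (inv_mem (mul_mem (inv_mem Γ.a_T) ht))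

theorem τ_sq (Γ : Geo H z p) : Γ.τ * Γ.τ ∈ Γ.S := by
  have hu : Γ.u ≠ 1 ∧ Γ.u ≠ z := ⟨fun h => Γ.u_N (by rw [h]; exact one_mem _), fun h => Γ.u_N (by rw [h]; exact Γ.z_N)⟩
  rw [← Γ.S_cent _ Γ.u_S hu.1 hu.2, Subgroup.mem_centralizer_singleton_iff]
  refine mul_inv_eq_iff_eq_mul.1 ?_
  rw [show Γ.τ * Γ.τ * Γ.u * (Γ.τ * Γ.τ)⁻¹ = Γ.τ * (Γ.τ * Γ.u * Γ.τ⁻¹) * Γ.τ⁻¹ by group, Γ.τ_conj,
    show Γ.τ * (Γ.u * z) * Γ.τ⁻¹ = Γ.τ * Γ.u * Γ.τ⁻¹ * (Γ.τ * z * Γ.τ⁻¹) by group, Γ.τ_conj, Γ.conj_z,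
    mul_assoc, Γ.z_sq, mul_one]

theorem index_conj (Γ : Geo H z p) (g t : H) : g * t * g⁻¹ ∈ Γ.N ↔ t ∈ Γ.N := by
  haveI := Subgroup.normal_of_index_eq_two Γ.N_index
  exact ⟨fun h => by simpa [mul_assoc] using ‹Γ.N.Normal›.conj_mem _ h g⁻¹,
    fun h => ‹Γ.N.Normal›.conj_mem _ h g⟩

theorem x_N [Finite H] (Γ : Geo H z p) : Γ.x ∈ Γ.N := by
  by_contra h
  have h2 := Subgroup.mul_self_mem_of_index_two Γ.N_index Γ.x
  have hp : Odd p := Γ.prime.odd_of_ne_two (by have := Γ.three_le; omega)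
  obtain ⟨j, hj⟩ := hp
  refine h ?_
  have e : Γ.x ^ (2 * j + 1) = 1 := orderOf_dvd_iff_pow_eq_one.1 (by rw [Γ.x_ord, hj])
  rw [pow_succ, pow_mul, pow_two] at e
  rw [eq_inv_of_mul_eq_one_right e]
  exact inv_mem (pow_mem h2 j)

variable [Fintype H]

/-- The two noncentral parts of a subgroup. -/
noncomputable def punct (A : Subgroup H) (z : H) : Finset H :=
  Finset.univ.filter fun y => y ∈ A ∧ y ≠ 1 ∧ y ≠ z

theorem mem_punct {A : Subgroup H} {y : H} : y ∈ punct A z ↔ y ∈ A ∧ y ≠ 1 ∧ y ≠ z := by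
  simp [punct]

theorem sum_punct {A : Subgroup H} (hz : z ∈ A) (hz1 : z ≠ 1) (f : H → ℂ) :
    ∑ y ∈ punct A z, f y = (∑ y ∈ Finset.univ.filter (fun y => y ∈ A), f y) - f 1 - f z := by
  have e : Finset.univ.filter (fun y => y ∈ A) = insert 1 (insert z (punct A z)) := by
    ext y
    simp only [Finset.mem_filter, Finset.mem_univ, true_and, Finset.mem_insert, mem_punct]
    constructor
    · intro h; by_cases h1 : y = 1 <;> by_cases h2 : y = z <;> simp [h, h1, h2]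
    · rintro (rfl | rfl | ⟨h, -⟩)
      exacts [one_mem _, hz, h]
  rw [e, Finset.sum_insert (by simp [mem_punct, hz1.symm]), Finset.sum_insert (by simp [mem_punct])]
  ring

theorem card_punct {A : Subgroup H} (hz : z ∈ A) (hz1 : z ≠ 1) :
    (punct A z).card + 2 = Nat.card A := by
  have h := sum_punct hz hz1 (fun _ => (1 : ℂ))
  simp only [Finset.sum_const, nsmul_eq_mul, mul_one] at h
  rw [← Fintype.card_subtype, ← Nat.card_eq_fintype_card] at h
  apply Nat.cast_injective (R := ℂ)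
  push_cast
  rw [h]
  show (Nat.card A : ℂ) - 1 - 1 + 2 = _
  ring

/-- Fusion in an abelian subgroup with a normalising element. -/
theorem card_fusion {A : Subgroup H} {v d : H} (hd : d ∈ punct A z) (hz : ∀ g : H, g * z * g⁻¹ = z)
    (hA : ∀ a ∈ A, ∀ b ∈ A, a * b = b * a) (hv : ∀ t ∈ A, v * t * v⁻¹ ∈ A) (hvA : v ∉ A)
    (hf : ∀ g : H, g * d * g⁻¹ ∈ A → g ∈ A ∨ v⁻¹ * g ∈ A) :
    (Finset.univ.filter fun h : H => h * d * h⁻¹ ∈ punct A z).card = 2 * Nat.card A := by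
  obtain ⟨hdA, hd1, hdz⟩ := mem_punct.1 hd
  have e : (Finset.univ.filter fun h : H => h * d * h⁻¹ ∈ punct A z) =
      Finset.univ.filter (fun h : H => h ∈ A) ∪ (Finset.univ.filter (fun h : H => h ∈ A)).image (v * ·) := by
    ext h
    simp only [Finset.mem_filter, Finset.mem_univ, true_and, Finset.mem_union, Finset.mem_image, mem_punct]
    constructor
    · rintro ⟨h1, -⟩
      exact (hf h h1).imp id fun h2 => ⟨_, h2, by group⟩
    · intro h0
      have hA' : h * d * h⁻¹ ∈ A := by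
        rcases h0 with h1 | ⟨t, ht, rfl⟩
        · exact mul_mem (mul_mem h1 hdA) (inv_mem h1)
        · rw [show v * t * d * (v * t)⁻¹ = v * (t * d * t⁻¹) * v⁻¹ by group]
          exact hv _ (mul_mem (mul_mem ht hdA) (inv_mem ht))
      refine ⟨hA', fun e => hd1 (conj_eq_one_iff.1 e), fun e => hdz ?_⟩
      calc d = h⁻¹ * (h * d * h⁻¹) * h⁻¹⁻¹ := by group
        _ = z := by rw [e]; exact hz _
  rw [e, Finset.card_union_of_disjoint, Finset.card_image_of_injective _ (mul_right_injective v),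
    ← Fintype.card_subtype, ← Nat.card_eq_fintype_card]
  · change Nat.card A + Nat.card A = 2 * Nat.card A
    omega
  · rw [Finset.disjoint_left]
    intro y hy hy'
    obtain ⟨t, ht, rfl⟩ := Finset.mem_image.1 hy'
    simp only [Finset.mem_filter, Finset.mem_univ, true_and] at hy ht
    exact hvA (by simpa using mul_mem hy (inv_mem ht))

theorem w_not_T (Γ : Geo H z p) : Γ.w ∉ Γ.T := fun h => by
  have e := Γ.w_conj_a
  rw [Γ.T_comm _ h _ Γ.a_T, mul_inv_cancel_right] at e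
  have e2 : Γ.a * Γ.a = z := by
    calc Γ.a * Γ.a = Γ.a * (Γ.a⁻¹ * z) := congrArg (Γ.a * ·) e
      _ = z := by group
  have h4 : Γ.a ^ 4 = 1 := by
    rw [show (4 : ℕ) = 2 * 2 from rfl, pow_mul, sq Γ.a, e2, sq, Γ.z_sq]
  have h8 : 2 ^ (Γ.k + 1) ∣ 4 := Γ.a_ord ▸ orderOf_dvd_of_pow_eq_one h4
  have := Nat.le_of_dvd (by norm_num) h8
  have : 2 ^ 3 ≤ 2 ^ (Γ.k + 1) := Nat.pow_le_pow_right (by norm_num) (by have := Γ.two_le_k; omega)
  omega

theorem τ_not_S (Γ : Geo H z p) : Γ.τ ∉ Γ.S := fun h => by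
  have e := Γ.τ_conj
  rw [Γ.S_comm _ h _ Γ.u_S, mul_inv_cancel_right] at e
  exact Γ.z_ne (mul_eq_left.1 e.symm)

theorem fusion_T (Γ : Geo H z p) {d : H} (hd : d ∈ punct Γ.T z) :
    (Finset.univ.filter fun h : H => h * d * h⁻¹ ∈ punct Γ.T z).card = 2 * Nat.card Γ.T :=
  card_fusion hd Γ.conj_z Γ.T_comm (fun _ => Γ.w_T) Γ.w_not_T fun g hg => by
    rw [Γ.w_inv]
    exact Γ.T_norm d (mem_punct.1 hd).1 (mem_punct.1 hd).2.1 (mem_punct.1 hd).2.2 g hg

theorem fusion_S (Γ : Geo H z p) {d : H} (hd : d ∈ punct Γ.S z) :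
    (Finset.univ.filter fun h : H => h * d * h⁻¹ ∈ punct Γ.S z).card = 2 * Nat.card Γ.S :=
  card_fusion hd Γ.conj_z Γ.S_comm Γ.τ_S Γ.τ_not_S
    (Γ.S_norm d (mem_punct.1 hd).1 (mem_punct.1 hd).2.1 (mem_punct.1 hd).2.2)

theorem zx_cent (Γ : Geo H z p) (g : H) : g * (z * Γ.x) * g⁻¹ = z * Γ.x ↔ g * Γ.x * g⁻¹ = Γ.x := by
  rw [show g * (z * Γ.x) * g⁻¹ = g * z * g⁻¹ * (g * Γ.x * g⁻¹) by group, Γ.conj_z, mul_right_inj]

theorem fusion_x (Γ : Geo H z p) :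
    (Finset.univ.filter fun h : H => h * Γ.x * h⁻¹ ∈ ({Γ.x} : Finset H)).card = 2 * p := by
  rw [← Γ.x_cent, Nat.card_eq_fintype_card, Fintype.card_subtype]
  congr 1
  ext h
  simp only [Finset.mem_filter, Finset.mem_univ, true_and, Finset.mem_singleton,
    Subgroup.mem_centralizer_singleton_iff, mul_inv_eq_iff_eq_mul]

theorem fusion_zx (Γ : Geo H z p) :
    (Finset.univ.filter fun h : H => h * (z * Γ.x) * h⁻¹ ∈ ({z * Γ.x} : Finset H)).card = 2 * p := by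
  rw [← Γ.fusion_x]
  congr 1
  ext h
  simp only [Finset.mem_filter, Finset.mem_univ, true_and, Finset.mem_singleton, Γ.zx_cent]

/-- The conjugates of a set. -/
noncomputable def cl (D : Finset H) : Finset H :=
  (Finset.univ ×ˢ D).image (fun q : H × H => q.1 * q.2 * q.1⁻¹)

theorem mem_cl {D : Finset H} {y : H} : y ∈ cl D ↔ ∃ d ∈ D, ∃ g : H, g * d * g⁻¹ = y := by
  simp only [cl, Finset.mem_image, Finset.mem_product, Finset.mem_univ, true_and, Prod.exists]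
  exact ⟨fun ⟨g, d, hd, e⟩ => ⟨d, hd, g, e⟩, fun ⟨d, hd, g, e⟩ => ⟨g, d, hd, e⟩⟩

theorem card_centralizer_conj (g d : H) :
    Nat.card (Subgroup.centralizer ({g * d * g⁻¹} : Set H)) = Nat.card (Subgroup.centralizer ({d} : Set H)) := by
  refine (Nat.card_congr ((MulAut.conj g).toEquiv.subtypeEquiv fun h => ?_)).symm
  simp only [Subgroup.mem_centralizer_singleton_iff, MulEquiv.toEquiv_eq_coe, EquivLike.coe_coe, MulAut.conj_apply]
  constructor
  · intro e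
    calc g * h * g⁻¹ * (g * d * g⁻¹) = g * (h * d) * g⁻¹ := by group
      _ = g * (d * h) * g⁻¹ := by rw [e]
      _ = _ := by group
  · intro e
    calc h * d = g⁻¹ * ((g * h * g⁻¹) * (g * d * g⁻¹)) * g := by group
      _ = g⁻¹ * ((g * d * g⁻¹) * (g * h * g⁻¹)) * g := by rw [e]
      _ = d * h := by group

theorem orderOf_zx (Γ : Geo H z p) : orderOf (z * Γ.x) = 2 * p := by
  have hc : Commute z Γ.x := (Γ.z_comm Γ.x).symm
  rw [hc.orderOf_mul_eq_mul_orderOf_of_coprime, Γ.z_ord, Γ.x_ord]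
  rw [Γ.z_ord, Γ.x_ord, Nat.coprime_primes Nat.prime_two Γ.prime]
  have := Γ.three_le
  omega

theorem cent_x_ne (Γ : Geo H z p) : 2 * p ≠ 2 * (sgnPrime p + 1).natAbs ∧ 2 * p ≠ 2 * (sgnPrime p - 1).natAbs ∧
    2 * (sgnPrime p + 1).natAbs ≠ 2 * (sgnPrime p - 1).natAbs ∧ 2 * p < Nat.card H ∧
    2 * (sgnPrime p + 1).natAbs < Nat.card H ∧ 2 * (sgnPrime p - 1).natAbs < Nat.card H := by
  have h3 := Γ.three_le
  have hc := Γ.card
  have h8 : (8 : ℤ) ≤ (p : ℤ) ^ 2 - 1 := by nlinarith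
  have hbig : 16 * (p : ℤ) ≤ Nat.card H := by nlinarith
  unfold sgnPrime
  split_ifs <;> omega

/-- The classes: central elements, two unipotent classes and the two tori. -/
theorem cover (Γ : Geo H z p) :
    Finset.univ = ({1, z} : Finset H) ∪ cl {Γ.x} ∪ cl {z * Γ.x} ∪ cl (punct Γ.T z) ∪ cl (punct Γ.S z) ∧
    Disjoint ({1, z} : Finset H) (cl {Γ.x}) ∧
    Disjoint (({1, z} : Finset H) ∪ cl {Γ.x}) (cl {z * Γ.x}) ∧
    Disjoint (({1, z} : Finset H) ∪ cl {Γ.x} ∪ cl {z * Γ.x}) (cl (punct Γ.T z)) ∧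
    Disjoint (({1, z} : Finset H) ∪ cl {Γ.x} ∪ cl {z * Γ.x} ∪ cl (punct Γ.T z)) (cl (punct Γ.S z)) := by
  obtain ⟨n1, n2, n3, b1, b2, b3⟩ := Γ.cent_x_ne
  let c : H → ℕ := fun y => Nat.card (Subgroup.centralizer ({y} : Set H))
  have c0 : ∀ y ∈ ({1, z} : Finset H), c y = Nat.card H := by
    intro y hy
    have hy' : y ∈ Subgroup.center H := by
      rcases Finset.mem_insert.1 hy with rfl | hy
      · exact one_mem _
      · rw [Finset.mem_singleton.1 hy]; exact Γ.z_center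
    have e : Subgroup.centralizer ({y} : Set H) = ⊤ := (Subgroup.eq_top_iff' _).2 fun g =>
      Subgroup.mem_centralizer_singleton_iff.2 (Subgroup.mem_center_iff.1 hy' g)
    show Nat.card _ = _
    rw [e, Subgroup.card_top]
  have cx : ∀ y ∈ cl {Γ.x}, c y = 2 * p ∧ orderOf y = p := by
    intro y hy
    obtain ⟨d, hd, g, rfl⟩ := mem_cl.1 hy
    rw [Finset.mem_singleton.1 hd]
    exact ⟨(card_centralizer_conj _ _).trans Γ.x_cent,
      ((SemiconjBy.conj_mk g Γ.x).orderOf_eq g).symm.trans Γ.x_ord⟩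
  have czx : ∀ y ∈ cl {z * Γ.x}, c y = 2 * p ∧ orderOf y = 2 * p := by
    intro y hy
    obtain ⟨d, hd, g, rfl⟩ := mem_cl.1 hy
    rw [Finset.mem_singleton.1 hd]
    refine ⟨(card_centralizer_conj _ _).trans (Eq.trans ?_ Γ.x_cent),
      ((SemiconjBy.conj_mk g (z * Γ.x)).orderOf_eq g).symm.trans Γ.orderOf_zx⟩
    refine Nat.card_congr ((Equiv.refl H).subtypeEquiv fun h => ?_)
    simp only [Subgroup.mem_centralizer_singleton_iff, Equiv.refl_apply]
    rw [← mul_inv_eq_iff_eq_mul, Γ.zx_cent, mul_inv_eq_iff_eq_mul]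
  have cT : ∀ y ∈ cl (punct Γ.T z), c y = 2 * (sgnPrime p + 1).natAbs := by
    intro y hy
    obtain ⟨d, hd, g, rfl⟩ := mem_cl.1 hy
    show Nat.card _ = _
    rw [card_centralizer_conj, Γ.T_cent d (mem_punct.1 hd).1 (mem_punct.1 hd).2.1 (mem_punct.1 hd).2.2, Γ.T_card]
  have cS : ∀ y ∈ cl (punct Γ.S z), c y = 2 * (sgnPrime p - 1).natAbs := by
    intro y hy
    obtain ⟨d, hd, g, rfl⟩ := mem_cl.1 hy
    show Nat.card _ = _
    rw [card_centralizer_conj, Γ.S_cent d (mem_punct.1 hd).1 (mem_punct.1 hd).2.1 (mem_punct.1 hd).2.2, Γ.S_card]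
  have d1 : Disjoint ({1, z} : Finset H) (cl {Γ.x}) := Finset.disjoint_left.2 fun y h h' => by
    have := c0 y h; have := (cx y h').1; omega
  have d2 : Disjoint (({1, z} : Finset H) ∪ cl {Γ.x}) (cl {z * Γ.x}) := Finset.disjoint_left.2 fun y h h' => by
    obtain ⟨h1, h2⟩ := czx y h'
    rcases Finset.mem_union.1 h with h | h
    · have := c0 y h; omega
    · have := (cx y h).2; have := Γ.three_le; omega
  have d3 : Disjoint (({1, z} : Finset H) ∪ cl {Γ.x} ∪ cl {z * Γ.x}) (cl (punct Γ.T z)) :=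
    Finset.disjoint_left.2 fun y h h' => by
      have := cT y h'
      rcases Finset.mem_union.1 h with h | h
      · rcases Finset.mem_union.1 h with h | h
        · have := c0 y h; omega
        · have := (cx y h).1; omega
      · have := (czx y h).1; omega
  have d4 : Disjoint (({1, z} : Finset H) ∪ cl {Γ.x} ∪ cl {z * Γ.x} ∪ cl (punct Γ.T z)) (cl (punct Γ.S z)) :=
    Finset.disjoint_left.2 fun y h h' => by
      have := cS y h'
      rcases Finset.mem_union.1 h with h | h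
      · rcases Finset.mem_union.1 h with h | h
        · rcases Finset.mem_union.1 h with h | h
          · have := c0 y h; omega
          · have := (cx y h).1; omega
        · have := (czx y h).1; omega
      · have := cT y h; omega
  refine ⟨(Finset.eq_univ_of_card _ ?_).symm, d1, d2, d3, d4⟩
  rw [Finset.card_union_of_disjoint d4, Finset.card_union_of_disjoint d3, Finset.card_union_of_disjoint d2,
    Finset.card_union_of_disjoint d1, Finset.card_pair Γ.z_ne.symm]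
  have key : ∀ (D : Finset H) (M : ℕ), (∀ d ∈ D, (Finset.univ.filter fun h : H => h * d * h⁻¹ ∈ D).card = M) →
      (M : ℤ) * ((cl D).card : ℤ) = (Nat.card H : ℤ) * (D.card : ℤ) := by
    intro D M hM
    have h := mul_sum_conjugates D M hM (fun _ => (1 : ℤ))
    simp only [Finset.sum_const, nsmul_eq_mul, mul_one, Finset.card_univ] at h
    rw [Nat.card_eq_fintype_card]
    exact h
  have k1 := key {Γ.x} (2 * p) (fun d hd => by rw [Finset.mem_singleton.1 hd]; exact Γ.fusion_x)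
  have k2 := key {z * Γ.x} (2 * p) (fun d hd => by rw [Finset.mem_singleton.1 hd]; exact Γ.fusion_zx)
  have k3 := key _ _ (fun d hd => Γ.fusion_T hd)
  have k4 := key _ _ (fun d hd => Γ.fusion_S hd)
  have pT := card_punct (A := Γ.T) Γ.z_T Γ.z_ne
  have pS := card_punct (A := Γ.S) Γ.z_S Γ.z_ne
  simp only [Finset.card_singleton, Nat.cast_one, mul_one] at k1 k2
  set X := (cl {Γ.x}).card
  set Y := (cl {z * Γ.x}).card
  set U := (cl (punct Γ.T z)).card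
  set V := (cl (punct Γ.S z)).card
  apply Nat.cast_injective (R := ℤ)
  rw [← Nat.card_eq_fintype_card]
  push_cast
  have eT : (Nat.card Γ.T : ℤ) = 2 * |sgnPrime p + 1| := by rw [Γ.T_card]; push_cast; rfl
  have eS : (Nat.card Γ.S : ℤ) = 2 * |sgnPrime p - 1| := by rw [Γ.S_card]; push_cast; rfl
  have pT' : ((punct Γ.T z).card : ℤ) = Nat.card Γ.T - 2 := by omega
  have pS' : ((punct Γ.S z).card : ℤ) = Nat.card Γ.S - 2 := by omega
  push_cast at k1 k2 k3 k4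
  rw [pT', eT] at k3
  rw [pS', eS] at k4
  have h3 : (3 : ℤ) ≤ p := by exact_mod_cast Γ.three_le
  have hX : (X : ℤ) = (p : ℤ) ^ 2 - 1 := by rw [Γ.card] at k1; nlinarith
  have hY : (Y : ℤ) = (p : ℤ) ^ 2 - 1 := by rw [Γ.card] at k2; nlinarith
  have h4 : ∀ A : ℤ, A ≠ 0 → ∀ U' : ℤ, (2 * (2 * A)) * U' = 2 * (p : ℤ) * ((p : ℤ) ^ 2 - 1) * (2 * A - 2) →
      A * U' = (p : ℤ) * ((p : ℤ) ^ 2 - 1) * (A - 1) := fun A _ U' h => by linarith
  rw [Γ.card] at k3 k4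
  have e : (|sgnPrime p + 1| = (p : ℤ) + 1 ∧ |sgnPrime p - 1| = (p : ℤ) - 1) ∨
      (|sgnPrime p + 1| = (p : ℤ) - 1 ∧ |sgnPrime p - 1| = (p : ℤ) + 1) := by
    unfold sgnPrime
    split_ifs
    · exact Or.inl ⟨abs_of_nonneg (by omega), abs_of_nonneg (by omega)⟩
    · exact Or.inr ⟨by rw [abs_of_nonpos (by omega)]; ring, by rw [abs_of_nonpos (by omega)]; ring⟩
  have hUV : ∀ A B U' : ℤ, A ≠ 0 → A * B = (p : ℤ) ^ 2 - 1 →
      (2 * (2 * A)) * U' = 2 * (p : ℤ) * ((p : ℤ) ^ 2 - 1) * (2 * A - 2) → U' = (p : ℤ) * B * (A - 1) :=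
    fun A B U' hA hAB h => mul_left_cancel₀ hA (by rw [h4 A hA U' h, ← hAB]; ring)
  rw [Γ.card]
  rcases e with ⟨e1, e2⟩ | ⟨e1, e2⟩ <;> rw [e1] at k3 <;> rw [e2] at k4 <;>
    rw [hX, hY, hUV _ (|sgnPrime p - 1|) _ (by omega) (by rw [e2]; ring) k3,
      hUV _ (|sgnPrime p + 1|) _ (by omega) (by rw [e1]; ring) k4, e1, e2] <;> ring

end Geo

end Cfsg.Lib.SemiCyclic
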