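import Mathlib

/-!
# Representatives of the pairs `{j, (2 ^ k - 1) j}` of exponents modulo `2 ^ (k + 1)`
-/

set_option autoImplicit false

namespace Cfsg.Lib.SemiCyclic

open Finset

/-- The partner of an exponent. -/
def partner (k j : ℕ) : ℕ := j * (2 ^ k - 1)

/-- The index type of the coherent family. -/
abbrev Idx (k : ℕ) : Type := Fin (2 * 2 ^ (k - 2) - 1) ⊕ (Fin (2 ^ (k - 2)) ⊕ Fin (2 ^ (k - 2)))

/-- The exponent of an index. -/
def idx (k : ℕ) : Idx k → ℕ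
  | Sum.inl i => 2 * ((i : ℕ) + 1)
  | Sum.inr (Sum.inl i) => 2 * (i : ℕ) + 1
  | Sum.inr (Sum.inr i) => 2 ^ k + (2 * (i : ℕ) + 1)

theorem two_pow_quarter {k : ℕ} (hk : 2 ≤ k) : 2 ^ k = 4 * 2 ^ (k - 2) := by
  rw [show (4 : ℕ) = 2 ^ 2 from rfl, ← pow_add]; congr 1; omega

theorem partner_mod_even {k i : ℕ} (hi : 0 < i) (hi' : i < 2 ^ k) :
    partner k (2 * i) % 2 ^ (k + 1) = 2 ^ (k + 1) - 2 * i := by
  obtain ⟨c, hc⟩ : ∃ c, i = c + 1 := ⟨i - 1, by omega⟩
  have hn : 2 ^ (k + 1) = 2 * 2 ^ k := pow_succ' 2 k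
  have e : partner k (2 * i) = (2 ^ (k + 1) - 2 * i) + 2 ^ (k + 1) * c := by
    unfold partner
    have h1 := Nat.one_le_two_pow (n := k)
    zify [h1, show 2 * i ≤ 2 ^ (k + 1) by omega]
    rw [pow_succ, hc]; push_cast; ring
  rw [e, Nat.add_mul_mod_self_left, Nat.mod_eq_of_lt (by omega)]

theorem partner_mod_odd {k i : ℕ} (hi : 2 * i + 1 ≤ 2 ^ k) :
    partner k (2 * i + 1) % 2 ^ (k + 1) = 2 ^ k - (2 * i + 1) := by
  have hn : 2 ^ (k + 1) = 2 * 2 ^ k := pow_succ' 2 k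
  have e : partner k (2 * i + 1) = (2 ^ k - (2 * i + 1)) + 2 ^ (k + 1) * i := by
    unfold partner
    have h1 := Nat.one_le_two_pow (n := k)
    zify [h1, hi]
    rw [pow_succ]; ring
  rw [e, Nat.add_mul_mod_self_left, Nat.mod_eq_of_lt (by omega)]

theorem partner_mod_shift {k i : ℕ} (hk : 2 ≤ k) (hi : 2 * i + 1 ≤ 2 ^ k) :
    partner k (2 ^ k + (2 * i + 1)) % 2 ^ (k + 1) = 2 ^ (k + 1) - (2 * i + 1) := by
  have hn : 2 ^ (k + 1) = 2 * 2 ^ k := pow_succ' 2 k
  have h4 := two_pow_quarter hk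
  have e : partner k (2 ^ k + (2 * i + 1)) = (2 ^ (k + 1) - (2 * i + 1)) + 2 ^ (k + 1) * (2 * 2 ^ (k - 2) + i - 1) := by
    unfold partner
    have h1 := Nat.one_le_two_pow (n := k)
    have h2 : 1 ≤ 2 * 2 ^ (k - 2) + i := by have := Nat.one_le_two_pow (n := k - 2); omega
    zify [h1, h2, show 2 * i + 1 ≤ 2 ^ (k + 1) by omega]
    have h4' : (2 : ℤ) ^ k = 4 * (2 : ℤ) ^ (k - 2) := by exact_mod_cast h4
    rw [pow_succ, h4']; ring
  rw [e, Nat.add_mul_mod_self_left, Nat.mod_eq_of_lt (by omega)]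

theorem idx_props {k : ℕ} (hk : 2 ≤ k) :
    (∀ i : Idx k, idx k i < 2 ^ (k + 1) ∧ idx k i ≠ 0 ∧ idx k i ≠ 2 ^ k) ∧
    Function.Injective (idx k) ∧ ∀ i j : Idx k, partner k (idx k i) % 2 ^ (k + 1) ≠ idx k j := by
  have h4 := two_pow_quarter hk
  have hn : 2 ^ (k + 1) = 2 * 2 ^ k := pow_succ' 2 k
  have h1 := Nat.one_le_two_pow (n := k - 2)
  refine ⟨fun i => ?_, fun i j h => ?_, fun i j h => ?_⟩
  · rcases i with i | i | i <;> simp only [idx] <;> have := i.2 <;> omega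
  · rcases i with i | i | i <;> rcases j with j | j | j <;> simp only [idx] at h <;>
      have := i.2 <;> have := j.2 <;>
      simp only [Sum.inl.injEq, Sum.inr.injEq, reduceCtorEq, Fin.ext_iff] <;> omega
  · rcases i with i | i | i <;> simp only [idx] at h
    · have := i.2
      rw [partner_mod_even (by omega) (by omega)] at h
      rcases j with j | j | j <;> have := j.2 <;> simp only [idx] at h <;> omega
    · have := i.2
      rw [partner_mod_odd (by omega)] at h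
      rcases j with j | j | j <;> have := j.2 <;> simp only [idx] at h <;> omega
    · have := i.2
      rw [partner_mod_shift hk (by omega)] at h
      rcases j with j | j | j <;> have := j.2 <;> simp only [idx] at h <;> omega

/-- The signed sum over the pairs. -/
theorem sum_idx {k : ℕ} (hk : 2 ≤ k) {w : ℂ} (hw : w ^ 2 ^ (k + 1) = 1) :
    ∑ i : Idx k, (-1) ^ idx k i * (w ^ idx k i + w ^ partner k (idx k i)) =
      (if w = -1 then (2 : ℂ) ^ (k + 1) else 0) - 1 - w ^ 2 ^ k := by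
  have h4 := two_pow_quarter hk
  set q := 2 ^ (k - 2) with hq
  have hn : 2 ^ (k + 1) = 8 * q := by rw [pow_succ, h4]; ring
  have h1 : 1 ≤ q := Nat.one_le_two_pow
  have hm : ∀ a b : ℕ, a % 2 ^ (k + 1) = b → w ^ a = w ^ b := fun a b h => by
    conv_lhs => rw [← Nat.mod_add_div a (2 ^ (k + 1)), pow_add, pow_mul, hw, one_pow, mul_one, h]
  have e1 : ∑ i : Fin (2 * q - 1), (-1 : ℂ) ^ idx k (Sum.inl i) *
      (w ^ idx k (Sum.inl i) + w ^ partner k (idx k (Sum.inl i))) =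
      (∑ i ∈ range (4 * q), (w ^ 2) ^ i) - 1 - w ^ 2 ^ k := by
    obtain ⟨r, hr⟩ : ∃ r, 2 * q = r + 1 := ⟨2 * q - 1, by omega⟩
    have split : ∑ i ∈ range (4 * q), (w ^ 2) ^ i - 1 - w ^ 2 ^ k = ∑ i ∈ range (2 * q - 1),
        ((w ^ 2) ^ (i + 1) + (w ^ 2) ^ (2 * q + (2 * q - 1 - 1 - i + 1))) := by
      rw [show 4 * q = (r + 1) + (r + 1) by omega, sum_range_add, sum_range_succ', sum_range_succ' (n := r),
        ← sum_range_reflect (fun i => (w ^ 2) ^ (r + 1 + (i + 1))), pow_zero, add_zero, ← pow_mul w 2 (r + 1),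
        show 2 * (r + 1) = 2 ^ k by omega, sum_add_distrib, show 2 * q - 1 = r by omega, ← hr]
      ring
    rw [split, ← Fin.sum_univ_eq_sum_range (fun i => (w ^ 2) ^ (i + 1) +
      (w ^ 2) ^ (2 * q + (2 * q - 1 - 1 - i + 1)))]
    refine sum_congr rfl fun i _ => ?_
    have := i.2
    simp only [idx]
    rw [Even.neg_one_pow ⟨(i : ℕ) + 1, by ring⟩, one_mul, ← pow_mul, ← pow_mul,
      hm (partner k _) _ (partner_mod_even (by omega) (by omega))]
    congr 2
    omega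
  have e2 : ∑ i : Fin q ⊕ Fin q, (-1 : ℂ) ^ idx k (Sum.inr i) *
      (w ^ idx k (Sum.inr i) + w ^ partner k (idx k (Sum.inr i))) =
      -(w * ∑ i ∈ range (4 * q), (w ^ 2) ^ i) := by
    rw [Fintype.sum_sum_type, show 4 * q = q + q + (q + q) by ring, sum_range_add, sum_range_add, sum_range_add,
      ← sum_range_reflect (fun i => (w ^ 2) ^ (q + i)), ← sum_range_reflect (fun i => (w ^ 2) ^ (q + q + (q + i))),
      ← Fin.sum_univ_eq_sum_range, ← Fin.sum_univ_eq_sum_range, ← Fin.sum_univ_eq_sum_range,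
      ← Fin.sum_univ_eq_sum_range, ← sum_add_distrib, ← sum_add_distrib, ← sum_add_distrib, ← sum_add_distrib,
      mul_sum, ← sum_neg_distrib]
    refine sum_congr rfl fun i _ => ?_
    have := i.2
    simp only [idx]
    rw [Odd.neg_one_pow ⟨(i : ℕ), rfl⟩,
      Odd.neg_one_pow (Even.add_odd (Nat.even_pow.2 ⟨even_two, by omega⟩) ⟨(i : ℕ), rfl⟩),
      hm (partner k (2 * (i : ℕ) + 1)) _ (partner_mod_odd (by omega)),
      hm (partner k (2 ^ k + (2 * (i : ℕ) + 1))) _ (partner_mod_shift hk (by omega))]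
    simp only [← pow_mul, mul_add, ← pow_succ', neg_mul, one_mul]
    rw [show 2 ^ k - (2 * (i : ℕ) + 1) = 2 * q + 2 * (q - 1 - i) + 1 by omega,
      show 2 ^ (k + 1) - (2 * (i : ℕ) + 1) = 2 * q + 2 * q + (2 * q + 2 * (q - 1 - i)) + 1 by omega,
      show 2 ^ k + (2 * (i : ℕ) + 1) = 2 * q + 2 * q + 2 * i + 1 by omega]
    ring
  rw [Fintype.sum_sum_type, e1, e2]
  have hgeo : (∑ i ∈ range (4 * q), (w ^ 2) ^ i) * (w ^ 2 - 1) = 0 := by
    rw [geom_sum_mul, ← pow_mul, show 2 * (4 * q) = 2 ^ (k + 1) by omega, hw, sub_self]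
  by_cases hw1 : w = -1
  · rw [if_pos hw1, hw1, neg_one_sq]
    simp only [one_pow, sum_const, card_range, nsmul_eq_mul, mul_one]
    have h4' : (2 : ℂ) ^ k = 4 * (q : ℂ) := by exact_mod_cast h4
    push_cast
    rw [pow_succ (2 : ℂ), h4']
    ring
  · rw [if_neg hw1]
    have h2 : w + 1 ≠ 0 := fun h => hw1 (eq_neg_of_add_eq_zero_left h)
    have h0 : (∑ i ∈ range (4 * q), (w ^ 2) ^ i) * (1 - w) = 0 := by
      rw [show w ^ 2 - 1 = -((1 - w) * (w + 1)) by ring, mul_neg, neg_eq_zero, ← mul_assoc] at hgeo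
      exact (mul_eq_zero.1 hgeo).resolve_right h2
    linear_combination h0

theorem sum_sign {k : ℕ} (hk : 2 ≤ k) : ∑ i : Idx k, ((-1 : ℂ)) ^ idx k i = -1 := by
  have h := sum_idx hk (w := 1) (one_pow _)
  simp only [one_pow, ← Finset.sum_mul] at h
  rw [if_neg (by norm_num)] at h
  linear_combination h / 2

theorem card_idx {k : ℕ} (hk : 2 ≤ k) : Fintype.card (Idx k) + 1 = 2 ^ k := by
  have h4 := two_pow_quarter hk
  have h1 := Nat.one_le_two_pow (n := k - 2)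
  simp only [Idx, Fintype.card_sum, Fintype.card_fin]
  omega

end Cfsg.Lib.SemiCyclic
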