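import Cfsg.Agent.SemiCyclic.Model.Values
import Cfsg.Agent.SemiCyclic.Model.Index

/-!
# The inner products of the test functions
-/

set_option autoImplicit false
set_option linter.unusedSectionVars false

namespace Cfsg.Lib.SemiCyclic.Geo

open Cfsg Cfsg.Lib.Chars
open scoped Classical ComplexConjugate

universe u

variable {H : Type u} [Group H] [Fintype H] {z : H} {p : ℕ} (Γ : Geo H z p)

local notation "Qc" => ((sgnPrime p : ℤ) : ℂ)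

include Γ

theorem Q_facts : Qc ^ 2 = (p : ℂ) ^ 2 ∧ Qc ≠ 0 ∧ Qc - 1 ≠ 0 ∧ Qc + 1 ≠ 0 ∧ (Nat.card H : ℂ) ≠ 0 := by
  have h3 := Γ.three_le
  have e := sgnPrime_sq p
  refine ⟨by exact_mod_cast e, ?_, ?_, ?_, Nat.cast_ne_zero.2 Nat.card_pos.ne'⟩
  · intro h
    have h' : sgnPrime p = 0 := by exact_mod_cast h
    rw [h'] at e
    have h9 : (9 : ℤ) ≤ (p : ℤ) ^ 2 := by nlinarith
    linarith
  · intro h
    have h' : sgnPrime p - 1 = 0 := by exact_mod_cast h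
    unfold sgnPrime at h'; split_ifs at h' <;> omega
  · intro h
    have h' : sgnPrime p + 1 = 0 := by exact_mod_cast h
    unfold sgnPrime at h'; split_ifs at h' <;> omega

theorem conj_Q : conj Qc = Qc := map_intCast _ _

/-- The pairing of functions vanishing at `1` and at `x`. -/
theorem inner_eq {f g : H → ℂ} (hf : IsClassFunction H f) (hg : IsClassFunction H g) (h1 : f 1 = 0)
    (hx : f Γ.x = 0) : (Nat.card H : ℂ) * classInner f g = f z * conj (g z) +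
      (Qc ^ 2 - 1) * (f (z * Γ.x) * conj (g (z * Γ.x))) +
      Qc * (Qc - 1) / 2 * ∑ t ∈ punct Γ.T z, f t * conj (g t) +
      Qc * (Qc + 1) / 2 * ∑ s ∈ punct Γ.S z, f s * conj (g s) := by
  rw [classInner, ← mul_assoc, mul_inv_cancel₀ Γ.Q_facts.2.2.2.2, one_mul,
    Γ.sum_eq (f := fun y => f y * conj (g y)) (fun a b => by simp only [hf a b, hg a b])]
  simp only [h1, hx, zero_mul, zero_add]

/-- Orthogonality on `T`. -/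
theorem sum_om (i j : ℕ) : ∑ t : Γ.T, Γ.om (t : H) ^ i * conj (Γ.om (t : H) ^ j) =
    if i % 2 ^ (Γ.k + 1) = j % 2 ^ (Γ.k + 1) then (Nat.card Γ.T : ℂ) else 0 := by
  let φ : Γ.T →* ℂ :=
    { toFun := fun t => Γ.om (t : H) ^ i * conj (Γ.om (t : H) ^ j)
      map_one' := by simp [Γ.om_one]
      map_mul' := fun a b => by
        simp only [Subgroup.coe_mul, Γ.om_mul a.2 b.2, mul_pow, map_mul]; ring }
  have hred : ∀ (t : Γ.T) (a : ℕ), Γ.om (t : H) ^ a = Γ.om (t : H) ^ (a % 2 ^ (Γ.k + 1)) := fun t a => by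
    conv_lhs => rw [← Nat.mod_add_div a (2 ^ (Γ.k + 1)), pow_add, pow_mul, Γ.om_pow_card t.2, one_pow, mul_one]
  have hnorm : ∀ t : Γ.T, ∀ a : ℕ, Γ.om (t : H) ^ a * conj (Γ.om (t : H) ^ a) = 1 := fun t a => by
    rw [Complex.mul_conj, Complex.normSq_eq_norm_sq, norm_pow,
      Complex.norm_eq_one_of_pow_eq_one (Γ.om_pow_card t.2) (by positivity)]
    simp
  by_cases h : i % 2 ^ (Γ.k + 1) = j % 2 ^ (Γ.k + 1)
  · rw [if_pos h, Finset.sum_congr rfl fun (t : Γ.T) _ => show Γ.om (t : H) ^ i * conj (Γ.om (t : H) ^ j) = 1 by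
      rw [hred t i, hred t j, h]; exact hnorm t _]
    simp
  · rw [if_neg h]
    refine sum_hom_units_eq_zero φ fun e => h ?_
    have h1 : Γ.om Γ.a ^ i * conj (Γ.om Γ.a ^ j) = 1 := DFunLike.congr_fun e ⟨Γ.a, Γ.a_T⟩
    have h2 : Γ.om Γ.a ^ i = Γ.om Γ.a ^ j := by
      have h3 := hnorm ⟨Γ.a, Γ.a_T⟩ j
      rw [mul_comm] at h3
      calc Γ.om Γ.a ^ i = Γ.om Γ.a ^ i * (conj (Γ.om Γ.a ^ j) * Γ.om Γ.a ^ j) := by rw [h3, mul_one]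
        _ = _ := by rw [← mul_assoc, h1, one_mul]
    have ha : Γ.om Γ.a = (Γ.zeta : ℂ) ^ Γ.m := by
      rw [Γ.om_eq Γ.a_T (i := (Γ.m : ℤ)) (zpow_natCast _ _).symm, zpow_natCast]
    have hprim : IsPrimitiveRoot (Γ.om Γ.a) (2 ^ (Γ.k + 1)) := by
      rw [ha]
      exact (IsPrimitiveRoot.coe_units_iff.2 Γ.zeta_prim).pow_of_coprime _ (Γ.coprime_two_m _).symm
    rw [hred ⟨Γ.a, Γ.a_T⟩ i, hred ⟨Γ.a, Γ.a_T⟩ j] at h2
    exact hprim.pow_inj (Nat.mod_lt _ (by positivity)) (Nat.mod_lt _ (by positivity)) h2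

/-- The value of a test function on `T`. -/
noncomputable def ph (j : ℕ) (t : H) : ℂ := 2 - Γ.om t ^ j - Γ.om t ^ partner Γ.k j

theorem ph_central (j : ℕ) : Γ.ph j 1 = 0 ∧ Γ.ph j z = 2 * (1 - (-1) ^ j) := by
  have ho : Odd (2 ^ Γ.k - 1) :=
    Nat.Even.sub_odd Nat.one_le_two_pow (Nat.even_pow.2 ⟨even_two, by have := Γ.two_le_k; omega⟩) odd_one
  refine ⟨?_, ?_⟩ <;> simp only [ph, Γ.om_one, Γ.om_z, one_pow]
  · ring
  · rw [partner, mul_comm, pow_mul, ho.neg_one_pow]; ring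

theorem partner_partner (j : ℕ) : partner Γ.k (partner Γ.k j) % 2 ^ (Γ.k + 1) = j % 2 ^ (Γ.k + 1) := by
  obtain ⟨r, hr⟩ : ∃ r, Γ.k = r + 2 := ⟨Γ.k - 2, by have := Γ.two_le_k; omega⟩
  have h1 := Nat.one_le_two_pow (n := Γ.k)
  have e : partner Γ.k (partner Γ.k j) = j + 2 ^ (Γ.k + 1) * (j * (2 * 2 ^ r - 1)) := by
    have h2 : 1 ≤ 2 * 2 ^ r := by have := Nat.one_le_two_pow (n := r); omega
    unfold partner
    zify [h1, h2]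
    rw [hr]; ring
  rw [e, Nat.add_mul_mod_self_left]

theorem partner_congr {a b : ℕ} :
    partner Γ.k a % 2 ^ (Γ.k + 1) = partner Γ.k b % 2 ^ (Γ.k + 1) ↔ a % 2 ^ (Γ.k + 1) = b % 2 ^ (Γ.k + 1) := by
  have key : ∀ c d : ℕ, c % 2 ^ (Γ.k + 1) = d % 2 ^ (Γ.k + 1) →
      partner Γ.k c % 2 ^ (Γ.k + 1) = partner Γ.k d % 2 ^ (Γ.k + 1) := fun c d h => by
    unfold partner; exact Nat.ModEq.mul_right _ h
  refine ⟨fun h => ?_, key a b⟩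
  have := key _ _ h
  rwa [Γ.partner_partner, Γ.partner_partner] at this

theorem sum_ph_one (i : ℕ) (hi : i % 2 ^ (Γ.k + 1) ≠ 0) : ∑ t : Γ.T, Γ.ph i (t : H) = 2 * Nat.card Γ.T := by
  have h0 : ∀ j : ℕ, j % 2 ^ (Γ.k + 1) ≠ 0 → ∑ t : Γ.T, Γ.om (t : H) ^ j = 0 := fun j hj => by
    have := Γ.sum_om j 0
    simpa [hj] using this
  have hi' : partner Γ.k i % 2 ^ (Γ.k + 1) ≠ 0 := fun h => hi (by
    have := (Γ.partner_congr (a := i) (b := 0)).1 (by rw [h]; simp [partner])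
    simpa using this)
  simp only [ph, Finset.sum_sub_distrib, h0 i hi, h0 _ hi']
  simp
  ring

theorem sum_ph_ph (i j : ℕ) (hi : i % 2 ^ (Γ.k + 1) ≠ 0) (hj : j % 2 ^ (Γ.k + 1) ≠ 0) :
    ∑ t : Γ.T, Γ.ph i (t : H) * conj (Γ.ph j (t : H)) = Nat.card Γ.T * (4 +
      2 * (if i % 2 ^ (Γ.k + 1) = j % 2 ^ (Γ.k + 1) then 1 else 0) +
      2 * (if i % 2 ^ (Γ.k + 1) = partner Γ.k j % 2 ^ (Γ.k + 1) then 1 else 0)) := by
  have h0 : ∀ l : ℕ, l % 2 ^ (Γ.k + 1) ≠ 0 → (∑ t : Γ.T, Γ.om (t : H) ^ l = 0 ∧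
      ∑ t : Γ.T, conj (Γ.om (t : H) ^ l) = 0) := fun l hl => by
    have h := Γ.sum_om l 0
    have e : ∑ t : Γ.T, Γ.om (t : H) ^ l = 0 := by simpa [hl] using h
    exact ⟨e, by rw [← map_sum, e, map_zero]⟩
  have hp : ∀ l : ℕ, l % 2 ^ (Γ.k + 1) ≠ 0 → partner Γ.k l % 2 ^ (Γ.k + 1) ≠ 0 := fun l hl h => hl (by
    have := (Γ.partner_congr (a := l) (b := 0)).1 (by rw [h]; simp [partner])
    simpa using this)
  have e1 : (partner Γ.k i % 2 ^ (Γ.k + 1) = j % 2 ^ (Γ.k + 1)) ↔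
      (i % 2 ^ (Γ.k + 1) = partner Γ.k j % 2 ^ (Γ.k + 1)) := by
    rw [← Γ.partner_congr (a := i), Γ.partner_partner]
  have expand : ∀ A B C D : ℂ, (2 - A - B) * (2 - C - D) =
      4 - 2 * C - 2 * D - 2 * A - 2 * B + A * C + A * D + B * C + B * D := fun A B C D => by ring
  simp only [ph, map_sub, map_ofNat, expand, Finset.sum_add_distrib, Finset.sum_sub_distrib, ← Finset.mul_sum,
    (h0 i hi).1, (h0 _ (hp i hi)).1, (h0 j hj).2, (h0 _ (hp j hj)).2, Γ.sum_om, Γ.partner_congr, e1]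
  simp
  split_ifs <;> ring

theorem sum_T_punct (F : H → ℂ) :
    ∑ t ∈ punct Γ.T z, F t = (∑ t : Γ.T, F t) - F 1 - F z := by
  rw [sum_punct Γ.z_T Γ.z_ne, ← Finset.sum_subtype (p := (· ∈ Γ.T)) (Finset.univ.filter (· ∈ Γ.T)) (fun y => by simp) F]

theorem t0_T {t : H} (ht : t ∈ punct Γ.T z) : Γ.t0 t = Γ.ph (2 ^ Γ.k) t ∧ Γ.t2 t = Γ.ph (2 ^ Γ.k) t / 2 := by
  have ho : Odd (2 ^ Γ.k - 1) :=
    Nat.Even.sub_odd Nat.one_le_two_pow (Nat.even_pow.2 ⟨even_two, by have := Γ.two_le_k; omega⟩) odd_one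
  have e : Γ.ph (2 ^ Γ.k) t = 2 * (1 - Γ.sg t) := by
    rw [ph, partner, pow_mul, ← Γ.sg_T (mem_punct.1 ht).1, Γ.sg_apply]
    split_ifs
    · rw [one_pow]; ring
    · rw [ho.neg_one_pow]; ring
  rw [Γ.t0_values.2.2.2.2.1 t ht, Γ.t2_values.2.2.2.2.1 t ht, e]
  exact ⟨rfl, by ring⟩

theorem tphi_T (j : ℕ) {t : H} (ht : t ∈ punct Γ.T z) : Γ.tphi j t = Γ.ph j t :=
  (Γ.tphi_values j).2.2.2.2.1 t ht

theorem sum_S_count : ∑ s ∈ punct Γ.S z, (if s ^ sOdd p = z then (1 : ℂ) else 0) = (Nat.card Γ.S : ℂ) / 4 - 1 := by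
  have hμ : ∀ s : Γ.S, (Γ.sHom s : ℂ) = Γ.mu (s : H) := fun s => rfl
  have e : ∀ s : Γ.S, (if (s : H) ^ sOdd p = z then (1 : ℂ) else 0) =
      (1 + Γ.sg (s : H) - Γ.mu (s : H) - Γ.sg (s : H) * Γ.mu (s : H)) / 4 := by
    intro s
    have b1 := Γ.u_ne
    obtain ⟨b3, b4, b5⟩ := Γ.uz_ne
    rw [Γ.sg_apply, mu]
    have hN := Γ.S_mem_N_iff s.2
    rcases Γ.mem_four.1 (Γ.pow_sOdd_mem s.2) with e | e | e | e <;> simp only [e] at hN ⊢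
    · rw [if_pos (hN.2 (Or.inl trivial)), if_neg Γ.z_ne.symm]; simp; 
    · rw [if_neg b1.2, if_neg (by simp [hN, b1.1, b1.2])]; simp
    · rw [if_pos trivial, if_pos (hN.2 (Or.inr trivial))]; simp [Γ.z_ne, b1.2.symm]; norm_num
    · rw [if_neg b5, if_neg (by simp [hN, b3, b5])]; simp [b3, b4]
  have hz : ∀ {φ : Γ.S →* ℂ}, φ ⟨Γ.u, Γ.u_S⟩ ≠ 1 ∨ φ ⟨z, Γ.z_S⟩ ≠ 1 → ∑ s, φ s = 0 := fun {φ} h =>
    sum_hom_units_eq_zero φ fun e => by simp [e] at h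
  have s1 : ∑ s : Γ.S, Γ.sg (s : H) = 0 := hz (φ := ((Units.coeHom ℂ).comp Γ.sgn).comp Γ.S.subtype) (Or.inl (by
    show Γ.sg Γ.u ≠ 1
    rw [Γ.sg_apply, if_neg Γ.u_N]; norm_num))
  have s2 : ∑ s : Γ.S, Γ.mu (s : H) = 0 := hz (φ := (Units.coeHom ℂ).comp Γ.sHom) (Or.inr (by
    show Γ.mu z ≠ 1
    rw [Γ.mu_one_z.2]; norm_num))
  have s3 : ∑ s : Γ.S, Γ.sg (s : H) * Γ.mu (s : H) = 0 :=
    hz (φ := (((Units.coeHom ℂ).comp Γ.sgn).comp Γ.S.subtype) * ((Units.coeHom ℂ).comp Γ.sHom)) (Or.inl (by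
      show Γ.sg Γ.u * Γ.mu Γ.u ≠ 1
      have : Γ.u ^ sOdd p = Γ.u := by
        obtain ⟨i, hi⟩ := Γ.sOdd_odd.1
        rw [hi, pow_succ, pow_mul, pow_two, Γ.u_sq, one_pow, one_mul]
      rw [Γ.sg_apply, if_neg Γ.u_N, mu, this, if_pos (Or.inr rfl)]; norm_num))
  rw [sum_punct Γ.z_S Γ.z_ne, Finset.sum_subtype (p := (· ∈ Γ.S)) _ (fun y => by simp)
      (fun y => if y ^ sOdd p = z then (1 : ℂ) else 0), Finset.sum_congr rfl fun s _ => e s, ← Finset.sum_div]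
  simp only [Finset.sum_sub_distrib, Finset.sum_add_distrib, s1, s2, s3, Finset.sum_const, nsmul_eq_mul]
  rw [if_neg (by rw [one_pow]; exact Γ.z_ne.symm), if_pos (Γ.z_pow_odd Γ.sOdd_odd.1), Finset.card_univ,
    ← Nat.card_eq_fintype_card]
  ring

theorem sum_S_t2 : (∑ s ∈ punct Γ.S z, Γ.t2 s = -4 * ((Nat.card Γ.S : ℂ) / 4 - 1)) ∧
    ∑ s ∈ punct Γ.S z, Γ.t2 s * conj (Γ.t2 s) = 16 * ((Nat.card Γ.S : ℂ) / 4 - 1) := by
  rw [← Γ.sum_S_count, Finset.mul_sum, Finset.mul_sum]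
  refine ⟨Finset.sum_congr rfl fun s hs => ?_, Finset.sum_congr rfl fun s hs => ?_⟩ <;>
    rw [Γ.t2_values.2.2.2.2.2 s hs] <;> split_ifs <;> simp [map_ofNat] <;> norm_num

theorem t0_cls : IsClassFunction H Γ.t0 := isClassFunction_generalized Γ.t0_gen

theorem t2_cls : IsClassFunction H Γ.t2 := isClassFunction_generalized Γ.t2_gen

theorem tphi_cls (j : ℕ) : IsClassFunction H (Γ.tphi j) := isClassFunction_generalized (Γ.tphi_gen j)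

theorem half_ne : 2 ^ Γ.k % 2 ^ (Γ.k + 1) = 2 ^ Γ.k ∧ 2 ^ Γ.k % 2 ^ (Γ.k + 1) ≠ 0 ∧
    partner Γ.k (2 ^ Γ.k) % 2 ^ (Γ.k + 1) = 2 ^ Γ.k := by
  have h : 2 ^ Γ.k % 2 ^ (Γ.k + 1) = 2 ^ Γ.k :=
    Nat.mod_eq_of_lt (Nat.pow_lt_pow_right one_lt_two (Nat.lt_succ_self _))
  refine ⟨h, by rw [h]; positivity, ?_⟩
  have h4 := two_pow_quarter Γ.two_le_k
  have h1 := Nat.one_le_two_pow (n := Γ.k - 2)
  have h2 := partner_mod_even (k := Γ.k) (i := 2 * 2 ^ (Γ.k - 2)) (by omega) (by omega)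
  rw [show 2 * (2 * 2 ^ (Γ.k - 2)) = 2 ^ Γ.k by omega] at h2
  rw [h2, pow_succ]; omega

theorem inner_one {f : H → ℂ} (hf : IsClassFunction H f) (h1 : f 1 = 0) (hx : f Γ.x = 0) :
    (Nat.card H : ℂ) * classInner f (fun _ => 1) = f z + (Qc ^ 2 - 1) * f (z * Γ.x) +
      Qc * (Qc - 1) / 2 * ∑ t ∈ punct Γ.T z, f t + Qc * (Qc + 1) / 2 * ∑ s ∈ punct Γ.S z, f s := by
  rw [Γ.inner_eq hf (fun _ _ => rfl) h1 hx]
  simp only [map_one, mul_one]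

theorem gram_t0 : classInner Γ.t0 (fun _ => 1) = 1 ∧ classInner Γ.t0 Γ.t0 = 4 ∧ classInner Γ.t0 Γ.t2 = 2 := by
  obtain ⟨a1, a2, a3, a4, -, a6⟩ := Γ.t0_values
  obtain ⟨hh, hh0, hhp⟩ := Γ.half_ne
  have hN := Γ.Q_facts.2.2.2.2
  obtain ⟨c1, cz⟩ := Γ.ph_central (2 ^ Γ.k)
  have he : (-1 : ℂ) ^ 2 ^ Γ.k = 1 := (Nat.even_pow.2 ⟨even_two, by have := Γ.two_le_k; omega⟩).neg_one_pow
  rw [he, sub_self, mul_zero] at cz
  have hS : ∀ g : H → ℂ, ∑ s ∈ punct Γ.S z, Γ.t0 s * conj (g s) = 0 := fun g =>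
    Finset.sum_eq_zero fun s hs => by rw [a6 s hs, zero_mul]
  have h1 : ∑ t ∈ punct Γ.T z, Γ.ph (2 ^ Γ.k) t = 2 * Nat.card Γ.T := by
    rw [Γ.sum_T_punct, Γ.sum_ph_one _ hh0, c1, cz]; ring
  have h2 : ∑ t ∈ punct Γ.T z, Γ.ph (2 ^ Γ.k) t * conj (Γ.ph (2 ^ Γ.k) t) = 8 * Nat.card Γ.T := by
    rw [Γ.sum_T_punct (fun t => Γ.ph (2 ^ Γ.k) t * conj (Γ.ph (2 ^ Γ.k) t)), Γ.sum_ph_ph _ _ hh0 hh0, c1, cz,
      hhp, hh]
    simp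
    ring
  refine ⟨mul_left_cancel₀ hN ?_, mul_left_cancel₀ hN ?_, mul_left_cancel₀ hN ?_⟩
  · rw [Γ.inner_one Γ.t0_cls a1 a3, a2, a4, Finset.sum_congr rfl fun t ht => (Γ.t0_T ht).1, h1,
      Finset.sum_eq_zero a6, Γ.card_eq_T]
    ring
  · rw [Γ.inner_eq Γ.t0_cls Γ.t0_cls a1 a3, hS, a2, a4,
      Finset.sum_congr rfl fun t ht => show Γ.t0 t * conj (Γ.t0 t) = _ by rw [(Γ.t0_T ht).1], h2, Γ.card_eq_T]
    ring
  · rw [Γ.inner_eq Γ.t0_cls Γ.t2_cls a1 a3, hS, a2, a4,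
      Finset.sum_congr rfl fun t ht => show Γ.t0 t * conj (Γ.t2 t) =
        Γ.ph (2 ^ Γ.k) t * conj (Γ.ph (2 ^ Γ.k) t) / 2 by
          rw [(Γ.t0_T ht).1, (Γ.t0_T ht).2, map_div₀, map_ofNat]; ring,
      ← Finset.sum_div, h2, Γ.card_eq_T]
    ring

theorem gram_t2 : classInner Γ.t2 (fun _ => 1) = 0 ∧ classInner Γ.t2 Γ.t2 = 3 := by
  obtain ⟨a1, a2, a3, a4, -, -⟩ := Γ.t2_values
  obtain ⟨hh, hh0, hhp⟩ := Γ.half_ne
  have hN := Γ.Q_facts.2.2.2.2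
  obtain ⟨c1, cz⟩ := Γ.ph_central (2 ^ Γ.k)
  have he : (-1 : ℂ) ^ 2 ^ Γ.k = 1 := (Nat.even_pow.2 ⟨even_two, by have := Γ.two_le_k; omega⟩).neg_one_pow
  rw [he, sub_self, mul_zero] at cz
  have eTS : Qc * (Qc - 1) * Nat.card Γ.T = Qc * (Qc + 1) * Nat.card Γ.S :=
    Γ.card_eq_T.symm.trans Γ.card_eq_S
  refine ⟨mul_left_cancel₀ hN ?_, mul_left_cancel₀ hN ?_⟩
  · rw [Γ.inner_one Γ.t2_cls a1 a3, a2, a4, Finset.sum_congr rfl fun t ht => (Γ.t0_T ht).2, ← Finset.sum_div,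
      Γ.sum_T_punct, Γ.sum_ph_one _ hh0, c1, cz, Γ.sum_S_t2.1]
    linear_combination (1 / 2 : ℂ) * eTS
  · rw [Γ.inner_eq Γ.t2_cls Γ.t2_cls a1 a3, a2, a4, Γ.sum_S_t2.2,
      Finset.sum_congr rfl fun t ht => show Γ.t2 t * conj (Γ.t2 t) =
        Γ.ph (2 ^ Γ.k) t * conj (Γ.ph (2 ^ Γ.k) t) / 4 by
          rw [(Γ.t0_T ht).2, map_div₀, map_ofNat]; ring,
      ← Finset.sum_div, Γ.sum_T_punct (fun t => Γ.ph (2 ^ Γ.k) t * conj (Γ.ph (2 ^ Γ.k) t)),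
      Γ.sum_ph_ph _ _ hh0 hh0, c1, cz, hhp, hh]
    simp only [if_pos, map_mul, map_neg, map_add, map_ofNat, map_one, Γ.conj_Q, mul_zero, sub_zero]
    rw [Γ.card_eq_S]
    linear_combination eTS

/-- The exponents used by the coherent family. -/
theorem idx_mod (i : Idx Γ.k) : idx Γ.k i % 2 ^ (Γ.k + 1) = idx Γ.k i ∧ idx Γ.k i % 2 ^ (Γ.k + 1) ≠ 0 ∧
    idx Γ.k i % 2 ^ (Γ.k + 1) ≠ 2 ^ Γ.k := by
  obtain ⟨h1, h2, h3⟩ := (idx_props Γ.two_le_k).1 i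
  rw [Nat.mod_eq_of_lt h1]
  exact ⟨rfl, h2, h3⟩

theorem sum_S_tphi (j : ℕ) (g : H → ℂ) :
    (∑ s ∈ punct Γ.S z, g s * conj (Γ.tphi j s) = 0) ∧ ∑ s ∈ punct Γ.S z, Γ.tphi j s * conj (g s) = 0 :=
  ⟨Finset.sum_eq_zero fun s hs => by rw [(Γ.tphi_values j).2.2.2.2.2 s hs, map_zero, mul_zero],
    Finset.sum_eq_zero fun s hs => by rw [(Γ.tphi_values j).2.2.2.2.2 s hs, zero_mul]⟩

theorem gram_phi (i : Idx Γ.k) : classInner (Γ.tphi (idx Γ.k i)) (fun _ => 1) = 1 ∧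
    classInner Γ.t0 (Γ.tphi (idx Γ.k i)) = 2 ∧ classInner Γ.t2 (Γ.tphi (idx Γ.k i)) = 1 := by
  obtain ⟨a1, a2, a3, a4, -, a6⟩ := Γ.tphi_values (idx Γ.k i)
  obtain ⟨b1, b2, b3, b4, -, -⟩ := Γ.t0_values
  obtain ⟨e1, e2, e3, e4, -, -⟩ := Γ.t2_values
  obtain ⟨hh, hh0, hhp⟩ := Γ.half_ne
  obtain ⟨m1, m2, m3⟩ := Γ.idx_mod i
  have hN := Γ.Q_facts.2.2.2.2
  obtain ⟨c1, cz⟩ := Γ.ph_central (idx Γ.k i)
  obtain ⟨d1, dz⟩ := Γ.ph_central (2 ^ Γ.k)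
  have he : (-1 : ℂ) ^ 2 ^ Γ.k = 1 := (Nat.even_pow.2 ⟨even_two, by have := Γ.two_le_k; omega⟩).neg_one_pow
  rw [he, sub_self, mul_zero] at dz
  have hne : 2 ^ Γ.k % 2 ^ (Γ.k + 1) ≠ partner Γ.k (idx Γ.k i) % 2 ^ (Γ.k + 1) := fun h => m3 (by
    have h' := (Γ.partner_congr (a := 2 ^ Γ.k) (b := partner Γ.k (idx Γ.k i))).2 h
    rw [hhp, Γ.partner_partner] at h'
    exact h'.symm)
  have h2 : ∑ t ∈ punct Γ.T z, Γ.ph (2 ^ Γ.k) t * conj (Γ.ph (idx Γ.k i) t) = 4 * Nat.card Γ.T := by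
    rw [Γ.sum_T_punct (fun t => Γ.ph (2 ^ Γ.k) t * conj (Γ.ph (idx Γ.k i) t)), Γ.sum_ph_ph _ _ hh0 m2, d1, dz,
      if_neg (fun h => m3 (h.symm.trans hh)), if_neg hne]
    ring
  refine ⟨mul_left_cancel₀ hN ?_, mul_left_cancel₀ hN ?_, mul_left_cancel₀ hN ?_⟩
  · rw [Γ.inner_one (Γ.tphi_cls _) a1 a3, a2, a4, Finset.sum_congr rfl fun t ht => Γ.tphi_T _ ht,
      Γ.sum_T_punct, Γ.sum_ph_one _ m2, c1, cz, Finset.sum_eq_zero a6, Γ.card_eq_T]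
    ring
  · rw [Γ.inner_eq Γ.t0_cls (Γ.tphi_cls _) b1 b3, (Γ.sum_S_tphi _ _).1, b2, b4,
      Finset.sum_congr rfl fun t ht => show Γ.t0 t * conj (Γ.tphi (idx Γ.k i) t) = _ by
        rw [(Γ.t0_T ht).1, Γ.tphi_T _ ht], h2, Γ.card_eq_T]
    ring
  · rw [Γ.inner_eq Γ.t2_cls (Γ.tphi_cls _) e1 e3, (Γ.sum_S_tphi _ _).1, e2, e4, a2, a4,
      Finset.sum_congr rfl fun t ht => show Γ.t2 t * conj (Γ.tphi (idx Γ.k i) t) =
        Γ.ph (2 ^ Γ.k) t * conj (Γ.ph (idx Γ.k i) t) / 2 by rw [(Γ.t0_T ht).2, Γ.tphi_T _ ht]; ring,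
      ← Finset.sum_div, h2, Γ.card_eq_T]
    simp only [map_mul, map_sub, map_one, map_pow, map_neg, Γ.conj_Q]
    ring

theorem gram_phi_phi (i j : Idx Γ.k) :
    classInner (Γ.tphi (idx Γ.k i)) (Γ.tphi (idx Γ.k j)) = if i = j then 3 else 2 := by
  obtain ⟨a1, a2, a3, a4, -, -⟩ := Γ.tphi_values (idx Γ.k i)
  obtain ⟨b1, b2, b3, b4, -, -⟩ := Γ.tphi_values (idx Γ.k j)
  obtain ⟨m1, m2, m3⟩ := Γ.idx_mod i
  obtain ⟨n1, n2, n3⟩ := Γ.idx_mod j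
  have hne : idx Γ.k i % 2 ^ (Γ.k + 1) ≠ partner Γ.k (idx Γ.k j) % 2 ^ (Γ.k + 1) := fun h =>
    (idx_props Γ.two_le_k).2.2 j i (by rw [← h, m1])
  have hiff : (idx Γ.k i % 2 ^ (Γ.k + 1) = idx Γ.k j % 2 ^ (Γ.k + 1)) ↔ i = j := by
    rw [m1, n1]; exact (idx_props Γ.two_le_k).2.1.eq_iff
  refine mul_left_cancel₀ Γ.Q_facts.2.2.2.2 ?_
  rw [Γ.inner_eq (Γ.tphi_cls _) (Γ.tphi_cls _) a1 a3, (Γ.sum_S_tphi _ _).1, a2, a4, b2, b4,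
    Finset.sum_congr rfl fun t ht => show Γ.tphi (idx Γ.k i) t * conj (Γ.tphi (idx Γ.k j) t) = _ by
      rw [Γ.tphi_T _ ht, Γ.tphi_T _ ht],
    Γ.sum_T_punct (fun t => Γ.ph (idx Γ.k i) t * conj (Γ.ph (idx Γ.k j) t)), Γ.sum_ph_ph _ _ m2 n2,
    (Γ.ph_central (idx Γ.k i)).1, (Γ.ph_central (idx Γ.k i)).2, (Γ.ph_central (idx Γ.k j)).2, if_neg hne,
    Γ.card_eq_T]
  simp only [map_mul, map_sub, map_one, map_pow, map_neg, map_ofNat, Γ.conj_Q, hiff]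
  split_ifs <;> ring

/-! ### Support -/

theorem involution_zpowers_a {y : H} (hy : y ∈ Subgroup.zpowers Γ.a) (h2 : y * y = 1) : y = 1 ∨ y = z := by
  obtain ⟨i, rfl⟩ := Subgroup.mem_zpowers_iff.1 hy
  have hd : (2 : ℤ) * 2 ^ Γ.k ∣ 2 * i := by
    have h := zpow_eq_one_iff_modEq (x := Γ.a) (n := 2 * i) |>.1 (by rw [two_mul, zpow_add]; exact h2)
    rw [Γ.a_ord, pow_succ, mul_comm] at h
    push_cast at h
    exact Int.modEq_zero_iff_dvd.1 h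
  obtain ⟨c, hc⟩ := Int.dvd_of_mul_dvd_mul_left two_ne_zero hd
  have hz : Γ.a ^ ((2 : ℤ) ^ Γ.k) = z := by
    have h := Γ.a_half; rw [← zpow_natCast] at h; push_cast at h; exact h
  rw [hc, zpow_mul, hz]
  rcases Int.even_or_odd c with ⟨e, rfl⟩ | ⟨e, rfl⟩
  · left; rw [← two_mul, zpow_mul, zpow_two, Γ.z_sq, one_zpow]
  · right; rw [zpow_add, zpow_mul, zpow_two, Γ.z_sq, one_zpow, one_mul, zpow_one]

theorem z_mem_of_pow {t : H} (ht : t ∈ Γ.T) (h : t ^ Γ.m ≠ 1) : z ∈ Subgroup.zpowers t := by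
  have hmem := Γ.pow_m_mem ht
  have hd : orderOf (t ^ Γ.m) ∣ 2 ^ (Γ.k + 1) := Γ.a_ord ▸ orderOf_dvd_of_mem_zpowers hmem
  obtain ⟨i, -, hi⟩ := (Nat.dvd_prime_pow Nat.prime_two).1 hd
  obtain ⟨i', rfl⟩ : ∃ i', i = i' + 1 := ⟨i - 1, by
    rcases i with _ | i
    · exact absurd (orderOf_eq_one_iff.1 (by rw [hi, pow_zero])) h
    · rfl⟩
  have ho : orderOf ((t ^ Γ.m) ^ 2 ^ i') = 2 := by
    rw [orderOf_pow_of_dvd (by positivity) (by rw [hi, pow_succ]; exact dvd_mul_right _ _), hi, pow_succ,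
      Nat.mul_div_cancel_left _ (by positivity)]
  have h2 : (t ^ Γ.m) ^ 2 ^ i' * (t ^ Γ.m) ^ 2 ^ i' = 1 := by
    rw [← pow_two]; exact orderOf_dvd_iff_pow_eq_one.1 (dvd_of_eq ho)
  rcases Γ.involution_zpowers_a (pow_mem hmem _) h2 with e | e
  · rw [e, orderOf_one] at ho; exact absurd ho (by norm_num)
  · rw [← e]; exact pow_mem (Subgroup.npow_mem_zpowers _ _) _

theorem isTest_of_values {f : H → ℂ} (hg : IsGeneralizedCharacter H f) (h1 : f 1 = 0) (hx : f Γ.x = 0)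
    (hT : ∀ t ∈ punct Γ.T z, t ^ Γ.m = 1 → f t = 0)
    (hS : ∀ s ∈ punct Γ.S z, f s ≠ 0 → s ^ sOdd p = z) : IsTest z f := by
  have hc := isClassFunction_generalized hg
  refine ⟨hc, hg, fun y hy => ?_⟩
  have conjz : ∀ r : H, IsConj r y → z ∈ Subgroup.zpowers r → False := fun r hr hz => by
    obtain ⟨g, rfl⟩ := isConj_iff.1 hr
    obtain ⟨i, hi⟩ := Subgroup.mem_zpowers_iff.1 hz
    exact hy (Subgroup.mem_zpowers_iff.2 ⟨i, by rw [conj_zpow, hi, Γ.conj_z]⟩)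
  rcases Γ.class_cases y with rfl | rfl | h | h | ⟨t, ht, h⟩ | ⟨s, hs, h⟩
  · exact h1
  · exact absurd (Subgroup.mem_zpowers y) hy
  · rw [Γ.classFun_conj hc h, hx]
  · exact (conjz _ h Γ.z_mem_zpowers).elim
  · rw [Γ.classFun_conj hc h]
    exact hT t ht (by_contra fun hn => conjz _ h (Γ.z_mem_of_pow (mem_punct.1 ht).1 hn))
  · rw [Γ.classFun_conj hc h]
    refine by_contra fun hn => conjz _ h ?_
    rw [← hS s hs hn]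
    exact Subgroup.npow_mem_zpowers _ _

theorem tests : IsTest z Γ.t0 ∧ IsTest z Γ.t2 ∧ ∀ j : ℕ, IsTest z (Γ.tphi j) := by
  have hom : ∀ t ∈ punct Γ.T z, t ^ Γ.m = 1 → Γ.om t = 1 := fun t ht h => by
    rw [Γ.om_eq (mem_punct.1 ht).1 (i := 0) (by rw [h, zpow_zero]), zpow_zero]
  refine ⟨?_, ?_, fun j => ?_⟩
  · obtain ⟨a1, -, a3, -, a5, a6⟩ := Γ.t0_values
    refine Γ.isTest_of_values Γ.t0_gen a1 a3 (fun t ht h => ?_) (fun s hs h => absurd (a6 s hs) h)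
    rw [a5 t ht, Γ.sg_T (mem_punct.1 ht).1, hom t ht h, one_pow]; ring
  · obtain ⟨a1, -, a3, -, a5, a6⟩ := Γ.t2_values
    refine Γ.isTest_of_values Γ.t2_gen a1 a3 (fun t ht h => ?_) (fun s hs h => ?_)
    · rw [a5 t ht, Γ.sg_T (mem_punct.1 ht).1, hom t ht h, one_pow]; ring
    · by_contra hn
      exact h (by rw [a6 s hs, if_neg hn])
  · obtain ⟨a1, -, a3, -, a5, a6⟩ := Γ.tphi_values j
    refine Γ.isTest_of_values (Γ.tphi_gen j) a1 a3 (fun t ht h => ?_) (fun s hs h => absurd (a6 s hs) h)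
    rw [a5 t ht, hom t ht h, one_pow, one_pow]; ring

end Cfsg.Lib.SemiCyclic.Geo
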