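import Cfsg.Agent.SemiCyclic.Basic
import Cfsg.Agent.SemiCyclic.Model.Auto
import Cfsg.Agent.PGroups.QuasiDihedral

/-!
# The matrices attached to the elements of the model

Conjugation of the normal `SL(2, p)` gives for each element a matrix, unique up to scalars; centralizers are read
off from commutants.
-/

set_option autoImplicit false
set_option linter.unusedSectionVars false

namespace Cfsg.Lib.SemiCyclic

open Cfsg.Lib.Known.AutPSL2
attribute [local instance 10] _root_.Classical.propDecidable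

universe u

/-- The data with a chosen isomorphism. -/
structure Rep (H : Type u) [Group H] (z : H) (p : ℕ) [Fact p.Prime] where
  N : Subgroup H
  index : N.index = 2
  e : ↥N ≃* Matrix.SpecialLinearGroup (Fin 2) (ZMod p)
  ne2 : p ≠ 2
  z_ord : orderOf z = 2
  z_center : z ∈ Subgroup.center H
  sd : ∀ S : Sylow 2 H, Cfsg.IsQuasiDihedral ↥(S : Subgroup H)

namespace Rep

variable {H : Type u} [Group H] [Fintype H] {z : H} {p : ℕ} [Fact p.Prime] (R : Rep H z p)

local notation "F" => ZMod p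
local notation "M2" => Matrix (Fin 2) (Fin 2) (ZMod p)
local notation "SL" => Matrix.SpecialLinearGroup (Fin 2) (ZMod p)

include R

theorem normal : R.N.Normal := Subgroup.normal_of_index_eq_two R.index

theorem z_sq : z * z = 1 := by rw [← pow_two]; exact orderOf_dvd_iff_pow_eq_one.1 (dvd_of_eq R.z_ord)

theorem z_ne : z ≠ 1 := fun h => by have := R.z_ord; rw [h, orderOf_one] at this; omega

/-- Conjugation on `N`. -/
def cj (h : H) (n : R.N) : R.N := ⟨h * n * h⁻¹, R.normal.conj_mem _ n.2 h⟩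

theorem cj_mul (g h : H) (n : R.N) : R.cj (g * h) n = R.cj g (R.cj h n) :=
  Subtype.ext (show g * h * n * (g * h)⁻¹ = g * (h * n * h⁻¹) * g⁻¹ by group)

/-- The matrix of an element of `N`. -/
noncomputable def ex (n : R.N) : M2 := ((R.e n : SL) : M2)

theorem ex_inj {n m : R.N} (h : R.ex n = R.ex m) : n = m := R.e.injective (sl_ext h)

theorem ex_mul (n m : R.N) : R.ex (n * m) = R.ex n * R.ex m := by rw [ex, map_mul]; rfl

theorem ex_one : R.ex 1 = 1 := by rw [ex, map_one]; rfl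

theorem ex_det (n : R.N) : (R.ex n).det = 1 := (R.e n).2

theorem ex_surj {X : M2} (h : X.det = 1) : ∃ n : R.N, R.ex n = X :=
  ⟨R.e.symm ⟨X, h⟩, congrArg Subtype.val (R.e.apply_symm_apply (⟨X, h⟩ : SL))⟩

theorem exists_mat (h : H) : ∃ A : M2, A.det ≠ 0 ∧ ∀ n : R.N, R.ex (R.cj h n) * A = A * R.ex n := by
  haveI := R.normal
  obtain ⟨g, hg⟩ := aut_SL2 R.ne2 (R.e.symm.trans ((MulAut.conjNormal h).trans R.e))
  refine ⟨(g : M2), ((Matrix.isUnit_iff_isUnit_det _).1 g.isUnit).ne_zero, fun n => ?_⟩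
  have e : R.e (R.cj h n) = conjSL g (R.e n) := by
    rw [← hg]
    show R.e (R.cj h n) = R.e (MulAut.conjNormal h (R.e.symm (R.e n)))
    rw [MulEquiv.symm_apply_apply]
    rfl
  rw [ex, e, coe_conjSL, mul_assoc, ← Units.val_mul, inv_mul_cancel, Units.val_one, mul_one]
  rfl

/-- The matrix of an element. -/
noncomputable def mat (h : H) : M2 := (R.exists_mat h).choose

theorem mat_det (h : H) : (R.mat h).det ≠ 0 := (R.exists_mat h).choose_spec.1

theorem mat_spec (h : H) (n : R.N) : R.ex (R.cj h n) * R.mat h = R.mat h * R.ex n :=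
  (R.exists_mat h).choose_spec.2 n

omit R in
theorem cancel_det {A X Y : M2} (hA : A.det ≠ 0) (h : X * A = Y * A) : X = Y :=
  ((Matrix.isUnit_iff_isUnit_det _).2 (Ne.isUnit hA)).mul_right_cancel h

/-- Matrices commuting with all of `N` are scalar. -/
theorem scalar_of_comm {A : M2} (h : ∀ n : R.N, A * R.ex n = R.ex n * A) : IsScal A := by
  obtain ⟨n1, h1⟩ := R.ex_surj (X := !![1, 1; 0, 1]) (by simp [Matrix.det_fin_two])
  obtain ⟨n2, h2⟩ := R.ex_surj (X := !![1, 0; 1, 1]) (by simp [Matrix.det_fin_two])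
  have e1 := h n1
  have e2 := h n2
  rw [h1] at e1
  rw [h2] at e2
  have a00 := congrFun (congrFun e1 0) 0
  have a01 := congrFun (congrFun e1 0) 1
  have b00 := congrFun (congrFun e2 0) 0
  simp only [Matrix.mul_apply, Fin.sum_univ_two] at a00 a01 b00
  simp at a00 a01 b00
  exact ⟨b00, a00, by linear_combination a01⟩

/-- The matrix of an element is unique up to a scalar. -/
theorem mat_unique {h : H} {A : M2} (hA : A.det ≠ 0) (hs : ∀ n : R.N, R.ex (R.cj h n) * A = A * R.ex n) :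
    ∃ c : F, c ≠ 0 ∧ A = c • R.mat h := by
  set B := R.mat h
  have hB : IsUnit B.det := Ne.isUnit (R.mat_det h)
  have hc : IsScal (B⁻¹ * A) := R.scalar_of_comm fun n => by
    calc B⁻¹ * A * R.ex n = B⁻¹ * (R.ex (R.cj h n) * A) := by rw [mul_assoc, hs n]
      _ = B⁻¹ * (R.ex (R.cj h n) * (B * (B⁻¹ * A))) := by rw [← mul_assoc B, Matrix.mul_nonsing_inv _ hB, one_mul]
      _ = B⁻¹ * (B * R.ex n * (B⁻¹ * A)) := by rw [← mul_assoc (R.ex (R.cj h n)), R.mat_spec]
      _ = R.ex n * (B⁻¹ * A) := by rw [mul_assoc B, ← mul_assoc B⁻¹ B, Matrix.nonsing_inv_mul _ hB, one_mul]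
  obtain ⟨c, hc⟩ := isScal_iff.1 hc
  have e : A = c • B := by
    calc A = B * (B⁻¹ * A) := by rw [← mul_assoc, Matrix.mul_nonsing_inv _ hB, one_mul]
      _ = c • B := by rw [hc, Matrix.mul_smul, mul_one]
  refine ⟨c, fun h0 => hA ?_, e⟩
  rw [e, h0, zero_smul, Matrix.det_zero]

theorem mat_mul (g h : H) : ∃ c : F, c ≠ 0 ∧ R.mat g * R.mat h = c • R.mat (g * h) :=
  R.mat_unique (by rw [Matrix.det_mul]; exact mul_ne_zero (R.mat_det g) (R.mat_det h)) fun n => by
    rw [R.cj_mul, ← mul_assoc, R.mat_spec, mul_assoc, R.mat_spec, mul_assoc]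

theorem mat_N (n : R.N) : ∃ c : F, c ≠ 0 ∧ R.ex n = c • R.mat (n : H) :=
  R.mat_unique (by rw [R.ex_det]; exact one_ne_zero) fun m => by
    rw [← R.ex_mul, ← R.ex_mul]
    congr 1
    exact Subtype.ext (show (n : H) * m * (n : H)⁻¹ * n = n * m by group)

/-- An element fixes `n` iff its matrix commutes with that of `n`. -/
theorem commute_iff (h : H) (n : R.N) : h * n = n * h ↔ R.mat h * R.ex n = R.ex n * R.mat h := by
  rw [← R.mat_spec]
  constructor
  · intro e
    rw [show R.cj h n = n from Subtype.ext (show h * n * h⁻¹ = n by rw [e, mul_inv_cancel_right])]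
  · intro e
    exact mul_inv_eq_iff_eq_mul.1 (congrArg Subtype.val (R.ex_inj (cancel_det (R.mat_det h) e)))

/-! ### The centre -/

theorem sylow_central {c : H} (hc : c ∈ Subgroup.center H) (h4 : c ^ 4 = 1) :
    c = 1 ∨ c = z := by
  haveI : Fact (Nat.Prime 2) := ⟨Nat.prime_two⟩
  obtain ⟨S⟩ : Nonempty (Sylow 2 H) := inferInstance
  have key : ∀ d : H, d ∈ Subgroup.center H → d ^ 4 = 1 → d ∈ (S : Subgroup H) := by
    intro d hd hd4
    have hn : (Subgroup.zpowers d).Normal := ⟨fun a ha g => by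
      rw [Subgroup.mem_center_iff.1 ((Subgroup.zpowers_le.2 hd) ha) g, mul_inv_cancel_right]; exact ha⟩
    have hp : IsPGroup 2 (Subgroup.zpowers d) := fun a => ⟨2, Subtype.ext (by
      obtain ⟨i, hi⟩ := Subgroup.mem_zpowers_iff.1 a.2
      simp only [Subgroup.coe_pow, Subgroup.coe_one, ← hi]
      rw [← zpow_natCast, ← zpow_mul, mul_comm, zpow_mul, zpow_natCast]
      norm_num [hd4])⟩
    have h := S.is_maximal' (IsPGroup.to_sup_of_normal_right S.2 hp) le_sup_left
    exact (le_of_le_of_eq le_sup_right h) (Subgroup.mem_zpowers d)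
  obtain ⟨m, a, b, hg⟩ := Cfsg.Lib.QD.exists_gen (R.sd S)
  obtain ⟨h1, h2, -⟩ := Cfsg.Lib.QD.pows hg
  have hz4 : z ^ 4 = 1 := by rw [show (4 : ℕ) = 2 * 2 from rfl, pow_mul, sq z, R.z_sq, one_pow]
  have cen : ∀ d : (S : Subgroup H), (d : H) ∈ Subgroup.center H → d = 1 ∨ d = a ^ ((2 : ℤ) ^ (m - 1)) := by
    intro d hd
    have comm : ∀ g : (S : Subgroup H), g * d = d * g := fun g => Subtype.ext (Subgroup.mem_center_iff.1 hd g)
    rcases Cfsg.Lib.CyclicMax.cases hg.2 d with ⟨i, rfl⟩ | ⟨i, rfl⟩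
    · have e := comm b
      rw [Cfsg.Lib.CyclicMax.conj_b hg.2] at e
      have e' := (Cfsg.Lib.CyclicMax.zpow_eq_iff hg.2 _ _).1 (mul_right_cancel e)
      rw [h1, h2] at e'
      obtain ⟨c, hc⟩ := e'
      have hev : ∃ w : ℤ, i = (2 : ℤ) ^ (m - 1) * w := by
        have h3 : ((2 : ℤ) * (1 - (2 : ℤ) ^ (m - 2))) * i = 2 * (2 * (2 : ℤ) ^ (m - 2)) * c := by
          linear_combination hc
        have h4 : (1 - (2 : ℤ) ^ (m - 2)) * i = (2 * (2 : ℤ) ^ (m - 2)) * c := by linarith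
        refine ⟨c * (1 + (2 : ℤ) ^ (m - 2)) + (2 : ℤ) ^ (m - 3) * i, ?_⟩
        obtain ⟨-, -, h5⟩ := Cfsg.Lib.QD.pows hg
        rw [h2]
        linear_combination (1 + (2 : ℤ) ^ (m - 2)) * h4 + (2 : ℤ) ^ (m - 2) * i * h5
      obtain ⟨w, rfl⟩ := hev
      rcases Int.even_or_odd w with ⟨v, rfl⟩ | ⟨v, rfl⟩
      · exact Or.inl ((Cfsg.Lib.CyclicMax.zpow_eq_one hg.2 _).2 ⟨v, by rw [h1]; ring⟩)
      · exact Or.inr ((Cfsg.Lib.CyclicMax.zpow_eq_iff hg.2 _ _).2 ⟨-v, by rw [h1]; ring⟩)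
    · exfalso
      have e : a ^ (1 : ℤ) * (a ^ i * b) * (a ^ (1 : ℤ))⁻¹ = a ^ i * b := by rw [comm, mul_inv_cancel_right]
      rw [Cfsg.Lib.CyclicMax.conj_a hg.2, Cfsg.Lib.CyclicMax.b_eq_iff hg.2, h1] at e
      obtain ⟨c, hc⟩ := e
      obtain ⟨-, -, h5⟩ := Cfsg.Lib.QD.pows hg
      rw [h2, h5] at hc
      set r := (2 : ℤ) ^ (m - 3)
      have h4 : (4 : ℤ) * (2 * r * c - r) = -2 := by linear_combination -hc
      omega
  rcases cen ⟨c, key c hc h4⟩ hc with e | e
  · exact Or.inl (congrArg Subtype.val e)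
  · rcases cen ⟨z, key z R.z_center hz4⟩ R.z_center with e' | e'
    · exact absurd (congrArg Subtype.val e') R.z_ne
    · exact Or.inr (congrArg Subtype.val (e.trans e'.symm))

theorem scal_det {X : M2} (hX : IsScal X) (hd : X.det = 1) : X = 1 ∨ X = -1 := by
  obtain ⟨c, rfl⟩ := isScal_iff.1 hX
  simp [Matrix.det_fin_two] at hd
  rcases hd with rfl | rfl
  · exact Or.inl (one_smul _ _)
  · exact Or.inr (neg_one_smul _ _)

theorem exists_neg_one : ∃ c : R.N, R.ex c = -1 ∧ (c : H) = z := by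
  obtain ⟨c, hc⟩ := R.ex_surj (X := -1) (by simp [Matrix.det_neg])
  refine ⟨c, hc, ?_⟩
  have hne : (c : H) ≠ 1 := fun e => by
    rw [show c = 1 from Subtype.ext e, R.ex_one] at hc
    have h := congrFun (congrFun hc 0) 0
    simp at h
    exact two_ne R.ne2 (by linear_combination h)
  have hcen : (c : H) ∈ Subgroup.center H := Subgroup.mem_center_iff.2 fun g => by
    rw [R.commute_iff, hc]; simp
  have h4 : (c : H) ^ 4 = 1 := by
    have h : c * c = 1 := R.ex_inj (by rw [R.ex_mul, hc, R.ex_one, neg_mul_neg, one_mul])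
    rw [show (4 : ℕ) = 2 * 2 from rfl, pow_mul, pow_two (c : H), ← Subgroup.coe_mul, h, Subgroup.coe_one, one_pow]
  exact (R.sylow_central hcen h4).resolve_left hne

theorem z_N : z ∈ R.N := by
  obtain ⟨c, -, hc⟩ := R.exists_neg_one
  have h := c.2
  rwa [hc] at h

theorem central_N {n : R.N} (h : IsScal (R.ex n)) : (n : H) = 1 ∨ (n : H) = z := by
  rcases R.scal_det h (R.ex_det n) with e | e
  · exact Or.inl (congrArg Subtype.val (R.ex_inj (e.trans R.ex_one.symm)))
  · obtain ⟨c, hc, hcz⟩ := R.exists_neg_one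
    exact Or.inr ((congrArg Subtype.val (R.ex_inj (e.trans hc.symm))).trans hcz)

theorem not_scal {n : H} (hn : n ∈ R.N) (h1 : n ≠ 1) (hz : n ≠ z) : ¬ IsScal (R.ex ⟨n, hn⟩) :=
  fun h => (R.central_N h).elim h1 hz

/-- Only the centre centralizes `N`. -/
theorem centralizer_N {c : H} (h : ∀ n : R.N, c * n = n * c) : c = 1 ∨ c = z := by
  have inN : ∀ d : H, d ∈ R.N → (∀ n : R.N, d * n = n * d) → d = 1 ∨ d = z := fun d hd hd' =>
    R.central_N (n := ⟨d, hd⟩) (R.scalar_of_comm fun n => by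
      rw [← R.ex_mul, ← R.ex_mul, show (⟨d, hd⟩ : R.N) * n = n * ⟨d, hd⟩ from Subtype.ext (hd' n)])
  by_cases hc : c ∈ R.N
  · exact inN c hc h
  have h2 := inN (c * c) (Subgroup.mul_self_mem_of_index_two R.index c) fun n => by
    rw [mul_assoc, h n, ← mul_assoc, h n, mul_assoc]
  refine R.sylow_central (Subgroup.mem_center_iff.2 fun g => ?_) ?_
  · by_cases hg : g ∈ R.N
    · exact (h ⟨g, hg⟩).symm
    · have hm : g * c⁻¹ ∈ R.N := (Subgroup.mul_mem_iff_of_index_two R.index).2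
        (iff_of_false hg (fun h' => hc (inv_mem_iff.1 h')))
      have e := h ⟨_, hm⟩
      simp only [inv_mul_cancel_right] at e
      calc g * c = (g * c⁻¹ * c) * c := by rw [inv_mul_cancel_right]
        _ = c * (g * c⁻¹) * c := by rw [e, inv_mul_cancel_right]
        _ = c * g := by group
  · rw [show (4 : ℕ) = 2 * 2 from rfl, pow_mul, pow_two c]
    rcases h2 with e | e <;> rw [e]
    · exact one_pow _
    · rw [pow_two, R.z_sq]

theorem card_H : (Nat.card H : ℤ) = 2 * (p : ℤ) * ((p : ℤ) ^ 2 - 1) := by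
  have h := R.N.card_mul_index
  rw [R.index, Nat.card_congr R.e.toEquiv, (card_S : Nat.card SL = Fintype.card F * (Fintype.card F ^ 2 - 1)), ZMod.card] at h
  rw [← h]
  have h1 : 1 ≤ p ^ 2 := Nat.one_le_pow _ _ (Fact.out : p.Prime).pos
  push_cast [Nat.cast_sub h1]
  ring

/-- The matrix of a multiple by `z`. -/
theorem mat_mul_z (h : H) : ∃ c : F, c ≠ 0 ∧ R.mat (h * z) = c • R.mat h :=
  R.mat_unique (R.mat_det _) fun n => by
    have e : R.cj (h * z) n = R.cj h n := Subtype.ext (by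
      show h * z * n * (h * z)⁻¹ = h * n * h⁻¹
      rw [mul_assoc h z, ← Subgroup.mem_center_iff.1 R.z_center (n : H)]
      group)
    rw [← e, R.mat_spec]

/-- The elements with the same matrix up to scalars. -/
theorem eq_of_mat {g h : H} {c : F} (hc : R.mat g = c • R.mat h) : g = h ∨ g = h * z := by
  have hc0 : c ≠ 0 := fun h0 => R.mat_det g (by rw [hc, h0, zero_smul, Matrix.det_zero])
  have key : ∀ n : R.N, R.cj g n = R.cj h n := fun n => R.ex_inj (cancel_det (R.mat_det h) (by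
    have e := R.mat_spec g n
    rw [hc, Matrix.mul_smul, Matrix.smul_mul] at e
    rw [smul_right_injective _ hc0 e, R.mat_spec]))
  rcases R.centralizer_N (c := h⁻¹ * g) fun n => by
      have e : g * n * g⁻¹ = h * n * h⁻¹ := congrArg Subtype.val (key n)
      calc h⁻¹ * g * n = h⁻¹ * (g * n * g⁻¹) * g := by group
        _ = h⁻¹ * (h * n * h⁻¹) * g := by rw [e]
        _ = n * (h⁻¹ * g) := by group with e | e
  · exact Or.inl (inv_mul_eq_one.1 e).symm
  · exact Or.inr (inv_mul_eq_iff_eq_mul.1 e)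

theorem count_fibres : (∀ A : M2, A.det ≠ 0 → ∃ (h : H) (c : F), c ≠ 0 ∧ A = c • R.mat h) := by
  let Ψ : H × Fˣ → GL (Fin 2) F := fun q => Matrix.GeneralLinearGroup.mkOfDetNeZero ((q.2 : F) • R.mat q.1) (by
    rw [Matrix.det_smul]; exact mul_ne_zero (pow_ne_zero _ q.2.ne_zero) (R.mat_det _))
  have hle : (Finset.univ : Finset (H × Fˣ)).card ≤ 2 * ((Finset.univ : Finset (H × Fˣ)).image Ψ).card := by
    refine Finset.card_le_mul_card_image _ 2 fun A hA => ?_
    obtain ⟨⟨h, c⟩, -, rfl⟩ := Finset.mem_image.1 hA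
    have hsub : ∀ q ∈ Finset.univ.filter (fun q => Ψ q = Ψ (h, c)), q.1 ∈ ({h, h * z} : Finset H) := by
      rintro ⟨g, d⟩ hq
      have e : (d : F) • R.mat g = (c : F) • R.mat h :=
        congrArg (fun A : GL (Fin 2) F => (A : M2)) (Finset.mem_filter.1 hq).2
      rcases R.eq_of_mat (g := g) (h := h) (c := ((d⁻¹ : Fˣ) : F) * (c : F))
        (by rw [← smul_smul, ← e, smul_smul, Units.inv_mul, one_smul]) with e' | e' <;>
        simp [e']
    refine le_trans (Finset.card_le_card_of_injOn (fun q => q.1) hsub ?_) Finset.card_le_two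
    rintro ⟨g, d⟩ hq ⟨g', d'⟩ hq' e
    simp only at e
    subst e
    have e1 : (d : F) • R.mat g = (d' : F) • R.mat g :=
      congrArg (fun A : GL (Fin 2) F => (A : M2))
        ((Finset.mem_filter.1 (Finset.mem_coe.1 hq)).2.trans (Finset.mem_filter.1 (Finset.mem_coe.1 hq')).2.symm)
    have h0 : R.mat g ≠ 0 := fun h0 => R.mat_det g (by rw [h0, Matrix.det_zero])
    rw [Units.ext (smul_left_injective F h0 e1)]
  have hcard : ((Finset.univ : Finset (H × Fˣ)).card : ℤ) = 2 * (Nat.card (GL (Fin 2) F) : ℤ) := by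
    rw [Finset.card_univ, Fintype.card_prod, ZMod.card_units, card_GL2, ← Nat.card_eq_fintype_card, Nat.cast_mul,
      R.card_H, Nat.cast_sub (Fact.out : p.Prime).one_le]
    push_cast
    ring
  have huniv : (Finset.univ : Finset (H × Fˣ)).image Ψ = Finset.univ := by
    refine Finset.eq_univ_of_card _ (le_antisymm (Finset.card_le_univ _) ?_)
    have h2 : (2 * (Nat.card (GL (Fin 2) F) : ℤ)) ≤ 2 * (((Finset.univ : Finset (H × Fˣ)).image Ψ).card : ℤ) := by
      rw [← hcard]; exact_mod_cast hle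
    rw [Nat.card_eq_fintype_card] at h2
    omega
  intro A hA
  obtain ⟨⟨h, c⟩, -, e⟩ := Finset.mem_image.1 (huniv ▸ Finset.mem_univ (Matrix.GeneralLinearGroup.mkOfDetNeZero A hA))
  exact ⟨h, c, c.ne_zero, (congrArg (fun A : GL (Fin 2) F => (A : M2)) e).symm⟩

/-- Counting through the matrices. -/
theorem card_transfer (P : M2 → Prop) (hP : ∀ (c : F) (A : M2), c ≠ 0 → (P (c • A) ↔ P A)) :
    2 * (Nat.card {A : GL (Fin 2) F // P (A : M2)} : ℤ) = ((p : ℤ) - 1) * Nat.card {h : H // P (R.mat h)} := by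
  set D := (Finset.univ.filter fun h : H => P (R.mat h)) ×ˢ (Finset.univ : Finset Fˣ) with hD
  let Ψ : H × Fˣ → GL (Fin 2) F := fun q => Matrix.GeneralLinearGroup.mkOfDetNeZero ((q.2 : F) • R.mat q.1) (by
    rw [Matrix.det_smul]; exact mul_ne_zero (pow_ne_zero _ q.2.ne_zero) (R.mat_det _))
  set T := Finset.univ.filter (fun A : GL (Fin 2) F => P (A : M2)) with hT
  have hmaps : ∀ q ∈ D, Ψ q ∈ T := fun q hq =>
    Finset.mem_filter.2 ⟨Finset.mem_univ _, (hP _ _ q.2.ne_zero).2 (Finset.mem_filter.1 (Finset.mem_product.1 hq).1).2⟩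
  have hfib : ∀ A ∈ T, (D.filter fun q => Ψ q = A).card = 2 := by
    intro A hA
    obtain ⟨h, c, hc, e⟩ := R.count_fibres (A : M2) ((Matrix.isUnit_iff_isUnit_det _).1 A.isUnit).ne_zero
    obtain ⟨d, hd, ed⟩ := R.mat_mul_z h
    have hPh : P (R.mat h) := (hP c _ hc).1 (e ▸ (Finset.mem_filter.1 hA).2)
    have hne : h ≠ h * z := fun e => R.z_ne (mul_eq_left.1 e.symm)
    rw [Finset.card_eq_two]
    refine ⟨(h, Units.mk0 c hc), (h * z, Units.mk0 (c / d) (div_ne_zero hc hd)), fun e => hne (congrArg Prod.fst e), ?_⟩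
    ext ⟨g, x⟩
    simp only [Finset.mem_filter, Finset.mem_insert, Finset.mem_singleton, hD, Finset.mem_product, Finset.mem_univ,
      true_and, and_true, Prod.mk.injEq]
    constructor
    · rintro ⟨-, he⟩
      have e2 : (x : F) • R.mat g = c • R.mat h := (congrArg (fun B : GL (Fin 2) F => (B : M2)) he).trans e
      have h0 : ∀ k : H, R.mat k ≠ 0 := fun k h0 => R.mat_det k (by rw [h0, Matrix.det_zero])
      rcases R.eq_of_mat (g := g) (h := h) (c := ((x⁻¹ : Fˣ) : F) * c)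
        (by rw [← smul_smul, ← e2, smul_smul, Units.inv_mul, one_smul]) with rfl | rfl
      · exact Or.inl ⟨rfl, Units.ext (smul_left_injective F (h0 _) e2)⟩
      · refine Or.inr ⟨rfl, Units.ext ?_⟩
        rw [ed, smul_smul] at e2
        rw [Units.val_mk0, eq_div_iff hd]
        exact smul_left_injective F (h0 _) e2
    · rintro (⟨rfl, rfl⟩ | ⟨rfl, rfl⟩)
      · exact ⟨hPh, Units.ext e.symm⟩
      · refine ⟨by rw [ed]; exact (hP d _ hd).2 hPh, Units.ext ?_⟩
        show (c / d) • R.mat (h * z) = (A : M2)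
        rw [ed, smul_smul, div_mul_cancel₀ _ hd, e]
  have h := Finset.card_eq_sum_card_fiberwise hmaps
  rw [Finset.sum_congr rfl hfib, Finset.sum_const, smul_eq_mul, hD, Finset.card_product, Finset.card_univ,
    ZMod.card_units] at h
  have h' := congrArg (fun n : ℕ => (n : ℤ)) h
  push_cast [Nat.cast_sub (Fact.out : p.Prime).one_le] at h'
  rw [Nat.card_eq_fintype_card, Nat.card_eq_fintype_card, Fintype.card_subtype, Fintype.card_subtype, ← hT]
  linear_combination -h'

theorem card_mat_comm {X : M2} (hX : ¬ IsScal X) :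
    (Nat.card {h : H // R.mat h * X = X * R.mat h} : ℤ) = 2 * ((p : ℤ) - quadraticChar F (disc X)) := by
  have h := R.card_transfer (fun A => A * X = X * A) fun c A hc => by
    rw [Matrix.smul_mul, Matrix.mul_smul]
    exact (smul_right_injective _ hc).eq_iff
  rw [card_comm R.ne2 hX] at h
  have h1 : ((p : ℤ) - 1) ≠ 0 := by have := (Fact.out : p.Prime).two_le; omega
  exact mul_left_cancel₀ h1 (by linear_combination -h)

end Rep

end Cfsg.Lib.SemiCyclic
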