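import Cfsg.Agent.SemiCyclic.Model.Rep
import Cfsg.Agent.SemiCyclic.Model.Geo

/-!
# The subgroups of the model from the data
-/

set_option autoImplicit false
set_option linter.unusedSectionVars false

namespace Cfsg.Lib.SemiCyclic.Rep

open Cfsg.Lib.Known.AutPSL2
attribute [local instance 10] _root_.Classical.propDecidable

universe u

variable {H : Type u} [Group H] [Fintype H] {z : H} {p : ℕ} [Fact p.Prime] (R : Rep H z p)

local notation "F" => ZMod p
local notation "M2" => Matrix (Fin 2) (Fin 2) (ZMod p)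
local notation "SL" => Matrix.SpecialLinearGroup (Fin 2) (ZMod p)

include R

theorem p_odd : p % 2 = 1 := Nat.odd_iff.1 ((Fact.out : p.Prime).odd_of_ne_two R.ne2)

theorem char_ne_two : ringChar F ≠ 2 := by rw [ZMod.ringChar_zmod_n]; exact R.ne2

theorem chi_det {g : H} (hg : g ∉ R.N) : quadraticChar F (R.mat g).det = -1 := by
  refine (quadraticChar_dichotomy (R.mat_det g)).resolve_left fun h1 => ?_
  obtain ⟨s, hs⟩ := (quadraticChar_one_iff_isSquare (R.mat_det g)).1 h1
  have hs0 : s ≠ 0 := fun h => R.mat_det g (by rw [hs, h, zero_mul])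
  obtain ⟨m, hm⟩ := R.ex_surj (X := s⁻¹ • R.mat g) (by
    rw [Matrix.det_smul, Fintype.card_fin, hs]; field_simp)
  obtain ⟨c, hc, hc'⟩ := R.mat_N m
  rw [hm] at hc'
  have e : R.mat g = (s * c) • R.mat (m : H) := by rw [← smul_smul, ← hc', smul_smul, mul_inv_cancel₀ hs0, one_smul]
  rcases R.eq_of_mat e with e' | e'
  · exact hg (e' ▸ m.2)
  · exact hg (e' ▸ mul_mem m.2 R.z_N)

theorem mat_not_scal {g : H} (hg : g ∉ R.N) : ¬ IsScal (R.mat g) := fun hs => by
  obtain ⟨c, hc⟩ := isScal_iff.1 hs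
  rcases R.centralizer_N (c := g) fun n => (R.commute_iff g n).2 (by rw [hc]; simp) with e | e
  · exact hg (e ▸ one_mem _)
  · exact hg (e ▸ R.z_N)

theorem trace_involution {g : H} (hg : g ∉ R.N) (h2 : g * g = 1) : (R.mat g).trace = 0 := by
  obtain ⟨c, hc, h1⟩ := R.mat_mul g g
  rw [h2] at h1
  obtain ⟨d, hd, h3⟩ := R.mat_N 1
  rw [R.ex_one, Subgroup.coe_one] at h3
  have e : R.mat g * R.mat g = (c * d⁻¹) • (1 : M2) := by
    rw [h1, ← smul_smul]; congr 1; rw [h3, smul_smul, inv_mul_cancel₀ hd, one_smul]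
  set A := R.mat g with hA
  have hns : ¬ IsScal A := R.mat_not_scal hg
  have e00 := congrFun (congrFun e 0) 0
  have e01 := congrFun (congrFun e 0) 1
  have e10 := congrFun (congrFun e 1) 0
  have e11 := congrFun (congrFun e 1) 1
  simp [Matrix.mul_apply, Fin.sum_univ_two] at e00 e01 e10 e11
  by_contra ht
  rw [Matrix.trace_fin_two] at ht
  have a01 : A 0 1 = 0 := (mul_eq_zero.1 (show (A 0 0 + A 1 1) * A 0 1 = 0 by linear_combination e01)).resolve_left ht
  have a10 : A 1 0 = 0 := (mul_eq_zero.1 (show (A 0 0 + A 1 1) * A 1 0 = 0 by linear_combination e10)).resolve_left ht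
  refine hns ⟨a01, a10, ?_⟩
  exact sub_eq_zero.1 ((mul_eq_zero.1 (show (A 0 0 + A 1 1) * (A 0 0 - A 1 1) = 0 by
    linear_combination e00 - e11)).resolve_left ht)

theorem card_centralizer_N (n : R.N) (hn : ¬ IsScal (R.ex n)) :
    (Nat.card (Subgroup.centralizer ({(n : H)} : Set H)) : ℤ) =
      2 * ((p : ℤ) - quadraticChar F (disc (R.ex n))) := by
  rw [← R.card_mat_comm hn]
  congr 1
  exact Nat.card_congr ((Equiv.refl H).subtypeEquiv fun h => by
    rw [Subgroup.mem_centralizer_singleton_iff, Equiv.refl_apply, R.commute_iff])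

theorem cent_invol_iff {g : H} (hg : g ∉ R.N) (h : H) : h * g = g * h ↔ R.mat h * R.mat g = R.mat g * R.mat h := by
  have key : ∀ n : R.N, (n : H) * g = g * n ↔ R.ex n * R.mat g = R.mat g * R.ex n := fun n => by
    rw [eq_comm, R.commute_iff, eq_comm]
  by_cases hN : h ∈ R.N
  · obtain ⟨c, hc, e⟩ := R.mat_N ⟨h, hN⟩
    rw [key ⟨h, hN⟩, e]
    simp only [Matrix.smul_mul, Matrix.mul_smul]
    exact (smul_right_injective _ hc).eq_iff
  · have hm : h * g⁻¹ ∈ R.N := (Subgroup.mul_mem_iff_of_index_two R.index).2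
      (iff_of_false hN (fun h' => hg (inv_mem_iff.1 h')))
    obtain ⟨c, hc, e⟩ := R.mat_mul (h * g⁻¹) g
    rw [inv_mul_cancel_right] at e
    obtain ⟨d, hd, e'⟩ := R.mat_N ⟨_, hm⟩
    have ee : R.ex ⟨_, hm⟩ * R.mat g = (d * c) • R.mat h := by
      rw [e', Matrix.smul_mul]
      show d • (R.mat (h * g⁻¹) * R.mat g) = _
      rw [e, smul_smul]
    have h1 : h * g = g * h ↔ ((⟨_, hm⟩ : R.N) : H) * g = g * ((⟨_, hm⟩ : R.N) : H) := by
      show _ ↔ h * g⁻¹ * g = g * (h * g⁻¹)
      constructor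
      · intro e; rw [inv_mul_cancel_right, ← mul_assoc, ← e, mul_inv_cancel_right]
      · intro e; rw [inv_mul_cancel_right] at e; nth_rw 1 [e]; group
    rw [h1, key]
    have hi : ∀ X Y : M2, X = Y ↔ X * R.mat g = Y * R.mat g := fun X Y =>
      ⟨fun e => by rw [e], fun e => cancel_det (R.mat_det g) e⟩
    rw [hi (R.ex ⟨_, hm⟩ * R.mat g), ee, mul_assoc (R.mat g), ee, Matrix.smul_mul, Matrix.mul_smul]
    exact (smul_right_injective _ (mul_ne_zero hd hc)).eq_iff

theorem card_centralizer_invol {g : H} (hg : g ∉ R.N) (h2 : g * g = 1) :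
    Nat.card (Subgroup.centralizer ({g} : Set H)) = 2 * (sgnPrime p - 1).natAbs := by
  have h := R.card_mat_comm (R.mat_not_scal hg)
  have e : Nat.card (Subgroup.centralizer ({g} : Set H)) =
      Nat.card {h : H // R.mat h * R.mat g = R.mat g * R.mat h} :=
    Nat.card_congr ((Equiv.refl H).subtypeEquiv fun h => by
      rw [Subgroup.mem_centralizer_singleton_iff, Equiv.refl_apply, R.cent_invol_iff hg])
  have h4 : quadraticChar F (4 : F) = 1 := by
    rw [show (4 : F) = 2 ^ 2 by norm_num]; exact quadraticChar_sq_one' (two_ne R.ne2)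
  rw [disc, R.trace_involution hg h2, zero_pow two_ne_zero,
    show (0 : F) - 4 * (R.mat g).det = (-1) * (4 * (R.mat g).det) by ring, map_mul, map_mul,
    R.chi_det hg, h4, quadraticChar_neg_one R.char_ne_two, ZMod.card, ZMod.χ₄_nat_eq_if_mod_four] at h
  rw [e]
  have := R.p_odd
  have h3 : 3 ≤ p := by have := (Fact.out : p.Prime).two_le; omega
  unfold sgnPrime
  split_ifs at h ⊢ <;> omega

/-- Commuting through the matrices. -/
theorem comm_of_mat {X : M2} (hX : ¬ IsScal X) (A : Subgroup H)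
    (hA : ∀ h ∈ A, R.mat h * X = X * R.mat h) : ∀ a ∈ A, ∀ b ∈ A, a * b = b * a := by
  have key : ∀ h ∈ A, ∀ k ∈ A, k ∈ R.N → h * k = k * h := by
    intro h hh k hk hkN
    obtain ⟨c, hc, e⟩ := R.mat_N ⟨k, hkN⟩
    have := R.commute_iff h ⟨k, hkN⟩
    refine this.2 ?_
    rw [e, Matrix.mul_smul, Matrix.smul_mul, comm_of_comm hX (hA h hh) (hA k hk)]
  intro a ha b hb
  by_cases hbN : b ∈ R.N
  · exact key a ha b hb hbN
  by_cases haN : a ∈ R.N
  · exact (key b hb a ha haN).symm
  have hm : a⁻¹ * b ∈ R.N := (Subgroup.mul_mem_iff_of_index_two R.index).2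
    (iff_of_false (fun h' => haN (inv_mem_iff.1 h')) hbN)
  have e := key a ha _ (mul_mem (inv_mem ha) hb) hm
  rw [mul_inv_cancel_left] at e
  calc a * b = a * (a⁻¹ * b * a) := congrArg (a * ·) e
    _ = b * a := by group

theorem comm_centralizer_N (n : R.N) (hn : ¬ IsScal (R.ex n)) :
    ∀ a ∈ Subgroup.centralizer ({(n : H)} : Set H), ∀ b ∈ Subgroup.centralizer ({(n : H)} : Set H), a * b = b * a :=
  R.comm_of_mat hn _ fun h hh => (R.commute_iff h n).1 (Subgroup.mem_centralizer_singleton_iff.1 hh)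

theorem comm_centralizer_invol {g : H} (hg : g ∉ R.N) :
    ∀ a ∈ Subgroup.centralizer ({g} : Set H), ∀ b ∈ Subgroup.centralizer ({g} : Set H), a * b = b * a :=
  R.comm_of_mat (R.mat_not_scal hg) _ fun h hh =>
    (R.cent_invol_iff hg h).1 (Subgroup.mem_centralizer_singleton_iff.1 hh)

theorem invol_N {n : H} (hn : n ∈ R.N) (h2 : n * n = 1) : n = 1 ∨ n = z := by
  refine R.central_N (n := ⟨n, hn⟩) ?_
  set A := R.ex ⟨n, hn⟩ with hA
  have e : A * A = 1 := by
    rw [hA, ← R.ex_mul, show (⟨n, hn⟩ : R.N) * ⟨n, hn⟩ = 1 from Subtype.ext h2, R.ex_one]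
  have hd : A.det = 1 := R.ex_det _
  have e00 := congrFun (congrFun e 0) 0
  have e01 := congrFun (congrFun e 0) 1
  have e10 := congrFun (congrFun e 1) 0
  have e11 := congrFun (congrFun e 1) 1
  simp [Matrix.mul_apply, Fin.sum_univ_two] at e00 e01 e10 e11
  rw [Matrix.det_fin_two] at hd
  have h0 := two_ne R.ne2
  have hA0 : (A 0 0 + A 1 1) ≠ 0 := fun h => h0 (by
    linear_combination (A 0 0) * h - hd - e00)
  refine ⟨(mul_eq_zero.1 (show (A 0 0 + A 1 1) * A 0 1 = 0 by linear_combination e01)).resolve_left hA0,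
    (mul_eq_zero.1 (show (A 0 0 + A 1 1) * A 1 0 = 0 by linear_combination e10)).resolve_left hA0, ?_⟩
  exact sub_eq_zero.1 ((mul_eq_zero.1 (show (A 0 0 + A 1 1) * (A 0 0 - A 1 1) = 0 by
    linear_combination e00 - e11)).resolve_left hA0)

/-- The unipotent element. -/
noncomputable def xN : R.N := R.e.symm (uS (1 : F))

theorem ex_xN : R.ex R.xN = !![1, 1; 0, 1] :=
  congrArg Subtype.val (R.e.apply_symm_apply (uS (1 : F)))

theorem xN_ord : orderOf (R.xN : H) = p := by
  rw [Subgroup.orderOf_coe, xN, MulEquiv.orderOf_eq]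
  refine orderOf_eq_prime ?_ fun h => ?_
  · rw [sl_pow_uS, ZMod.natCast_self, zero_mul]
    refine sl_ext ?_; simp [coe_uS, Matrix.one_fin_two]
  · have h' := congrFun (congrFun (congrArg Subtype.val h) 0) 1
    simp [coe_uS] at h'

theorem xN_not_scal : ¬ IsScal (R.ex R.xN) := fun h => by
  have := h.1
  rw [R.ex_xN] at this
  simp at this

theorem xN_cent : Nat.card (Subgroup.centralizer ({(R.xN : H)} : Set H)) = 2 * p := by
  have h := R.card_centralizer_N R.xN R.xN_not_scal
  rw [show disc (R.ex R.xN) = 0 by rw [R.ex_xN, disc]; simp [Matrix.det_fin_two, Matrix.trace_fin_two]; ring,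
    quadraticChar_zero, sub_zero] at h
  omega

theorem xN_conj {y : H} (hy : orderOf y = p) : IsConj (R.xN : H) y := by
  have hyN : y ∈ R.N := by
    by_contra hn
    obtain ⟨j, hj⟩ := (Fact.out : p.Prime).odd_of_ne_two R.ne2
    have e : y ^ (2 * j + 1) = 1 := orderOf_dvd_iff_pow_eq_one.1 (by rw [hy, hj])
    rw [pow_succ, pow_mul, pow_two] at e
    exact hn (eq_inv_of_mul_eq_one_right e ▸ inv_mem (pow_mem (Subgroup.mul_self_mem_of_index_two R.index y) j))
  set Y := R.ex ⟨y, hyN⟩ with hY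
  have hpow : Y ^ p = 1 := by
    have h : (⟨y, hyN⟩ : R.N) ^ p = 1 :=
      Subtype.ext (show y ^ p = 1 from orderOf_dvd_iff_pow_eq_one.1 (dvd_of_eq hy))
    rw [hY, ex, ← Matrix.SpecialLinearGroup.coe_pow, ← map_pow, h, map_one]
    rfl
  have hne : Y ≠ 1 := fun h => (Fact.out : p.Prime).ne_one (by
    rw [← hy, show y = ((1 : R.N) : H) from congrArg Subtype.val (R.ex_inj (n := ⟨y, hyN⟩) (h.trans R.ex_one.symm)),
      Subgroup.coe_one, orderOf_one])
  have hnil : (Y - 1).det = 0 := by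
    haveI : CharP M2 p := Matrix.charP p
    have h : (Y - 1) ^ p = 0 := by rw [sub_pow_char_of_commute p (Commute.one_right Y), hpow, one_pow, sub_self]
    have h' := congrArg Matrix.det h
    rw [Matrix.det_pow, Matrix.det_zero] at h'
    exact pow_eq_zero_iff (Fact.out : p.Prime).ne_zero |>.1 h'
  have hd : Y.det = 1 := R.ex_det _
  rw [Matrix.det_fin_two] at hd hnil
  simp only [Matrix.sub_apply, Matrix.one_apply_eq, Matrix.one_apply_ne (show (0 : Fin 2) ≠ 1 by decide),
    Matrix.one_apply_ne (show (1 : Fin 2) ≠ 0 by decide), sub_zero] at hnil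
  obtain ⟨B, hB, hBY⟩ : ∃ B : M2, B.det ≠ 0 ∧ Y * B = B * !![1, 1; 0, 1] := by
    by_cases hc : Y 1 0 = 0
    · rw [hc] at hnil hd
      have a0 : Y 0 0 = 1 := by
        rcases mul_eq_zero.1 (show (Y 0 0 - 1) * (Y 1 1 - 1) = 0 by linear_combination hnil) with h | h
        · exact sub_eq_zero.1 h
        · linear_combination hd - (Y 0 0) * h
      have a1 : Y 1 1 = 1 := by rw [a0] at hd; linear_combination hd
      have hb : Y 0 1 ≠ 0 := fun hb => hne (by
        ext i j; fin_cases i <;> fin_cases j <;> simp [a0, a1, hb, hc])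
      refine ⟨!![Y 0 1, 0; 0, 1], by simp [Matrix.det_fin_two, hb], ?_⟩
      ext i j; fin_cases i <;> fin_cases j <;> simp [Matrix.mul_apply, Fin.sum_univ_two, a0, a1, hc]
    · refine ⟨!![Y 0 0 - 1, 1; Y 1 0, 0], by simp [Matrix.det_fin_two, hc], ?_⟩
      ext i j; fin_cases i <;> fin_cases j <;> simp [Matrix.mul_apply, Fin.sum_univ_two]
      · linear_combination (Y 0 0 - 1) * (hd - hnil) - hnil
      · linear_combination Y 1 0 * (hd - hnil)
  obtain ⟨h, c, hc, e⟩ := R.count_fibres B hB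
  refine isConj_iff.2 ⟨h, ?_⟩
  have hs := R.mat_spec h R.xN
  rw [R.ex_xN] at hs
  rw [e, Matrix.mul_smul, Matrix.smul_mul] at hBY
  exact congrArg Subtype.val (R.ex_inj (cancel_det (R.mat_det h) (hs.trans (smul_right_injective _ hc hBY).symm)))

/-- An element outside `N` commuting with a semisimple element of `N`. -/
theorem exists_outside (n : R.N) (hn : ¬ IsScal (R.ex n)) (hD : disc (R.ex n) ≠ 0) {g : H} (hg : g ∉ R.N) :
    ∃ h : H, h ∉ R.N ∧ h * n = n * h := by
  set X := R.ex n with hX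
  set ν := (R.mat g).det
  have h2 := two_ne R.ne2
  obtain ⟨a, b, hab⟩ : ∃ a b : F, (a • (1 : M2) + b • X).det = ν := by
    obtain ⟨a, b, hab⟩ := FiniteField.exists_root_sum_quadratic (R := F)
      (f := Polynomial.X ^ 2 - Polynomial.C ν) (g := Polynomial.C (-(disc X) / 4) * Polynomial.X ^ 2)
      (Polynomial.degree_X_pow_sub_C two_pos ν)
      (by rw [Polynomial.degree_C_mul (div_ne_zero (neg_ne_zero.2 hD)
          (by rw [show (4 : F) = 2 * 2 by norm_num]; exact mul_ne_zero h2 h2)), Polynomial.degree_X_pow]; rfl)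
      (by rw [ZMod.card]; exact R.p_odd)
    simp only [Polynomial.eval_sub, Polynomial.eval_pow, Polynomial.eval_X, Polynomial.eval_C,
      Polynomial.eval_mul] at hab
    refine ⟨a - b * X.trace / 2, b, ?_⟩
    rw [det_span]
    have h4 : (4 : F) ≠ 0 := by rw [show (4 : F) = 2 * 2 by norm_num]; exact mul_ne_zero h2 h2
    simp only [disc] at hab ⊢
    field_simp at hab ⊢
    linear_combination hab
  have hdet : (a • (1 : M2) + b • X).det ≠ 0 := hab ▸ R.mat_det g
  obtain ⟨h, c, hc, e⟩ := R.count_fibres _ hdet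
  refine ⟨h, fun hN => ?_, (R.commute_iff h n).2 ?_⟩
  · obtain ⟨d, hd, e'⟩ := R.mat_N ⟨h, hN⟩
    have h1 : R.mat h = d⁻¹ • R.ex ⟨h, hN⟩ := by rw [e', smul_smul, inv_mul_cancel₀ hd, one_smul]
    rw [e, h1, smul_smul, Matrix.det_smul, R.ex_det, mul_one, Fintype.card_fin] at hab
    have hχ := R.chi_det hg
    change quadraticChar F ν = -1 at hχ
    rw [← hab, quadraticChar_sq_one' (mul_ne_zero hc (inv_ne_zero hd))] at hχ
    norm_num at hχ
  · have h1 : R.mat h = c⁻¹ • (a • (1 : M2) + b • X) := by rw [e, smul_smul, inv_mul_cancel₀ hc, one_smul]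
    rw [h1]
    simp only [Matrix.smul_mul, Matrix.mul_smul, add_mul, mul_add, one_mul, mul_one, hX]

end Cfsg.Lib.SemiCyclic.Rep
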