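import Cfsg.Agent.SemiCyclic.Model.Chars

/-!
# Values of the test functions
-/

set_option autoImplicit false
set_option linter.unusedSectionVars false

namespace Cfsg.Lib.SemiCyclic.Geo

open Cfsg Cfsg.Lib.Chars
open scoped Classical ComplexConjugate

universe u

variable {H : Type u} [Group H] [Fintype H] {z : H} {p : ℕ} (Γ : Geo H z p)

local notation "Qc" => ((sgnPrime p : ℤ) : ℂ)

include Γ

/-- The classes of the model, up to conjugation. -/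
theorem class_cases (y : H) : y = 1 ∨ y = z ∨ IsConj Γ.x y ∨ IsConj (z * Γ.x) y ∨
    (∃ t ∈ punct Γ.T z, IsConj t y) ∨ ∃ s ∈ punct Γ.S z, IsConj s y := by
  have h := Γ.cover.1 ▸ Finset.mem_univ y
  simp only [Finset.mem_union, Finset.mem_insert, Finset.mem_singleton, mem_cl, exists_eq_left] at h
  rcases h with ((((h | h) | ⟨g, h⟩) | ⟨g, h⟩) | ⟨t, ht, g, h⟩) | ⟨s, hs, g, h⟩
  · exact Or.inl h
  · exact Or.inr (Or.inl h)
  · exact Or.inr (Or.inr (Or.inl (isConj_iff.2 ⟨g, h⟩)))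
  · exact Or.inr (Or.inr (Or.inr (Or.inl (isConj_iff.2 ⟨g, h⟩))))
  · exact Or.inr (Or.inr (Or.inr (Or.inr (Or.inl ⟨t, ht, isConj_iff.2 ⟨g, h⟩⟩))))
  · exact Or.inr (Or.inr (Or.inr (Or.inr (Or.inr ⟨s, hs, isConj_iff.2 ⟨g, h⟩⟩))))

theorem classFun_conj {f : H → ℂ} (hf : IsClassFunction H f) {a b : H} (h : IsConj a b) : f b = f a := by
  obtain ⟨g, rfl⟩ := isConj_iff.1 h
  exact hf a g

theorem sum_cl (D : Finset H) (M : ℕ) (hM : ∀ d ∈ D, (Finset.univ.filter fun h : H => h * d * h⁻¹ ∈ D).card = M)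
    {f : H → ℂ} (hf : IsClassFunction H f) :
    (M : ℂ) * ∑ y ∈ cl D, f y = (Nat.card H : ℂ) * ∑ d ∈ D, f d := by
  refine (mul_sum_conjugates D M hM f).trans ?_
  rw [Finset.sum_congr rfl fun g _ => Finset.sum_congr rfl fun d _ => hf d g, Finset.sum_const,
    Finset.card_univ, nsmul_eq_mul, Nat.card_eq_fintype_card]

/-- Summation of a class function. -/
theorem sum_eq {f : H → ℂ} (hf : IsClassFunction H f) :
    ∑ y, f y = f 1 + f z + (Qc ^ 2 - 1) * (f Γ.x + f (z * Γ.x)) +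
      Qc * (Qc - 1) / 2 * ∑ t ∈ punct Γ.T z, f t + Qc * (Qc + 1) / 2 * ∑ s ∈ punct Γ.S z, f s := by
  obtain ⟨hu, d1, d2, d3, d4⟩ := Γ.cover
  have h1 := sum_cl Γ {Γ.x} (2 * p) (fun d hd => by rw [Finset.mem_singleton.1 hd]; exact Γ.fusion_x) hf
  have h2 := sum_cl Γ {z * Γ.x} (2 * p) (fun d hd => by rw [Finset.mem_singleton.1 hd]; exact Γ.fusion_zx) hf
  have h3 := sum_cl Γ _ _ (fun d hd => Γ.fusion_T hd) hf
  have h4 := sum_cl Γ _ _ (fun d hd => Γ.fusion_S hd) hf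
  rw [Finset.sum_singleton, Γ.card_eq_P] at h1 h2
  rw [Γ.card_eq_T] at h3
  rw [Γ.card_eq_S] at h4
  have hp : ((2 * p : ℕ) : ℂ) ≠ 0 := by simp [Γ.prime.ne_zero]
  have hT : (Nat.card Γ.T : ℂ) ≠ 0 := Nat.cast_ne_zero.2 Nat.card_pos.ne'
  have hS : (Nat.card Γ.S : ℂ) ≠ 0 := Nat.cast_ne_zero.2 Nat.card_pos.ne'
  have e1 : ∑ y ∈ cl {Γ.x}, f y = (Qc ^ 2 - 1) * f Γ.x := mul_left_cancel₀ hp (by rw [h1]; ring)
  have e2 : ∑ y ∈ cl {z * Γ.x}, f y = (Qc ^ 2 - 1) * f (z * Γ.x) := mul_left_cancel₀ hp (by rw [h2]; ring)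
  have e3 : ∑ y ∈ cl (punct Γ.T z), f y = Qc * (Qc - 1) / 2 * ∑ t ∈ punct Γ.T z, f t :=
    mul_left_cancel₀ (mul_ne_zero two_ne_zero hT) (by push_cast at h3; rw [h3]; ring)
  have e4 : ∑ y ∈ cl (punct Γ.S z), f y = Qc * (Qc + 1) / 2 * ∑ t ∈ punct Γ.S z, f t :=
    mul_left_cancel₀ (mul_ne_zero two_ne_zero hS) (by push_cast at h4; rw [h4]; ring)
  rw [hu, Finset.sum_union d4, Finset.sum_union d3, Finset.sum_union d2, Finset.sum_union d1,
    Finset.sum_pair Γ.z_ne.symm, e1, e2, e3, e4]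
  ring

/-! ### Where the classes lie -/

theorem not_T : ∀ y : H, (y = Γ.x ∨ y = z * Γ.x ∨ y ∈ punct Γ.S z) → ∀ g : H, g⁻¹ * y * g ∉ Γ.T := by
  intro y hy g hg
  obtain ⟨hu, d1, d2, d3, d4⟩ := Γ.cover
  have self : ∀ {D : Finset H} {d : H}, d ∈ D → d ∈ cl D := fun {D d} hd => mem_cl.2 ⟨d, hd, 1, by group⟩
  have h1z : ∀ v : H, g⁻¹ * y * g = v → (v = 1 ∨ v = z) → y = 1 ∨ y = z := fun v e hv => by
    have e' : y = g * v * g⁻¹ := by rw [← e]; group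
    rcases hv with rfl | hv
    · exact Or.inl (by rw [e']; group)
    · exact Or.inr (by rw [e', hv, Γ.conj_z])
  have hxc : y = 1 ∨ y = z → False := fun h => by
    have h' : y ∈ ({1, z} : Finset H) := by simpa using h
    rcases hy with rfl | rfl | hy
    · exact Finset.disjoint_left.1 d1 h' (self (Finset.mem_singleton_self _))
    · exact Finset.disjoint_left.1 d2 (Finset.mem_union_left _ h') (self (Finset.mem_singleton_self _))
    · exact h.elim (mem_punct.1 hy).2.1 (mem_punct.1 hy).2.2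
  by_cases h1 : g⁻¹ * y * g = 1
  · exact hxc (h1z _ h1 (Or.inl rfl))
  by_cases h2 : g⁻¹ * y * g = z
  · exact hxc (h1z _ h2 (Or.inr rfl))
  have hT : y ∈ cl (punct Γ.T z) := mem_cl.2 ⟨_, mem_punct.2 ⟨hg, h1, h2⟩, g, by group⟩
  rcases hy with rfl | rfl | hy
  · exact Finset.disjoint_left.1 d3 (Finset.mem_union_left _ (Finset.mem_union_right _
      (self (Finset.mem_singleton_self _)))) hT
  · exact Finset.disjoint_left.1 d3 (Finset.mem_union_right _ (self (Finset.mem_singleton_self _))) hT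
  · exact Finset.disjoint_left.1 d4 (Finset.mem_union_right _ hT) (self hy)

theorem not_S : ∀ y : H, (y = Γ.x ∨ y = z * Γ.x ∨ y ∈ punct Γ.T z) → ∀ g : H, g⁻¹ * y * g ∉ Γ.S := by
  intro y hy g hg
  obtain ⟨hu, d1, d2, d3, d4⟩ := Γ.cover
  have self : ∀ {D : Finset H} {d : H}, d ∈ D → d ∈ cl D := fun {D d} hd => mem_cl.2 ⟨d, hd, 1, by group⟩
  have h1z : ∀ v : H, g⁻¹ * y * g = v → (v = 1 ∨ v = z) → y = 1 ∨ y = z := fun v e hv => by
    have e' : y = g * v * g⁻¹ := by rw [← e]; group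
    rcases hv with rfl | hv
    · exact Or.inl (by rw [e']; group)
    · exact Or.inr (by rw [e', hv, Γ.conj_z])
  have hxc : y = 1 ∨ y = z → False := fun h => by
    have h' : y ∈ ({1, z} : Finset H) := by simpa using h
    rcases hy with rfl | rfl | hy
    · exact Finset.disjoint_left.1 d1 h' (self (Finset.mem_singleton_self _))
    · exact Finset.disjoint_left.1 d2 (Finset.mem_union_left _ h') (self (Finset.mem_singleton_self _))
    · exact h.elim (mem_punct.1 hy).2.1 (mem_punct.1 hy).2.2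
  by_cases h1 : g⁻¹ * y * g = 1
  · exact hxc (h1z _ h1 (Or.inl rfl))
  by_cases h2 : g⁻¹ * y * g = z
  · exact hxc (h1z _ h2 (Or.inr rfl))
  have hS : y ∈ cl (punct Γ.S z) := mem_cl.2 ⟨_, mem_punct.2 ⟨hg, h1, h2⟩, g, by group⟩
  refine Finset.disjoint_left.1 d4 ?_ hS
  rcases hy with rfl | rfl | hy
  · exact Finset.mem_union_left _ (Finset.mem_union_left _ (Finset.mem_union_right _
      (self (Finset.mem_singleton_self _))))
  · exact Finset.mem_union_left _ (Finset.mem_union_right _ (self (Finset.mem_singleton_self _)))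
  · exact Finset.mem_union_right _ (self hy)

theorem x_mem_zpowers : Γ.x ∈ Subgroup.zpowers (z * Γ.x) := by
  have h := Subgroup.pow_mem _ (Subgroup.mem_zpowers (z * Γ.x)) (p + 1)
  rwa [Γ.zx_pow_even] at h

theorem z_mem_zpowers : z ∈ Subgroup.zpowers (z * Γ.x) := by
  have h := Subgroup.pow_mem _ (Subgroup.mem_zpowers (z * Γ.x)) p
  rwa [Γ.zx_pow_p] at h

theorem not_P : ∀ y : H, (y ∈ punct Γ.T z ∨ y ∈ punct Γ.S z) → ∀ g : H,
    g⁻¹ * y * g ∉ Subgroup.zpowers (z * Γ.x) := by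
  intro y hy g hg
  have hle : Subgroup.zpowers (z * Γ.x) ≤ Subgroup.centralizer ({Γ.x} : Set H) :=
    Subgroup.zpowers_le.2 (Subgroup.mem_centralizer_singleton_iff.2 (by
      rw [mul_assoc, ← mul_assoc Γ.x z, Γ.z_comm Γ.x, mul_assoc]))
  have e : g⁻¹ * y * g * Γ.x = Γ.x * (g⁻¹ * y * g) := Subgroup.mem_centralizer_singleton_iff.1 (hle hg)
  have key : g * Γ.x * g⁻¹ ∈ Subgroup.centralizer ({y} : Set H) := Subgroup.mem_centralizer_singleton_iff.2 (by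
    calc g * Γ.x * g⁻¹ * y = g * (Γ.x * (g⁻¹ * y * g)) * g⁻¹ := by group
      _ = g * (g⁻¹ * y * g * Γ.x) * g⁻¹ := by rw [e]
      _ = y * (g * Γ.x * g⁻¹) := by group)
  rcases hy with hy | hy
  · rw [Γ.T_cent y (mem_punct.1 hy).1 (mem_punct.1 hy).2.1 (mem_punct.1 hy).2.2] at key
    exact Γ.not_T Γ.x (Or.inl rfl) g⁻¹ (by rwa [inv_inv])
  · rw [Γ.S_cent y (mem_punct.1 hy).1 (mem_punct.1 hy).2.1 (mem_punct.1 hy).2.2] at key
    exact Γ.not_S Γ.x (Or.inl rfl) g⁻¹ (by rwa [inv_inv])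

/-! ### Induced values -/

theorem indFun_central (A : Subgroup H) (f : A → ℂ) {y : H} (hy : ∀ g : H, g * y = y * g) (hyA : y ∈ A) {n : ℂ}
    (hn : (Nat.card H : ℂ) = n * Nat.card A) : indFun A f y = n * f ⟨y, hyA⟩ := by
  rw [indFun_apply, Finset.sum_congr rfl fun g _ => show extendByZero A f (g⁻¹ * y * g) = f ⟨y, hyA⟩ by
    rw [show g⁻¹ * y * g = y by rw [mul_assoc, ← hy, inv_mul_cancel_left], extendByZero_mem f hyA],
    Finset.sum_const, Finset.card_univ, nsmul_eq_mul, ← Nat.card_eq_fintype_card, hn]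
  have hA : (Nat.card A : ℂ) ≠ 0 := Nat.cast_ne_zero.2 Nat.card_pos.ne'
  field_simp

theorem indFun_fused {A : Subgroup H} {v : H} (hA : ∀ a ∈ A, ∀ b ∈ A, a * b = b * a)
    (hv : ∀ t ∈ A, v * t * v⁻¹ ∈ A) (hvA : v ∉ A) {d : H} (hd : d ∈ A)
    (hf : ∀ g : H, g * d * g⁻¹ ∈ A → g ∈ A ∨ v⁻¹ * g ∈ A) (φ : A → ℂ) :
    indFun A φ d = φ ⟨d, hd⟩ + φ ⟨v * d * v⁻¹, hv d hd⟩ := by
  rw [indFun_apply]
  have e : ∑ x : H, extendByZero A φ (x⁻¹ * d * x) = ∑ x : H, extendByZero A φ (x * d * x⁻¹) :=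
    Fintype.sum_equiv (Equiv.inv H) _ _ fun x => by simp
  set s := Finset.univ.filter (fun h : H => h ∈ A) with hs
  have hdj : Disjoint s (s.image (v * ·)) := by
    rw [Finset.disjoint_left]
    intro y hy hy'
    obtain ⟨t, ht, rfl⟩ := Finset.mem_image.1 hy'
    simp only [hs, Finset.mem_filter, Finset.mem_univ, true_and] at hy ht
    exact hvA (by simpa using mul_mem hy (inv_mem ht))
  rw [e, ← Finset.sum_subset (Finset.subset_univ (s ∪ s.image (v * ·))) fun h _ hh =>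
    extendByZero_not_mem _ fun hmem => hh (by
      rcases hf h hmem with h1 | h1
      · exact Finset.mem_union_left _ (by simpa [hs] using h1)
      · exact Finset.mem_union_right _ (Finset.mem_image.2 ⟨_, by simpa [hs] using h1, by group⟩)),
    Finset.sum_union hdj, Finset.sum_image fun a _ b _ h => mul_left_cancel h]
  have c1 : ∀ h ∈ s, extendByZero A φ (h * d * h⁻¹) = φ ⟨d, hd⟩ := fun h hh => by
    rw [show h * d * h⁻¹ = d by rw [hA _ (Finset.mem_filter.1 hh).2 _ hd, mul_inv_cancel_right],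
      extendByZero_mem φ hd]
  have c2 : ∀ h ∈ s, extendByZero A φ (v * h * d * (v * h)⁻¹) = φ ⟨v * d * v⁻¹, hv d hd⟩ := fun h hh => by
    rw [show v * h * d * (v * h)⁻¹ = v * (h * d * h⁻¹) * v⁻¹ by group,
      show h * d * h⁻¹ = d by rw [hA _ (Finset.mem_filter.1 hh).2 _ hd, mul_inv_cancel_right],
      extendByZero_mem φ (hv d hd)]
  rw [Finset.sum_congr rfl c1, Finset.sum_congr rfl c2, Finset.sum_const, Finset.sum_const, hs,
    ← Fintype.card_subtype, ← Nat.card_eq_fintype_card, nsmul_eq_mul, nsmul_eq_mul]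
  have hA0 : (Nat.card A : ℂ) ≠ 0 := Nat.cast_ne_zero.2 Nat.card_pos.ne'
  change (Nat.card A : ℂ)⁻¹ * ((Nat.card A : ℂ) * _ + (Nat.card A : ℂ) * _) = _
  field_simp

/-- Characters of `T` induced. -/
noncomputable def indT (j : ℕ) : H → ℂ := indFun Γ.T fun t => Γ.om (t : H) ^ j

theorem indT_gen (j : ℕ) : IsGeneralizedCharacter H (Γ.indT j) := by
  refine IsGeneralizedCharacter.indFun ?_
  rw [show (fun t : Γ.T => Γ.om (t : H) ^ j) = fun t : Γ.T => (((fun t => Γ.tHom t ^ j) t : ℂˣ) : ℂ) from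
    funext fun t => by rw [Γ.om_of_mem t.2, Units.val_pow_eq_pow_val]]
  exact IsCharacter.isGeneralized (isCharacter_linear
    { toFun := fun t => Γ.tHom t ^ j
      map_one' := by simp
      map_mul' := fun a b => by simp [mul_pow] })

theorem indT_central (j : ℕ) :
    Γ.indT j 1 = Qc * (Qc - 1) ∧ Γ.indT j z = Qc * (Qc - 1) * (-1) ^ j := by
  constructor
  · rw [indT, Γ.indFun_central Γ.T _ (fun g => by simp) (one_mem _) Γ.card_eq_T]
    simp [Γ.om_one]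
  · rw [indT, Γ.indFun_central Γ.T _ Γ.z_comm Γ.z_T Γ.card_eq_T]
    simp [Γ.om_z]

theorem indT_T (j : ℕ) {t : H} (ht : t ∈ punct Γ.T z) :
    Γ.indT j t = Γ.om t ^ j + Γ.om t ^ (j * (2 ^ Γ.k - 1)) := by
  obtain ⟨h0, h1, h2⟩ := mem_punct.1 ht
  rw [indT, Γ.indFun_fused Γ.T_comm (fun _ => Γ.w_T) Γ.w_not_T h0 fun g hg => by
    rw [Γ.w_inv]; exact Γ.T_norm t h0 h1 h2 g hg]
  simp only [Γ.om_conj h0]
  rw [← pow_mul, mul_comm]

theorem indT_off (j : ℕ) {y : H} (hy : y = Γ.x ∨ y = z * Γ.x ∨ y ∈ punct Γ.S z) : Γ.indT j y = 0 :=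
  indFun_eq_zero_of_forall _ _ _ (Γ.not_T y hy)

/-- The character of `S` induced. -/
noncomputable def indS : H → ℂ := indFun Γ.S fun s => Γ.mu (s : H)

theorem indS_gen : IsGeneralizedCharacter H Γ.indS :=
  IsGeneralizedCharacter.indFun (IsCharacter.isGeneralized (isCharacter_linear Γ.sHom))

theorem mu_one_z : Γ.mu 1 = 1 ∧ Γ.mu z = -1 := by
  constructor
  · simp [mu]
  · simp [mu, Γ.z_pow_odd Γ.sOdd_odd.1, Γ.z_ne, Γ.u_ne.2.symm]

theorem indS_central : Γ.indS 1 = Qc * (Qc + 1) ∧ Γ.indS z = -(Qc * (Qc + 1)) := by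
  constructor
  · rw [indS, Γ.indFun_central Γ.S _ (fun g => by simp) (one_mem _) Γ.card_eq_S]
    simp [Γ.mu_one_z.1]
  · rw [indS, Γ.indFun_central Γ.S _ Γ.z_comm Γ.z_S Γ.card_eq_S]
    simp [Γ.mu_one_z.2]

theorem indS_S {s : H} (hs : s ∈ punct Γ.S z) :
    Γ.indS s = if s ^ sOdd p = 1 then 2 else if s ^ sOdd p = z then -2 else 0 := by
  obtain ⟨h0, h1, h2⟩ := mem_punct.1 hs
  rw [indS, Γ.indFun_fused Γ.S_comm Γ.τ_S Γ.τ_not_S h0 (Γ.S_norm s h0 h1 h2)]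
  exact Γ.mu_conj h0

theorem indS_off {y : H} (hy : y = Γ.x ∨ y = z * Γ.x ∨ y ∈ punct Γ.T z) : Γ.indS y = 0 :=
  indFun_eq_zero_of_forall _ _ _ (Γ.not_S y hy)

/-- The characters of the centralizer of `x` induced. -/
noncomputable def indP (e : ℤˣ) : H → ℂ :=
  indFun (Subgroup.zpowers (z * Γ.x)) fun y => (Γ.pHom e y : ℂ)

theorem indP_gen (e : ℤˣ) : IsGeneralizedCharacter H (Γ.indP e) :=
  IsGeneralizedCharacter.indFun (IsCharacter.isGeneralized (isCharacter_linear (Γ.pHom e)))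

theorem indP_central (e : ℤˣ) :
    Γ.indP e 1 = Qc ^ 2 - 1 ∧ Γ.indP e z = (Qc ^ 2 - 1) * ((e : ℤ) : ℂ) := by
  have hc : (Nat.card H : ℂ) = (Qc ^ 2 - 1) * (Nat.card (Subgroup.zpowers (z * Γ.x)) : ℂ) := by
    rw [Γ.zpowers_zx_ord]; exact Γ.card_eq_P
  constructor
  · rw [indP, Γ.indFun_central _ _ (fun g => by simp) (one_mem _) hc,
      show (⟨1, one_mem _⟩ : Subgroup.zpowers (z * Γ.x)) = 1 from rfl, map_one, Units.val_one, mul_one]
  · rw [indP, Γ.indFun_central _ _ Γ.z_comm Γ.z_mem_zpowers hc, Γ.pHom_z]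

theorem indP_off (e : ℤˣ) {y : H} (hy : y ∈ punct Γ.T z ∨ y ∈ punct Γ.S z) : Γ.indP e y = 0 :=
  indFun_eq_zero_of_forall _ _ _ (Γ.not_P y hy)

theorem sum_pHom_x (e : ℤˣ) : ∑ y ∈ cl {Γ.x},
    extendByZero (Subgroup.zpowers (z * Γ.x)) (fun y => (Γ.pHom e y : ℂ)) y = -1 := by
  have hcl : ∀ y : H, y ∈ cl {Γ.x} ↔ orderOf y = p := fun y => by
    rw [mem_cl]
    constructor
    · rintro ⟨d, hd, g, rfl⟩
      rw [Finset.mem_singleton.1 hd]
      exact ((SemiconjBy.conj_mk g Γ.x).orderOf_eq g).symm.trans Γ.x_ord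
    · intro h
      obtain ⟨g, hg⟩ := isConj_iff.1 (Γ.x_conj y h)
      exact ⟨_, Finset.mem_singleton_self _, g, hg⟩
  have hle : Subgroup.zpowers Γ.x ≤ Subgroup.zpowers (z * Γ.x) := Subgroup.zpowers_le.2 Γ.x_mem_zpowers
  have hP : ∀ y : H, orderOf y = p → y ∈ Subgroup.zpowers (z * Γ.x) → y ∈ Subgroup.zpowers Γ.x := by
    intro y hy hmem
    obtain ⟨i, rfl⟩ := mem_powers_iff_mem_zpowers.2 hmem
    have h2 : (z * Γ.x) ^ (i * p) = 1 := by
      rw [pow_mul]; exact orderOf_dvd_iff_pow_eq_one.1 (dvd_of_eq hy)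
    have h3 : 2 * p ∣ i * p := Γ.orderOf_zx ▸ orderOf_dvd_of_pow_eq_one h2
    obtain ⟨c, rfl⟩ := Nat.dvd_of_mul_dvd_mul_right Γ.prime.pos h3
    show (z * Γ.x) ^ (2 * c) ∈ Subgroup.zpowers Γ.x
    rw [Commute.mul_pow (Γ.z_comm Γ.x).symm, pow_mul z, pow_two, Γ.z_sq, one_pow, one_mul]
    exact Subgroup.npow_mem_zpowers _ _
  let φ : Subgroup.zpowers Γ.x →* ℂ :=
    ((Units.coeHom ℂ).comp (Γ.pHom e)).comp (Subgroup.inclusion hle)
  have hφ : φ ≠ 1 := fun h => Γ.pHom_x e (hle (Subgroup.mem_zpowers _))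
    (Units.ext (show φ ⟨Γ.x, Subgroup.mem_zpowers _⟩ = 1 from DFunLike.congr_fun h _))
  have h0 := sum_hom_units_eq_zero φ hφ
  have hF : ∀ y : Subgroup.zpowers Γ.x,
      φ y = extendByZero (Subgroup.zpowers (z * Γ.x)) (fun y => (Γ.pHom e y : ℂ)) y := fun y => by
    rw [extendByZero_mem _ (hle y.2)]; rfl
  rw [Finset.sum_congr rfl fun y _ => hF y, ← Finset.sum_subtype
    (p := (· ∈ Subgroup.zpowers Γ.x)) (Finset.univ.filter (· ∈ Subgroup.zpowers Γ.x)) (fun y => by simp)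
    (fun y => extendByZero (Subgroup.zpowers (z * Γ.x)) (fun y => (Γ.pHom e y : ℂ)) y)] at h0
  have hsub : (cl {Γ.x}).filter (· ∈ Subgroup.zpowers (z * Γ.x)) =
      (Finset.univ.filter (· ∈ Subgroup.zpowers Γ.x)).erase 1 := by
    ext y
    simp only [Finset.mem_filter, Finset.mem_erase, Finset.mem_univ, true_and, hcl]
    constructor
    · rintro ⟨h1, h2⟩
      exact ⟨fun h => Γ.prime.ne_one (h1.symm.trans (by rw [h, orderOf_one])), hP y h1 h2⟩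
    · rintro ⟨h1, h2⟩
      refine ⟨(Γ.prime.eq_one_or_self_of_dvd _ ?_).resolve_left (mt orderOf_eq_one_iff.1 h1), hle h2⟩
      exact Γ.x_ord ▸ orderOf_dvd_of_mem_zpowers h2
  rw [← Finset.sum_filter_of_ne (p := (· ∈ Subgroup.zpowers (z * Γ.x))) fun y _ h => by
    by_contra hn; exact h (extendByZero_not_mem _ hn), hsub]
  have h1 := Finset.add_sum_erase (Finset.univ.filter (· ∈ Subgroup.zpowers Γ.x))
    (fun y => extendByZero (Subgroup.zpowers (z * Γ.x)) (fun y => (Γ.pHom e y : ℂ)) y)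
    (Finset.mem_filter.2 ⟨Finset.mem_univ _, one_mem _⟩)
  rw [h0, extendByZero_mem _ (one_mem _),
    show (⟨1, one_mem _⟩ : Subgroup.zpowers (z * Γ.x)) = 1 from rfl, map_one, Units.val_one] at h1
  linear_combination h1

theorem indP_x (e : ℤˣ) : Γ.indP e Γ.x = -1 ∧ Γ.indP e (z * Γ.x) = -((e : ℤ) : ℂ) := by
  set F := extendByZero (Subgroup.zpowers (z * Γ.x)) (fun y => (Γ.pHom e y : ℂ)) with hF
  have hz : ∀ y : H, F (z * y) = ((e : ℤ) : ℂ) * F y := by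
    intro y
    by_cases hy : y ∈ Subgroup.zpowers (z * Γ.x)
    · rw [hF, extendByZero_mem _ hy, extendByZero_mem _ (mul_mem Γ.z_mem_zpowers hy),
        show (⟨z * y, _⟩ : Subgroup.zpowers (z * Γ.x)) = ⟨z, Γ.z_mem_zpowers⟩ * ⟨y, hy⟩ from rfl, map_mul,
        Units.val_mul, Γ.pHom_z]
    · rw [hF, extendByZero_not_mem _ hy, extendByZero_not_mem _
        (fun h => hy ((Subgroup.mul_mem_cancel_left _ Γ.z_mem_zpowers).1 h)), mul_zero]
  have key : ∀ d : H, (Finset.univ.filter fun h : H => h * d * h⁻¹ ∈ ({d} : Finset H)).card = 2 * p →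
      Γ.indP e d = ∑ y ∈ cl {d}, F y := by
    intro d hd
    have h := mul_sum_conjugates {d} (2 * p) (fun d' hd' => by rw [Finset.mem_singleton.1 hd']; exact hd) F
    simp only [Finset.sum_singleton] at h
    rw [indP, indFun_apply, Γ.zpowers_zx_ord,
      show ∑ x : H, F (x⁻¹ * d * x) = ∑ x : H, F (x * d * x⁻¹) from
        Fintype.sum_equiv (Equiv.inv H) _ _ fun x => by simp, ← h, ← mul_assoc, inv_mul_cancel₀, one_mul]
    · rfl
    · simp [Γ.prime.ne_zero]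
  refine ⟨(key _ Γ.fusion_x).trans (Γ.sum_pHom_x e), (key _ Γ.fusion_zx).trans ?_⟩
  have hcl : cl {z * Γ.x} = (cl {Γ.x}).image (z * ·) := by
    ext y
    simp only [mem_cl, Finset.mem_image, Finset.mem_singleton, exists_eq_left]
    constructor
    · rintro ⟨g, rfl⟩
      exact ⟨g * Γ.x * g⁻¹, ⟨g, rfl⟩, by
        rw [show g * (z * Γ.x) * g⁻¹ = g * z * g⁻¹ * (g * Γ.x * g⁻¹) by group, Γ.conj_z]⟩
    · rintro ⟨_, ⟨g, rfl⟩, rfl⟩
      exact ⟨g, by rw [show g * (z * Γ.x) * g⁻¹ = g * z * g⁻¹ * (g * Γ.x * g⁻¹) by group, Γ.conj_z]⟩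
  rw [hcl, Finset.sum_image fun a _ b _ h => mul_left_cancel h, Finset.sum_congr rfl fun y _ => hz y,
    ← Finset.mul_sum, Γ.sum_pHom_x]
  ring

/-- The linear character with kernel `N`. -/
noncomputable def sgn : H →* ℂˣ where
  toFun y := if y ∈ Γ.N then 1 else -1
  map_one' := if_pos (one_mem _)
  map_mul' a b := by
    have h := Subgroup.mul_mem_iff_of_index_two Γ.N_index (a := a) (b := b)
    by_cases ha : a ∈ Γ.N <;> by_cases hb : b ∈ Γ.N <;> simp [ha, hb, h]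

/-- The sign as a function. -/
noncomputable def sg (y : H) : ℂ := (Γ.sgn y : ℂ)

theorem sg_apply (y : H) : Γ.sg y = if y ∈ Γ.N then 1 else -1 := by
  show ((if y ∈ Γ.N then (1 : ℂˣ) else -1 : ℂˣ) : ℂ) = _
  split_ifs <;> simp

theorem sg_T {t : H} (ht : t ∈ Γ.T) : Γ.sg t = Γ.om t ^ (2 ^ Γ.k) := by rw [Γ.sg_apply, Γ.om_sgn ht]

theorem sg_central : Γ.sg 1 = 1 ∧ Γ.sg z = 1 ∧ Γ.sg Γ.x = 1 ∧ Γ.sg (z * Γ.x) = 1 := by
  simp [Γ.sg_apply, one_mem, Γ.z_N, Γ.x_N, mul_mem Γ.z_N Γ.x_N]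

/-! ### The test functions -/

/-- `(1 - sgn) (1 - St)`. -/
noncomputable def t0 : H → ℂ := Γ.indT 0 - Γ.indT (2 ^ Γ.k)

/-- `F - sgn - St`. -/
noncomputable def t2 : H → ℂ :=
  Γ.indS - Γ.indP (-1) - Γ.sg - (fun _ => 1) - Γ.indP 1 + Γ.indT 0

/-- `1 - St + e j`. -/
noncomputable def tphi (j : ℕ) : H → ℂ :=
  Γ.indT 0 - Γ.indT j + if Even j then 0 else Γ.indP (-1) - Γ.indP 1

theorem t0_gen : IsGeneralizedCharacter H Γ.t0 :=
  IsGeneralizedCharacter.sub (Γ.indT_gen _) (Γ.indT_gen _)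

theorem t2_gen : IsGeneralizedCharacter H Γ.t2 :=
  IsGeneralizedCharacter.add (IsGeneralizedCharacter.sub (IsGeneralizedCharacter.sub (IsGeneralizedCharacter.sub
    (IsGeneralizedCharacter.sub Γ.indS_gen (Γ.indP_gen _))
      (IsCharacter.isGeneralized (isCharacter_linear Γ.sgn)))
        (IsCharacter.isGeneralized isCharacter_one)) (Γ.indP_gen _)) (Γ.indT_gen _)

theorem tphi_gen (j : ℕ) : IsGeneralizedCharacter H (Γ.tphi j) := by
  refine IsGeneralizedCharacter.add (IsGeneralizedCharacter.sub (Γ.indT_gen _) (Γ.indT_gen _)) ?_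
  split_ifs
  · exact isGeneralized_zero
  · exact IsGeneralizedCharacter.sub (Γ.indP_gen _) (Γ.indP_gen _)

theorem t0_values : Γ.t0 1 = 0 ∧ Γ.t0 z = 0 ∧ Γ.t0 Γ.x = 0 ∧ Γ.t0 (z * Γ.x) = 0 ∧
    (∀ t ∈ punct Γ.T z, Γ.t0 t = 2 * (1 - Γ.sg t)) ∧ ∀ s ∈ punct Γ.S z, Γ.t0 s = 0 := by
  have he : Even (2 ^ Γ.k) := Nat.even_pow.2 ⟨even_two, by have := Γ.two_le_k; omega⟩
  refine ⟨?_, ?_, ?_, ?_, fun t ht => ?_, fun s hs => ?_⟩ <;> simp only [t0, Pi.sub_apply]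
  · rw [(Γ.indT_central 0).1, (Γ.indT_central _).1, sub_self]
  · rw [(Γ.indT_central 0).2, (Γ.indT_central _).2, he.neg_one_pow, pow_zero, sub_self]
  · rw [Γ.indT_off _ (Or.inl rfl), Γ.indT_off _ (Or.inl rfl), sub_self]
  · rw [Γ.indT_off _ (Or.inr (Or.inl rfl)), Γ.indT_off _ (Or.inr (Or.inl rfl)), sub_self]
  · have ht' := (mem_punct.1 ht).1
    have hodd : Odd (2 ^ Γ.k - 1) := Nat.Even.sub_odd Nat.one_le_two_pow he odd_one
    rw [Γ.indT_T _ ht, Γ.indT_T _ ht, zero_mul, pow_zero, pow_mul, ← Γ.sg_T ht', Γ.sg_apply]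
    split_ifs
    · rw [one_pow]; ring
    · rw [hodd.neg_one_pow]; ring
  · rw [Γ.indT_off _ (Or.inr (Or.inr hs)), Γ.indT_off _ (Or.inr (Or.inr hs)), sub_self]

theorem t2_values : Γ.t2 1 = 0 ∧ Γ.t2 z = -2 * (Qc + 1) ∧ Γ.t2 Γ.x = 0 ∧ Γ.t2 (z * Γ.x) = -2 ∧
    (∀ t ∈ punct Γ.T z, Γ.t2 t = 1 - Γ.sg t) ∧
    ∀ s ∈ punct Γ.S z, Γ.t2 s = if s ^ sOdd p = z then -4 else 0 := by
  obtain ⟨g1, gz, gx, gzx⟩ := Γ.sg_central
  refine ⟨?_, ?_, ?_, ?_, fun t ht => ?_, fun s hs => ?_⟩ <;> simp only [t2, Pi.sub_apply, Pi.add_apply]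
  · rw [Γ.indS_central.1, (Γ.indP_central _).1, (Γ.indP_central _).1, (Γ.indT_central 0).1, g1]; ring
  · rw [Γ.indS_central.2, (Γ.indP_central _).2, (Γ.indP_central _).2, (Γ.indT_central 0).2, gz]
    push_cast; ring
  · rw [Γ.indS_off (Or.inl rfl), (Γ.indP_x _).1, (Γ.indP_x _).1, Γ.indT_off _ (Or.inl rfl), gx]; ring
  · rw [Γ.indS_off (Or.inr (Or.inl rfl)), (Γ.indP_x _).2, (Γ.indP_x _).2,
      Γ.indT_off _ (Or.inr (Or.inl rfl)), gzx]
    push_cast; ring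
  · rw [Γ.indS_off (Or.inr (Or.inr ht)), Γ.indP_off _ (Or.inl ht), Γ.indP_off _ (Or.inl ht), Γ.indT_T _ ht]
    ring
  · rw [Γ.indS_S hs, Γ.indP_off _ (Or.inr hs), Γ.indP_off _ (Or.inr hs), Γ.indT_off _ (Or.inr (Or.inr hs)),
      Γ.sg_apply]
    have hN := Γ.S_mem_N_iff (mem_punct.1 hs).1
    by_cases h1 : s ^ sOdd p = 1
    · rw [if_pos h1, if_pos (hN.2 (Or.inl h1)), if_neg (by rw [h1]; exact Γ.z_ne.symm)]; ring
    · by_cases h2 : s ^ sOdd p = z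
      · rw [if_neg h1, if_pos h2, if_pos (hN.2 (Or.inr h2)), if_pos h2]; ring
      · rw [if_neg h1, if_neg h2, if_neg (by rw [hN]; tauto), if_neg h2]; ring

theorem tphi_values (j : ℕ) : Γ.tphi j 1 = 0 ∧ Γ.tphi j z = (1 - (-1) ^ j) * (1 - Qc) ∧ Γ.tphi j Γ.x = 0 ∧
    Γ.tphi j (z * Γ.x) = 1 - (-1) ^ j ∧
    (∀ t ∈ punct Γ.T z, Γ.tphi j t = 2 - Γ.om t ^ j - Γ.om t ^ (j * (2 ^ Γ.k - 1))) ∧
    ∀ s ∈ punct Γ.S z, Γ.tphi j s = 0 := by
  refine ⟨?_, ?_, ?_, ?_, fun t ht => ?_, fun s hs => ?_⟩ <;>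
    simp only [tphi, Pi.sub_apply, Pi.add_apply] <;> rcases Nat.even_or_odd j with hj | hj <;>
    first
      | rw [if_pos hj]
      | rw [if_neg (Nat.not_even_iff_odd.2 hj)]
  all_goals simp only [Pi.sub_apply, Pi.zero_apply, (Γ.indT_central 0).1, (Γ.indT_central j).1,
    (Γ.indT_central 0).2, (Γ.indT_central j).2, (Γ.indP_central 1).1, (Γ.indP_central (-1)).1,
    (Γ.indP_central 1).2, (Γ.indP_central (-1)).2, (Γ.indP_x 1).1, (Γ.indP_x (-1)).1, (Γ.indP_x 1).2,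
    (Γ.indP_x (-1)).2, Γ.indT_off 0 (y := Γ.x) (Or.inl rfl), Γ.indT_off j (y := Γ.x) (Or.inl rfl),
    Γ.indT_off 0 (y := z * Γ.x) (Or.inr (Or.inl rfl)), Γ.indT_off j (y := z * Γ.x) (Or.inr (Or.inl rfl)),
    hj.neg_one_pow, pow_zero]
  all_goals first
    | (rw [Γ.indT_T _ ht, Γ.indT_T _ ht]
       try rw [Γ.indP_off _ (Or.inl ht), Γ.indP_off _ (Or.inl ht)]
       rw [zero_mul, pow_zero]; ring)
    | (rw [Γ.indT_off _ (Or.inr (Or.inr hs)), Γ.indT_off _ (Or.inr (Or.inr hs))]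
       try rw [Γ.indP_off _ (Or.inr hs), Γ.indP_off _ (Or.inr hs)]
       ring)
    | (push_cast; ring)

end Cfsg.Lib.SemiCyclic.Geo
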